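import Mathlib
import Cfsg.Agent.TitsThree.WittFrame
import Cfsg.Agent.TitsThree.SpIdent
import Cfsg.Agent.Nodes.WittRGD
import Cfsg.Agent.Nodes.WittModel
import Cfsg.Agent.ChevalleyStructure.SL2Hom
import Cfsg.Agent.KFacts.MulOdd.InstChev

/-!
# `SL(2, F)` in the isometry group of a Witt frame

* `phiS`: the homomorphism of `SL(2, F)` onto the group generated by the type I root elements of two opposite roots,
  `phiS_range`, `phiS_injective`, `phiS_mono`.
* `phiL`: the same for the type II root elements of a symplectic frame.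
-/

set_option autoImplicit false
set_option linter.unusedSectionVars false

namespace Cfsg.Agent.H62.FrameSL

open Cfsg.Agent.TitsThree.Siegel Cfsg.Agent.TitsThree.WittFrame Cfsg.Agent.TitsThree.SpIdent
open Cfsg.Agent.Nodes.WittRoot
open Cfsg.Agent.ChevalleyStructure.SL2Hom (up lo mem_closure_SL2)
open scoped MatrixGroups

variable {F : Type*} [Field F] {V : Type*} [AddCommGroup V] [Module F V] {H : HForm F V} {n : ℕ}
  (Fr : Frame H (Fin n))

section values

theorem ht (i : Fin n) : H.h (Fr.b (i, true)) (Fr.b (i, false)) = 1 := by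
  rw [Fr.hb]; simp

theorem hf (i : Fin n) : H.h (Fr.b (i, false)) (Fr.b (i, true)) = H.ε := by
  rw [Fr.hb]; simp

theorem hs (i j : Fin n) (s : Bool) : H.h (Fr.b (i, s)) (Fr.b (j, s)) = 0 := by
  rw [Fr.hb]; simp

theorem hn {i j : Fin n} (h : i ≠ j) (s t : Bool) : H.h (Fr.b (i, s)) (Fr.b (j, t)) = 0 := by
  rw [Fr.hb]; simp [h]

end values

/-- The linear map of a matrix in the coordinates `i`, `j`. -/
def linS (i j : Fin n) (g : Matrix (Fin 2) (Fin 2) F) : V →ₗ[F] V where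
  toFun v := v + ((g 0 0 - 1) * H.h v (Fr.b (i, false)) + g 0 1 * H.h v (Fr.b (j, false))) • Fr.b (i, true)
    + (g 1 0 * H.h v (Fr.b (i, false)) + (g 1 1 - 1) * H.h v (Fr.b (j, false))) • Fr.b (j, true)
    + ((H.σ (g 1 1) - 1) * (H.ε⁻¹ * H.h v (Fr.b (i, true))) - H.σ (g 1 0) * (H.ε⁻¹ * H.h v (Fr.b (j, true))))
      • Fr.b (i, false)
    + (-H.σ (g 0 1) * (H.ε⁻¹ * H.h v (Fr.b (i, true))) + (H.σ (g 0 0) - 1) * (H.ε⁻¹ * H.h v (Fr.b (j, true))))
      • Fr.b (j, false)
  map_add' v v' := by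
    simp only [H.add_left]; module
  map_smul' a v := by
    simp only [H.smul_left, RingHom.id_apply]; module

theorem linS_apply (i j : Fin n) (g : Matrix (Fin 2) (Fin 2) F) (v : V) : linS Fr i j g v =
    v + ((g 0 0 - 1) * H.h v (Fr.b (i, false)) + g 0 1 * H.h v (Fr.b (j, false))) • Fr.b (i, true)
    + (g 1 0 * H.h v (Fr.b (i, false)) + (g 1 1 - 1) * H.h v (Fr.b (j, false))) • Fr.b (j, true)
    + ((H.σ (g 1 1) - 1) * (H.ε⁻¹ * H.h v (Fr.b (i, true))) - H.σ (g 1 0) * (H.ε⁻¹ * H.h v (Fr.b (j, true))))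
      • Fr.b (i, false)
    + (-H.σ (g 0 1) * (H.ε⁻¹ * H.h v (Fr.b (i, true))) + (H.σ (g 0 0) - 1) * (H.ε⁻¹ * H.h v (Fr.b (j, true))))
      • Fr.b (j, false) := rfl

theorem linS_mul {i j : Fin n} (hij : i ≠ j) (g k : Matrix (Fin 2) (Fin 2) F) (v : V) :
    linS Fr i j g (linS Fr i j k v) = linS Fr i j (g * k) v := by
  have hε := H.ε_ne
  rw [linS_apply Fr i j k v]
  simp only [linS_apply, H.add_left, H.smul_left, ht, hf, hs, hn Fr hij, hn Fr hij.symm, mul_zero, mul_one, add_zero,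
    zero_add, Matrix.mul_apply, Fin.sum_univ_two, map_add, map_mul]
  match_scalars <;> field_simp <;> ring

theorem linS_one (i j : Fin n) (v : V) : linS Fr i j 1 v = v := by
  simp [linS_apply]

/-- **`SL(2, F)` in the coordinates `i`, `j`.** -/
def phiS {i j : Fin n} (hij : i ≠ j) : SL(2, F) →* (V ≃ₗ[F] V) where
  toFun g := LinearEquiv.ofLinearMap (linS Fr i j g.1) (linS Fr i j (g⁻¹).1)
    (by
      ext v
      show linS Fr i j g.1 (linS Fr i j (g⁻¹).1 v) = v
      rw [linS_mul Fr hij, ← Matrix.SpecialLinearGroup.coe_mul, mul_inv_cancel]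
      exact linS_one Fr i j v)
    (by
      ext v
      show linS Fr i j (g⁻¹).1 (linS Fr i j g.1 v) = v
      rw [linS_mul Fr hij, ← Matrix.SpecialLinearGroup.coe_mul, inv_mul_cancel]
      exact linS_one Fr i j v)
  map_one' := by
    ext v
    exact linS_one Fr i j v
  map_mul' g k := by
    ext v
    exact (linS_mul Fr hij g.1 k.1 v).symm

theorem phiS_apply {i j : Fin n} (hij : i ≠ j) (g : SL(2, F)) (v : V) : phiS Fr hij g v = linS Fr i j g.1 v := rfl

theorem sc_false (j : Fin n) (t : F) : Fr.sc (j, false) t = -(H.ε⁻¹ * H.σ t) := by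
  simp [Frame.sc, Frame.η]

theorem X_apply {i j : Fin n} (hij : i ≠ j) (t : F) (v : V) : Fr.X (i, true) (j, false) t v =
    v - (H.σ t * (H.ε⁻¹ * H.h v (Fr.b (i, true)))) • Fr.b (j, false)
      + (t * H.h v (Fr.b (j, false))) • Fr.b (i, true) := by
  have hε := H.ε_ne
  rw [Fr.X_eq (x := (i, true)) (y := (j, false)) hij, H.sie_apply, sc_false, H.smul_right]
  simp only [map_neg, map_mul, H.σε', H.σσ]
  match_scalars <;> field_simp <;> ring

theorem phiS_up {i j : Fin n} (hij : i ≠ j) (t : F) : phiS Fr hij (up t) = Fr.X (i, true) (j, false) t := by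
  ext v
  rw [phiS_apply, X_apply Fr hij, linS_apply]
  simp [up]
  module

theorem phiS_lo {i j : Fin n} (hij : i ≠ j) (t : F) : phiS Fr hij (lo t) = Fr.X (j, true) (i, false) t := by
  ext v
  rw [phiS_apply, X_apply Fr hij.symm, linS_apply]
  simp [lo]
  module

theorem phiS_e {i j : Fin n} (hij : i ≠ j) (g : SL(2, F)) :
    phiS Fr hij g (Fr.b (i, true)) = g.1 0 0 • Fr.b (i, true) + g.1 1 0 • Fr.b (j, true) := by
  rw [phiS_apply, linS_apply]
  simp only [ht, hs, hn Fr hij, mul_zero, mul_one, add_zero, sub_zero, zero_smul]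
  module

theorem phiS_e' {i j : Fin n} (hij : i ≠ j) (g : SL(2, F)) :
    phiS Fr hij g (Fr.b (j, true)) = g.1 0 1 • Fr.b (i, true) + g.1 1 1 • Fr.b (j, true) := by
  rw [phiS_apply, linS_apply]
  simp only [ht, hs, hn Fr hij.symm, mul_zero, mul_one, add_zero, zero_add, sub_zero, zero_smul]
  module

theorem indep {i j : Fin n} (hij : i ≠ j) {a b c d : F} {s : Bool}
    (h : a • Fr.b (i, s) + b • Fr.b (j, s) = c • Fr.b (i, s) + d • Fr.b (j, s)) : a = c ∧ b = d := by
  have hε := H.ε_ne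
  constructor
  · have h1 := congrArg (fun v => H.h v (Fr.b (i, !s))) h
    simp only [H.add_left, H.smul_left, hn Fr hij.symm, mul_zero, add_zero] at h1
    cases s
    · rw [Bool.not_false, hf] at h1
      exact mul_right_cancel₀ hε h1
    · rw [Bool.not_true, ht, mul_one, mul_one] at h1
      exact h1
  · have h1 := congrArg (fun v => H.h v (Fr.b (j, !s))) h
    simp only [H.add_left, H.smul_left, hn Fr hij, mul_zero, zero_add] at h1
    cases s
    · rw [Bool.not_false, hf] at h1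
      exact mul_right_cancel₀ hε h1
    · rw [Bool.not_true, ht, mul_one, mul_one] at h1
      exact h1

theorem phiS_injective {i j : Fin n} (hij : i ≠ j) : Function.Injective (phiS Fr hij) := by
  intro g k h
  have h1 := phiS_e Fr hij g
  rw [h, phiS_e] at h1
  have h2 := phiS_e' Fr hij g
  rw [h, phiS_e'] at h2
  obtain ⟨a1, a2⟩ := indep Fr hij h1
  obtain ⟨a3, a4⟩ := indep Fr hij h2
  apply Subtype.ext
  ext u v
  fin_cases u <;> fin_cases v
  · exact a1.symm
  · exact a3.symm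
  · exact a2.symm
  · exact a4.symm

theorem phiS_range {i j : Fin n} (hij : i ≠ j) :
    (phiS Fr hij).range = XG Fr (i, true) (j, false) ⊔ XG Fr (j, true) (i, false) := by
  apply le_antisymm
  · rintro _ ⟨g, rfl⟩
    have h1 : Subgroup.closure (Set.range (up (F := F)) ∪ Set.range (lo (F := F))) ≤
        (XG Fr (i, true) (j, false) ⊔ XG Fr (j, true) (i, false)).comap (phiS Fr hij) := by
      rw [Subgroup.closure_le]
      rintro _ (⟨a, rfl⟩ | ⟨a, rfl⟩)
      · exact (le_sup_left : XG Fr (i, true) (j, false) ≤ _) ⟨a, phiS_up Fr hij a⟩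
      · exact (le_sup_right : XG Fr (j, true) (i, false) ≤ _) ⟨a, phiS_lo Fr hij a⟩
    exact h1 (mem_closure_SL2 g)
  · refine sup_le ?_ ?_
    · rintro _ ⟨a, rfl⟩
      exact ⟨_, phiS_up Fr hij a⟩
    · rintro _ ⟨a, rfl⟩
      exact ⟨_, phiS_lo Fr hij a⟩

/-- The elements of the torus. -/
theorem phiS_mono {i j : Fin n} (hij : i ≠ j) {g : SL(2, F)} (hg : Mono Fr (phiS Fr hij g) id) :
    g.1 0 1 = 0 ∧ g.1 1 0 = 0 := by
  obtain ⟨l, -, h1⟩ := hg (i, true)
  rw [phiS_e, id] at h1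
  obtain ⟨m, -, h2⟩ := hg (j, true)
  rw [phiS_e', id] at h2
  have h3 : g.1 0 0 • Fr.b (i, true) + g.1 1 0 • Fr.b (j, true) = l • Fr.b (i, true) + (0 : F) • Fr.b (j, true) := by
    rw [h1, zero_smul, add_zero]
  have h4 : g.1 0 1 • Fr.b (i, true) + g.1 1 1 • Fr.b (j, true) = (0 : F) • Fr.b (i, true) + m • Fr.b (j, true) := by
    rw [h2, zero_smul, zero_add]
  exact ⟨(indep Fr hij h4).1, (indep Fr hij h3).2⟩

/-! ### The torus of the rank one group -/

theorem card_diag_le [Finite F] {P : SL(2, F) → Prop} (hP : ∀ g, P g → g.1 0 1 = 0 ∧ g.1 1 0 = 0) :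
    Nat.card {g : SL(2, F) // P g} ≤ Nat.card Fˣ := by
  have hd : ∀ g : SL(2, F), P g → g.1 0 0 * g.1 1 1 = 1 := by
    intro g hg
    have h1 := g.det_coe
    rw [Matrix.det_fin_two, (hP g hg).1, zero_mul, sub_zero] at h1
    exact h1
  refine Nat.card_le_card_of_injective
    (fun g : {g : SL(2, F) // P g} => Units.mk0 (g.1.1 0 0) (left_ne_zero_of_mul_eq_one (hd g.1 g.2))) ?_
  intro g k hgk
  have h1 : g.1.1 0 0 = k.1.1 0 0 := by simpa using congrArg Units.val hgk
  apply Subtype.ext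
  apply Subtype.ext
  ext u v
  fin_cases u <;> fin_cases v
  · exact h1
  · exact ((hP _ g.2).1).trans ((hP _ k.2).1).symm
  · exact ((hP _ g.2).2).trans ((hP _ k.2).2).symm
  · have h2 := hd _ g.2
    have h3 := hd _ k.2
    rw [h1] at h2
    exact mul_left_cancel₀ (left_ne_zero_of_mul_eq_one h3) (h2.trans h3.symm)

theorem card_inf_le [Finite F] {Y : Type*} [Group Y] (φ : SL(2, F) →* Y) (T L : Subgroup Y) (hL : φ.range = L)
    (hT : ∀ g, φ g ∈ T → g.1 0 1 = 0 ∧ g.1 1 0 = 0) : Nat.card ↥(T ⊓ L) ≤ Nat.card Fˣ := by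
  refine le_trans ?_ (card_diag_le (P := fun g => φ g ∈ T) hT)
  have : Finite {g : SL(2, F) // φ g ∈ T} := inferInstance
  refine Nat.card_le_card_of_surjective (fun g : {g : SL(2, F) // φ g ∈ T} =>
    (⟨φ g.1, Subgroup.mem_inf.2 ⟨g.2, hL ▸ ⟨g.1, rfl⟩⟩⟩ : ↥(T ⊓ L))) ?_
  rintro ⟨y, hy⟩
  obtain ⟨h1, h2⟩ := Subgroup.mem_inf.1 hy
  rw [← hL] at h2
  obtain ⟨g, rfl⟩ := h2
  exact ⟨⟨g, h1⟩, rfl⟩

/-! ### The long roots of a symplectic frame -/

/-- The linear map of a matrix in the hyperbolic plane `i`. -/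
def linL (i : Fin n) (g : Matrix (Fin 2) (Fin 2) F) : V →ₗ[F] V where
  toFun v := v + ((g 0 0 - 1) * H.h v (Fr.b (i, false)) + g 0 1 * (H.ε⁻¹ * H.h v (Fr.b (i, true)))) • Fr.b (i, true)
    + (g 1 0 * H.h v (Fr.b (i, false)) + (g 1 1 - 1) * (H.ε⁻¹ * H.h v (Fr.b (i, true)))) • Fr.b (i, false)
  map_add' v v' := by
    simp only [H.add_left]; module
  map_smul' a v := by
    simp only [H.smul_left, RingHom.id_apply]; module

theorem linL_apply (i : Fin n) (g : Matrix (Fin 2) (Fin 2) F) (v : V) : linL Fr i g v =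
    v + ((g 0 0 - 1) * H.h v (Fr.b (i, false)) + g 0 1 * (H.ε⁻¹ * H.h v (Fr.b (i, true)))) • Fr.b (i, true)
    + (g 1 0 * H.h v (Fr.b (i, false)) + (g 1 1 - 1) * (H.ε⁻¹ * H.h v (Fr.b (i, true)))) • Fr.b (i, false) := rfl

theorem linL_mul (i : Fin n) (g k : Matrix (Fin 2) (Fin 2) F) (v : V) :
    linL Fr i g (linL Fr i k v) = linL Fr i (g * k) v := by
  have hε := H.ε_ne
  rw [linL_apply Fr i k v]
  simp only [linL_apply, H.add_left, H.smul_left, ht, hf, hs, mul_zero, mul_one, add_zero,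
    Matrix.mul_apply, Fin.sum_univ_two]
  match_scalars <;> field_simp <;> ring

theorem linL_one (i : Fin n) (v : V) : linL Fr i 1 v = v := by
  simp [linL_apply]

/-- **`SL(2, F)` on the hyperbolic plane `i`.** -/
def phiL (i : Fin n) : SL(2, F) →* (V ≃ₗ[F] V) where
  toFun g := LinearEquiv.ofLinearMap (linL Fr i g.1) (linL Fr i (g⁻¹).1)
    (by
      ext v
      show linL Fr i g.1 (linL Fr i (g⁻¹).1 v) = v
      rw [linL_mul, ← Matrix.SpecialLinearGroup.coe_mul, mul_inv_cancel]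
      exact linL_one Fr i v)
    (by
      ext v
      show linL Fr i (g⁻¹).1 (linL Fr i g.1 v) = v
      rw [linL_mul, ← Matrix.SpecialLinearGroup.coe_mul, inv_mul_cancel]
      exact linL_one Fr i v)
  map_one' := by
    ext v
    exact linL_one Fr i v
  map_mul' g k := by
    ext v
    exact (linL_mul Fr i g.1 k.1 v).symm

theorem phiL_apply (i : Fin n) (g : SL(2, F)) (v : V) : phiL Fr i g v = linL Fr i g.1 v := rfl

theorem phiL_e (i : Fin n) (g : SL(2, F)) :
    phiL Fr i g (Fr.b (i, true)) = g.1 0 0 • Fr.b (i, true) + g.1 1 0 • Fr.b (i, false) := by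
  rw [phiL_apply, linL_apply]
  simp only [ht, hs, mul_zero, mul_one, add_zero]
  module

theorem phiL_f (i : Fin n) (g : SL(2, F)) :
    phiL Fr i g (Fr.b (i, false)) = g.1 0 1 • Fr.b (i, true) + g.1 1 1 • Fr.b (i, false) := by
  have hε := H.ε_ne
  rw [phiL_apply, linL_apply]
  simp only [hf, hs, mul_zero, zero_add, inv_mul_cancel₀ hε, mul_one]
  module

theorem indepL (i : Fin n) {a b c d : F}
    (h : a • Fr.b (i, true) + b • Fr.b (i, false) = c • Fr.b (i, true) + d • Fr.b (i, false)) : a = c ∧ b = d := by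
  have hε := H.ε_ne
  constructor
  · have h1 := congrArg (fun v => H.h v (Fr.b (i, false))) h
    simp only [H.add_left, H.smul_left, hs, ht, mul_zero, add_zero, mul_one] at h1
    exact h1
  · have h1 := congrArg (fun v => H.h v (Fr.b (i, true))) h
    simp only [H.add_left, H.smul_left, hs, hf, mul_zero, zero_add] at h1
    exact mul_right_cancel₀ hε h1

theorem phiL_injective (i : Fin n) : Function.Injective (phiL Fr i) := by
  intro g k h
  have h1 := phiL_e Fr i g
  rw [h, phiL_e] at h1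
  have h2 := phiL_f Fr i g
  rw [h, phiL_f] at h2
  obtain ⟨a1, a2⟩ := indepL Fr i h1
  obtain ⟨a3, a4⟩ := indepL Fr i h2
  apply Subtype.ext
  ext u v
  fin_cases u <;> fin_cases v
  · exact a1.symm
  · exact a3.symm
  · exact a2.symm
  · exact a4.symm

/-- The elements of the torus. -/
theorem phiL_mono (i : Fin n) {g : SL(2, F)} (hg : Mono Fr (phiL Fr i g) id) :
    g.1 0 1 = 0 ∧ g.1 1 0 = 0 := by
  obtain ⟨l, -, h1⟩ := hg (i, true)
  rw [phiL_e, id] at h1
  obtain ⟨m, -, h2⟩ := hg (i, false)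
  rw [phiL_f, id] at h2
  have h3 : g.1 0 0 • Fr.b (i, true) + g.1 1 0 • Fr.b (i, false) = l • Fr.b (i, true) + (0 : F) • Fr.b (i, false) := by
    rw [h1, zero_smul, add_zero]
  have h4 : g.1 0 1 • Fr.b (i, true) + g.1 1 1 • Fr.b (i, false) = (0 : F) • Fr.b (i, true) + m • Fr.b (i, false) := by
    rw [h2, zero_smul, zero_add]
  exact ⟨(indepL Fr i h4).1, (indepL Fr i h3).2⟩

section Sp

variable {m : ℕ}

theorem Z_apply (x : Fin m × Bool) (c : F) (v : Fin m ⊕ Fin m → F) :
    (frame m F).Z x (adm c) v = v + (c * (form m F).h v ((frame m F).b x)) • (frame m F).b x := by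
  rw [Frame.Z, (form m F).sie_apply]
  have h1 : (adm c : (frame m F).Adm).w = 0 := rfl
  have h2 : (adm c : (frame m F).Adm).c = c := rfl
  rw [h1, h2, (form m F).zero_right]
  simp

theorem phiL_up (i : Fin m) (t : F) : phiL (frame m F) i (up t) = (frame m F).Z (i, true) (adm (-t)) := by
  ext1 v
  rw [phiL_apply, Z_apply, linL_apply]
  simp [up]

theorem phiL_lo (i : Fin m) (t : F) : phiL (frame m F) i (lo t) = (frame m F).Z (i, false) (adm t) := by
  ext1 v
  rw [phiL_apply, Z_apply, linL_apply]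
  simp [lo]

theorem phiL_range (i : Fin m) :
    (phiL (frame m F) i).range = ZG (frame m F) (i, true) ⊔ ZG (frame m F) (i, false) := by
  apply le_antisymm
  · rintro _ ⟨g, rfl⟩
    have h1 : Subgroup.closure (Set.range (up (F := F)) ∪ Set.range (lo (F := F))) ≤
        (ZG (frame m F) (i, true) ⊔ ZG (frame m F) (i, false)).comap (phiL (frame m F) i) := by
      rw [Subgroup.closure_le]
      rintro _ (⟨a, rfl⟩ | ⟨a, rfl⟩)
      · exact (le_sup_left : ZG (frame m F) (i, true) ≤ _) ⟨_, phiL_up i a⟩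
      · exact (le_sup_right : ZG (frame m F) (i, false) ≤ _) ⟨_, phiL_lo i a⟩
    exact h1 (mem_closure_SL2 g)
  · refine sup_le ?_ ?_
    · rintro _ ⟨a, rfl⟩
      refine ⟨up (-a.c), ?_⟩
      rw [phiL_up, _root_.neg_neg, ← eq_adm]
    · rintro _ ⟨a, rfl⟩
      refine ⟨lo a.c, ?_⟩
      rw [phiL_lo, ← eq_adm]

end Sp

end Cfsg.Agent.H62.FrameSL
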