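import Mathlib
import Cfsg.Agent.H67.PCov
import Cfsg.Agent.KFacts.Mult.Calc

/-!
# Lifting homomorphisms of perfect groups through central extensions with kernel of prime order

`exists_section` : `π : L → G` with kernel `⟨c⟩` of order `p`, `ι : S₀ → G` a homomorphism of a perfect group without
`p`-covers (relative to `L`): then `ι` lifts to `L`.
-/

set_option autoImplicit false
set_option linter.style.haveILetI false

namespace Cfsg.Agent.H62

open Subgroup Cfsg.Agent.H67
open scoped commutatorElement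

universe u v w

/-- A generator of prime order: every nontrivial power generates. -/
theorem mem_zpowers_of_prime {L : Type*} [Group L] {p : ℕ} (hp : p.Prime) {c : L} (hc : c ^ p = 1) {y : L}
    (hy : y ∈ zpowers c) (hy1 : y ≠ 1) : c ∈ zpowers y := by
  have hc1 : c ≠ 1 := by
    rintro rfl
    rw [zpowers_one_eq_bot, mem_bot] at hy
    exact hy1 hy
  haveI : Fact p.Prime := ⟨hp⟩
  have h1 : zpowers y = zpowers c := by
    have hle : zpowers y ≤ zpowers c := by rw [zpowers_le]; exact hy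
    have hyp : y ^ p = 1 := by
      obtain ⟨k, rfl⟩ := mem_zpowers_iff.1 hy
      rw [← zpow_natCast, ← zpow_mul, mul_comm, zpow_mul, zpow_natCast, hc, one_zpow]
    have hfin : Finite (zpowers c) := by
      apply Nat.finite_of_card_ne_zero
      rw [Nat.card_zpowers, orderOf_eq_prime hc hc1]
      exact hp.ne_zero
    refine eq_of_le_of_card_ge hle ?_
    rw [Nat.card_zpowers, Nat.card_zpowers, orderOf_eq_prime hc hc1, orderOf_eq_prime hyp hy1]
  rw [h1]
  exact mem_zpowers c

/-- **Lifting of a perfect group.** -/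
theorem exists_section {p : ℕ} (hp : p.Prime) {S₀ : Type v} [Group S₀] [Finite S₀] (hS : commutator S₀ = ⊤)
    {G : Type w} [Group G] (ι : S₀ →* G) {L : Type u} [Group L] [Finite L] {π : L →* G} {c : L}
    (hd : PCov p π c)
    (hno : ∀ (D : Type (max v u)) [Group D] [Finite D] (ρ : D →* S₀) (g : D →* L) (d : D), PCov p ρ d →
      (∀ x, π (g x) = ι (ρ x)) → (∀ x, ρ x = 1 → g x = 1 → x = 1) → False) :
    ∃ s : S₀ →* L, ∀ A, π (s A) = ι A := by
  classical
  let M : Subgroup (S₀ × L) := MonoidHom.eqLocus (ι.comp (MonoidHom.fst S₀ L)) (π.comp (MonoidHom.snd S₀ L))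
  have hM : ∀ x : S₀ × L, x ∈ M ↔ ι x.1 = π x.2 := fun x => Iff.rfl
  set D : Subgroup (S₀ × L) := ⁅M, M⁆ with hD
  have hDM : D ≤ M := by
    rw [hD, commutator_le]
    intro a ha b hb
    rw [commutatorElement_def]
    exact mul_mem (mul_mem (mul_mem ha hb) (inv_mem ha)) (inv_mem hb)
  have hMfst : M.map (MonoidHom.fst S₀ L) = ⊤ := by
    rw [eq_top_iff]
    intro A _
    obtain ⟨y, hy⟩ := hd.surj (ι A)
    exact ⟨(A, y), (hM _).2 hy.symm, rfl⟩
  have hDfst : D.map (MonoidHom.fst S₀ L) = ⊤ := by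
    rw [hD, map_commutator, hMfst, ← commutator_def, hS]
  let ρ : D →* S₀ := (MonoidHom.fst S₀ L).comp D.subtype
  let g : D →* L := (MonoidHom.snd S₀ L).comp D.subtype
  have hρs : Function.Surjective ρ := by
    intro A
    have : A ∈ D.map (MonoidHom.fst S₀ L) := by rw [hDfst]; trivial
    obtain ⟨x, hx, hxA⟩ := this
    exact ⟨⟨x, hx⟩, hxA⟩
  have hπg : ∀ x, π (g x) = ι (ρ x) := fun x => ((hM x.1).1 (hDM x.2)).symm
  have hinj : ∀ x, ρ x = 1 → g x = 1 → x = 1 := fun x h1 h2 => Subtype.ext (Prod.ext h1 h2)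
  by_cases hc : ((1 : S₀), c) ∈ D
  · exfalso
    refine hno D ρ g ⟨(1, c), hc⟩ ?_ hπg hinj
    refine ⟨?_, ?_, ?_, ?_, hρs, ?_⟩
    · intro h
      exact hd.ne (congrArg (fun x : D => x.1.2) h)
    · refine Subtype.ext (Prod.ext ?_ ?_)
      · show (1 : S₀) ^ p = 1
        rw [one_pow]
      · exact hd.pow
    · rintro ⟨x, hx⟩
      refine Subtype.ext (Prod.ext ?_ (hd.cen _))
      show 1 * x.1 = x.1 * 1
      rw [one_mul, mul_one]
    · -- `D` is perfect
      have hdec : ∀ m ∈ M, ∃ d ∈ D, ∃ y, π y = 1 ∧ m = d * ((1 : S₀), y) := by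
        intro m hm
        obtain ⟨⟨d, hdD⟩, hdm⟩ := hρs m.1
        have hdm' : d.1 = m.1 := hdm
        refine ⟨d, hdD, d.2⁻¹ * m.2, ?_, ?_⟩
        · rw [map_mul, map_inv, ← (hM m).1 hm, ← (hM d).1 (hDM hdD), hdm', inv_mul_cancel]
        · refine Prod.ext ?_ ?_
          · show m.1 = d.1 * 1
            rw [mul_one, hdm']
          · show m.2 = d.2 * (d.2⁻¹ * m.2)
            rw [mul_inv_cancel_left]
      have hcen : ∀ y, π y = 1 → ∀ x : S₀ × L, ((1 : S₀), y) * x = x * (1, y) := by
        intro y hy x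
        refine Prod.ext ?_ (hd.comm_of_pi hy _)
        show 1 * x.1 = x.1 * 1
        rw [one_mul, mul_one]
      have hle : D ≤ ⁅D, D⁆ := by
        conv_lhs => rw [hD]
        rw [commutator_le]
        intro a ha b hb
        obtain ⟨a', ha', y, hy, rfl⟩ := hdec a ha
        obtain ⟨b', hb', w, hw, rfl⟩ := hdec b hb
        have e1 := hcen y hy
        have e2 := hcen w hw
        have h1 : ⁅a' * ((1 : S₀), y), b' * ((1 : S₀), w)⁆ = ⁅a', b'⁆ := by
          rw [commutatorElement_def, commutatorElement_def]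
          calc a' * ((1 : S₀), y) * (b' * ((1 : S₀), w)) * (a' * ((1 : S₀), y))⁻¹ * (b' * ((1 : S₀), w))⁻¹
              = a' * (((1 : S₀), y) * (b' * ((1 : S₀), w))) * ((1 : S₀), y)⁻¹ * a'⁻¹ * (((1 : S₀), w)⁻¹ * b'⁻¹) := by
                group
            _ = a' * b' * (((1 : S₀), w) * a'⁻¹) * ((1 : S₀), w)⁻¹ * b'⁻¹ := by rw [e1]; group
            _ = a' * b' * a'⁻¹ * b'⁻¹ := by rw [e2]; group
        rw [h1]
        exact commutator_mem_commutator ha' hb'
      rw [eq_top_iff]
      rintro ⟨x, hx⟩ -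
      have h3 := hle hx
      have h4 : (⁅D, D⁆ : Subgroup (S₀ × L)) = (commutator D).map D.subtype := by
        rw [commutator_def, map_commutator, ← MonoidHom.range_eq_map, range_subtype]
      rw [h4] at h3
      obtain ⟨y, hy, hyx⟩ := h3
      have : y = ⟨x, hx⟩ := Subtype.ext hyx
      rwa [← this]
    · intro x
      constructor
      · intro hx
        have h1 : π x.1.2 = 1 := by
          have := hπg x
          rw [hx, map_one] at this
          exact this
        obtain ⟨k, hk⟩ := mem_zpowers_iff.1 ((hd.ker _).1 h1)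
        refine mem_zpowers_iff.2 ⟨k, Subtype.ext (Prod.ext ?_ ?_)⟩
        · show (1 : S₀) ^ k = x.1.1
          rw [one_zpow]
          exact (show x.1.1 = 1 from hx).symm
        · exact hk
      · intro hx
        obtain ⟨k, rfl⟩ := mem_zpowers_iff.1 hx
        rw [map_zpow]
        show (1 : S₀) ^ k = 1
        rw [one_zpow]
  · have hρi : Function.Injective ρ := by
      rw [injective_iff_map_eq_one]
      intro x hx
      by_contra hx1
      have h1 : π x.1.2 = 1 := by
        have := hπg x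
        rw [hx, map_one] at this
        exact this
      have h2 : x.1.2 ≠ 1 := fun h => hx1 (hinj x hx h)
      have h3 := mem_zpowers_of_prime hp hd.pow ((hd.ker _).1 h1) h2
      obtain ⟨k, hk⟩ := mem_zpowers_iff.1 h3
      apply hc
      have h4 : ((1 : S₀), c) = (x : S₀ × L) ^ k := by
        refine Prod.ext ?_ hk.symm
        show (1 : S₀) = x.1.1 ^ k
        rw [show x.1.1 = 1 from hx, one_zpow]
      rw [h4]
      exact zpow_mem x.2 k
    let eqv : D ≃* S₀ := MulEquiv.ofBijective ρ ⟨hρi, hρs⟩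
    refine ⟨g.comp eqv.symm.toMonoidHom, fun A => ?_⟩
    show π (g (eqv.symm A)) = ι A
    rw [hπg]
    congr 1
    exact eqv.apply_symm_apply A

theorem exists_section_of_noPCov {p : ℕ} (hp : p.Prime) {S₀ : Type v} [Group S₀] [Finite S₀]
    (hS : commutator S₀ = ⊤) (hno : NoPCov p S₀) {G : Type w} [Group G] (ι : S₀ →* G) {L : Type u} [Group L]
    [Finite L] {π : L →* G} {c : L} (hd : PCov p π c) : ∃ s : S₀ →* L, ∀ A, π (s A) = ι A :=
  exists_section hp hS ι hd fun _ _ _ _ _ _ h _ _ => hno.false h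

/-- Elements of square one of the kernel, `p` odd. -/
theorem eq_one_of_sq {p : ℕ} (hp : p.Prime) (hp2 : p ≠ 2) {L G : Type*} [Group L] [Group G] {π : L →* G} {c : L}
    (hd : PCov p π c) {y : L} (hy : π y = 1) (h2 : y * y = 1) : y = 1 := by
  have h1 : y ^ p = 1 := by
    obtain ⟨k, rfl⟩ := mem_zpowers_iff.1 ((hd.ker _).1 hy)
    rw [← zpow_natCast, ← zpow_mul, mul_comm, zpow_mul, zpow_natCast, hd.pow, one_zpow]
  have h3 : y ^ 2 = 1 := by rw [pow_two, h2]
  have h4 : Nat.Coprime p 2 := (Nat.coprime_primes hp Nat.prime_two).2 hp2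
  have h5 := Nat.dvd_gcd (orderOf_dvd_of_pow_eq_one h1) (orderOf_dvd_of_pow_eq_one h3)
  rw [h4.gcd_eq_one] at h5
  exact orderOf_eq_one_iff.1 (Nat.dvd_one.1 h5)

theorem ce {p : ℕ} {L G : Type*} [Group L] [Group G] {π : L →* G} {c : L} (hd : PCov p π c) :
    Cfsg.Agent.KFacts.Mult.Calc.CE π := ⟨hd.surj, hd.ker_le⟩

end Cfsg.Agent.H62
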