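import Mathlib
import Cfsg.Agent.H62.Section
import Cfsg.Agent.H62.SpEmb
import Cfsg.Agent.ClassicalGeometry.SympInvolutions
import Cfsg.Agent.LieClassical.SympPerfect
import Cfsg.Agent.S0245

/-!
# Perfect central extensions of the symplectic groups by `C_p`, `p` odd the characteristic

`step` : if the preimage of the stabiliser of a hyperbolic pair splits in a perfect central extension of `Sp_{2n+2}(q)`
with kernel of order `p`, there is a contradiction.
`noPCov` : `NoPCov p (Sp_{2n}(q))` for `n ≥ 2`, `q = p^a` odd, `(n, q) ≠ (2, 3)`, given `NoPCov 3 (Sp_4(3))` if `q = 3`.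
-/

set_option autoImplicit false
set_option linter.style.haveILetI false
set_option linter.unusedSectionVars false
open Cfsg
open scoped Matrix commutatorElement
open Cfsg.Agent.ClassicalGeometry.SympBasic Cfsg.Agent.ClassicalGeometry.SympSiegel

namespace Cfsg.Agent.H62.SpDef

open Cfsg.Agent.H62.SpEmb Cfsg.Agent.H67 Cfsg.Agent.KFacts.Mult.Calc
open Cfsg.Agent.ClassicalGeometry.SympInvolutions (negOne negOne_mem_center)

variable {F : Type*} [Field F] {n : ℕ}

local notation "V" => (Fin (n + 1) ⊕ Fin (n + 1) → F)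
local notation "V₀" => (Fin n ⊕ Fin n → F)
local notation "G" => Matrix.symplecticGroup (Fin (n + 1)) F
local notation "G₀" => Matrix.symplecticGroup (Fin n) F
local notation "f" => sympForm (n + 1) F
local notation "f₀" => sympForm n F

theorem negOne_smul (x : V₀) : negOne n F • x = -x := by
  rw [smul_def]
  show (-1 : Matrix (Fin n ⊕ Fin n) (Fin n ⊕ Fin n) F) *ᵥ x = -x
  rw [Matrix.neg_mulVec, Matrix.one_mulVec]

theorem negOne_mul_self : negOne n F * negOne n F = 1 := by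
  apply Cfsg.Agent.ClassicalGeometry.SympSiegel.ext_smul
  intro x
  rw [mul_smul, negOne_smul, negOne_smul, neg_neg, one_smul]

theorem comm_sg_sg (x y : V₀) : ⁅sg x (0 : F), sg y (0 : F)⁆ = sg 0 (2 * f₀ x y) := by
  rw [commutatorElement_def, sg_inv, sg_inv, sg_mul, sg_mul, sg_mul]
  congr 1
  · abel
  · simp only [sympForm_add_left, sympForm_neg_right, sympForm_neg_left, sympForm_self, neg_zero]
    rw [sympForm_swap y x]
    ring

theorem commute_sg_T (x : V₀) (a t : F) : Commute (sg x a) (sg 0 t) := by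
  show sg x a * sg 0 t = sg 0 t * sg x a
  rw [sg_mul, sg_mul, add_zero, zero_add, sympForm_zero_right, sympForm_zero_left, add_zero, add_zero, add_comm a t]

theorem commute_emb_T (A : G₀) (t : F) : Commute (emb A) (sg (n := n) 0 t) := by
  have h := conj_sg A 0 t
  rw [smul_zero'] at h
  exact mul_inv_eq_iff_eq_mul.1 h

theorem exists_pair (F : Type*) [Field F] {n : ℕ} (hn : 1 ≤ n) : ∃ x y : Fin n ⊕ Fin n → F, sympForm n F x y = 1 := by
  have : NeZero n := ⟨by omega⟩
  refine ⟨Pi.single (Sum.inr 0) 1, Pi.single (Sum.inl 0) 1, ?_⟩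
  rw [sympForm_single_inr_left]
  simp

theorem exists_comm (hn : 1 ≤ n) (h2 : (2 : F) ≠ 0) (t : F) :
    ∃ x y : V₀, ⁅sg x (0 : F), sg y (0 : F)⁆ = sg 0 t := by
  obtain ⟨x, y, hxy⟩ := exists_pair F hn
  refine ⟨x, (t / 2) • y, ?_⟩
  rw [comm_sg_sg, sympForm_smul_right, hxy]
  congr 1
  field_simp

theorem sg_split (x : V₀) (a : F) : sg x a = sg x 0 * sg 0 a := by
  rw [sg_mul, add_zero, zero_add, sympForm_zero_right, add_zero]

/-! ### The calculus in the extension -/

section step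

variable {p : ℕ} {L : Type*} [Group L] {π : L →* Matrix.symplecticGroup (Fin (n + 1)) F} {c : L}

theorem lcTT (hn : 1 ≤ n) (h2 : (2 : F) ≠ 0) (hC : CE π) (a b : F) : hC.lc (sg 0 a) (sg 0 b) = 1 := by
  obtain ⟨x, y, hxy⟩ := exists_comm hn h2 b
  rw [← hxy]
  exact hC.lc_comm_eq_one (commute_sg_T x 0 a).symm (commute_sg_T y 0 a).symm

variable (hd : PCov p π c) (hp : p.Prime) (hp2 : p ≠ 2) (h2 : (2 : F) ≠ 0) (hn : 1 ≤ n)
  (hAT : ∀ (A : Matrix.symplecticGroup (Fin n) F) (t : F), (ce hd).lc (emb A) (sg 0 t) = 1)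

theorem lcAT (hperf : commutator (Matrix.symplecticGroup (Fin n) F) = ⊤) (A : G₀) (t : F) :
    (ce hd).lc (emb A) (sg 0 t) = 1 := by
  rw [CE.lc_swap, CE.lc_eq_one_of_mem, inv_one]
  have h1 : A ∈ commutator G₀ := by rw [hperf]; trivial
  have h3 : emb A ∈ (commutator G₀).map emb := ⟨A, h1, rfl⟩
  rw [commutator_def, Subgroup.map_commutator] at h3
  refine Subgroup.commutator_mono ?_ ?_ h3 <;>
  · rintro _ ⟨B, -, rfl⟩
    rw [Subgroup.mem_centralizer_singleton_iff]
    exact (commute_emb_T B t).eq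

include hp hp2 h2 hn

theorem lcQT (x : V₀) (a t : F) : (ce hd).lc (sg x a) (sg 0 t) = 1 := by
  have hc := commute_sg_T x a t
  have h1 := (ce hd).lc_torus (t := emb (negOne n F)) hc (by
    rw [conj_sg, smul_zero'])
  rw [conj_sg, negOne_smul] at h1
  have h3 : (ce hd).lc (sg (-x) a * sg x a) (sg 0 t) = 1 := by
    rw [sg_mul, neg_add_cancel]
    exact lcTT hn h2 (ce hd) _ _
  rw [CE.lc_mul_left _ hc, h1] at h3
  refine eq_one_of_sq hp hp2 hd ?_ h3
  rw [CE.map_lc]
  exact commutatorElement_eq_one_iff_commute.2 hc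

theorem lcTQ (x : V₀) (a t : F) : (ce hd).lc (sg 0 t) (sg x a) = 1 := by
  rw [CE.lc_swap, lcQT hd hp hp2 h2 hn, inv_one]

include hd in
/-- elements over the centre of `Q` commute with the elements over `Q` -/
theorem comm_QT {u v : L} {x : V₀} {a t : F} (hu : π u = sg x a) (hv : π v = sg 0 t) : Commute u v := by
  apply (ce hd).commute_of_lc
  rw [hu, hv]
  exact lcQT hd hp hp2 h2 hn x a t

omit hp hp2 h2 hn in
include hAT in
theorem comm_AT {u v : L} {A : G₀} {t : F} (hu : π u = emb A) (hv : π v = sg 0 t) : Commute u v := by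
  apply (ce hd).commute_of_lc
  rw [hu, hv]
  exact hAT A t

/-! the bilinear map -/

omit hp hp2 h2 hn in
/-- commutators of lifts of elements of `Q` -/
noncomputable def kap (x y : V₀) : L := (ce hd).lc (sg x 0) (sg y 0)

omit hp hp2 h2 hn in
theorem map_kap (x y : V₀) : π (kap hd x y) = sg 0 (2 * f₀ x y) := by
  rw [kap, CE.map_lc, comm_sg_sg]

theorem lc_eq_kap (x y : V₀) (a b : F) : (ce hd).lc (sg x a) (sg y b) = kap hd x y := by
  rw [sg_split x a, CE.lc_mul_left _ (commute_sg_T y b a).symm, lcTQ hd hp hp2 h2 hn, mul_one, sg_split y b,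
    CE.lc_mul_right _ (commute_sg_T x 0 b), lcQT hd hp hp2 h2 hn, mul_one]
  rfl

theorem kap_add_left (x x' y : V₀) : kap hd (x + x') y = kap hd x y * kap hd x' y := by
  have h1 : (ce hd).lc (sg x 0 * sg x' 0) (sg y 0) = kap hd (x + x') y := by
    rw [sg_mul]
    exact lc_eq_kap hd hp hp2 h2 hn _ _ _ _
  rw [← h1, CE.lc_mul_left', comm_sg_sg, lcQT hd hp hp2 h2 hn, one_mul]
  exact (comm_QT hd hp hp2 h2 hn (map_kap hd x' y) (map_kap hd x y)).eq

omit hp hp2 h2 hn in
theorem kap_swap (x y : V₀) : kap hd y x = (kap hd x y)⁻¹ := CE.lc_swap _ _ _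

theorem kap_comm (x y x' y' : V₀) : Commute (kap hd x y) (kap hd x' y') :=
  comm_QT hd hp hp2 h2 hn (map_kap hd x y) (map_kap hd x' y')

theorem kap_add_right (x y y' : V₀) : kap hd x (y + y') = kap hd x y * kap hd x y' := by
  rw [kap_swap hd (y + y') x, kap_add_left hd hp hp2 h2 hn, mul_inv_rev, ← kap_swap, ← kap_swap]
  exact (kap_comm hd hp hp2 h2 hn _ _ _ _).eq

omit hp hp2 h2 hn in
theorem kap_zero_left (y : V₀) : kap hd 0 y = 1 := by
  rw [kap, sg_zero, CE.lc_one_left]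

omit hp hp2 h2 hn in
include hAT in
theorem kap_inv {s : G₀ →* L} (hs : ∀ A, π (s A) = emb A) (A : G₀) (x y : V₀) :
    kap hd (A • x) (A • y) = kap hd x y := by
  have h1 := (ce hd).conj_lc (s A) (sg x 0) (sg y 0)
  rw [hs, conj_sg, conj_sg] at h1
  have h3 := comm_AT hd hAT (hs A) (map_kap hd x y)
  have h4 : s A * kap hd x y * (s A)⁻¹ = kap hd x y := by rw [h3.eq, mul_inv_cancel_right]
  rw [← h4]
  exact h1.symm

omit hp hp2 h2 hn in
include hAT in
theorem kap_eq {s : G₀ →* L} (hs : ∀ A, π (s A) = emb A) {x y x' y' : V₀} {t : F} (ht : t ≠ 0)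
    (h1 : f₀ x y = t) (h3 : f₀ x' y' = t) : kap hd x y = kap hd x' y' := by
  obtain ⟨A, -, hA1, hA2⟩ := exists_transvGroup_hyperbolic (u := x) (v := t⁻¹ • y) (u' := x') (v' := t⁻¹ • y')
    (by rw [sympForm_smul_right, h1, inv_mul_cancel₀ ht]) (by rw [sympForm_smul_right, h3, inv_mul_cancel₀ ht])
  have e1 : A • x = x' := hA1
  have e2 : A • (t⁻¹ • y) = t⁻¹ • y' := hA2
  rw [smul_smul'] at e2
  have e3 : A • y = y' := smul_right_injective _ (inv_ne_zero ht) e2
  rw [← kap_inv hd hAT hs A x y, e1, e3]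

include hAT in
theorem kap_orth {s : G₀ →* L} (hs : ∀ A, π (s A) = emb A) {x y : V₀} (hxy : f₀ x y = 0) : kap hd x y = 1 := by
  by_cases hx : x = 0
  · rw [hx, kap_zero_left]
  obtain ⟨y₁, hy₁⟩ := exists_form_eq_one hx
  have h1 : kap hd x (y + y₁) = kap hd x y₁ :=
    kap_eq hd hAT hs one_ne_zero (by rw [sympForm_add_right, hxy, hy₁, zero_add]) hy₁
  rw [kap_add_right hd hp hp2 h2 hn] at h1
  exact mul_eq_right.1 h1

/-- The linear form of the commutator map. -/
theorem exists_mu {s : G₀ →* L} (hs : ∀ A, π (s A) = emb A)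
    (hAT : ∀ (A : Matrix.symplecticGroup (Fin n) F) (t : F), (ce hd).lc (emb A) (sg 0 t) = 1) :
    ∃ mu : F → L, (∀ x y, kap hd x y = mu (f₀ x y)) ∧ (∀ a b, mu (a + b) = mu a * mu b) ∧
      ∀ a, π (mu a) = sg 0 (2 * a) := by
  obtain ⟨x₀, y₀, h0⟩ := exists_pair F hn
  refine ⟨fun t => kap hd x₀ (t • y₀), fun x y => ?_, fun a b => ?_, fun a => ?_⟩
  · by_cases ht : f₀ x y = 0
    · show _ = kap hd x₀ (f₀ x y • y₀)
      rw [kap_orth hd hp hp2 h2 hn hAT hs ht, ht, zero_smul, kap_swap hd 0 x₀, kap_zero_left, inv_one]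
    · exact kap_eq hd hAT hs ht rfl (by rw [sympForm_smul_right, h0, mul_one])
  · show kap hd x₀ ((a + b) • y₀) = _
    rw [add_smul, kap_add_right hd hp hp2 h2 hn]
  · show π (kap hd x₀ (a • y₀)) = _
    rw [map_kap, sympForm_smul_right, h0, mul_one]

/-! the complement -/

omit hp hp2 h2 hn in
/-- the lift of `sg x 0` -/
noncomputable def sig (x : V₀) : L := (ce hd).lc (sg ((2⁻¹ : F) • x) 0) (emb (negOne n F))

omit hp hp2 hn in
theorem map_sig (x : V₀) : π (sig hd x) = sg x 0 := by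
  rw [sig, CE.map_lc, commutatorElement_def]
  have h3 : sg ((2⁻¹ : F) • x) 0 * emb (negOne n F) * (sg ((2⁻¹ : F) • x) 0)⁻¹ * (emb (negOne n F))⁻¹ =
      sg ((2⁻¹ : F) • x) 0 * (emb (negOne n F) * (sg ((2⁻¹ : F) • x) 0)⁻¹ * (emb (negOne n F))⁻¹) := by group
  rw [h3, sg_inv, conj_sg, sg_mul, negOne_smul]
  congr 1
  · rw [neg_neg, ← add_smul]
    have : (2⁻¹ : F) + 2⁻¹ = 1 := by field_simp; norm_num
    rw [this, one_smul]
  · rw [neg_neg, sympForm_self]; ring

omit hp hp2 h2 hn in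
theorem sig_conj {s : G₀ →* L} (hs : ∀ A, π (s A) = emb A) (A : G₀) (x : V₀) :
    s A * sig hd x * (s A)⁻¹ = sig hd (A • x) := by
  rw [sig, CE.conj_lc, hs, conj_sg, smul_smul']
  have h3 : emb A * emb (negOne n F) * (emb A)⁻¹ = emb (negOne n F) := by
    rw [← map_mul, (Subgroup.mem_center_iff.1 (negOne_mem_center (m := n) (F := F))) A, map_mul, mul_inv_cancel_right]
  rw [h3]
  rfl

omit hp hp2 h2 hn in
theorem sig_zero : sig hd (0 : V₀) = 1 := by
  rw [sig, smul_zero, sg_zero, CE.lc_one_left]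

omit hp hp2 h2 hn in
theorem sig_neg {s : G₀ →* L} (hs : ∀ A, π (s A) = emb A) (x : V₀) : sig hd (-x) = (sig hd x)⁻¹ := by
  rw [← negOne_smul, ← sig_conj hd hs]
  set z := s (negOne n F)
  have hz : z * z = 1 := by rw [← map_mul, negOne_mul_self, map_one]
  have hzi : z⁻¹ = z := inv_eq_of_mul_eq_one_right hz
  obtain ⟨a, ha⟩ := hd.surj (sg ((2⁻¹ : F) • x) 0)
  have h1 : sig hd x = ⁅a, z⁆ := ((ce hd).comm_eq' ha (hs _)).symm
  rw [h1, commutatorElement_inv, commutatorElement_def, commutatorElement_def, hzi]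
  calc z * (a * z * a⁻¹ * z) * z = z * a * z * a⁻¹ * (z * z) := by group
    _ = z * a * z * a⁻¹ := by rw [hz, mul_one]

include hAT in
theorem sig_mul {s : G₀ →* L} (hs : ∀ A, π (s A) = emb A) {mu : F → L}
    (hmu : ∀ x y : V₀, kap hd x y = mu (f₀ x y)) (hadd : ∀ a b, mu (a + b) = mu a * mu b)
    (hπ : ∀ a, π (mu a) = sg 0 (2 * a)) (x y : V₀) :
    sig hd x * sig hd y = sig hd (x + y) * mu (f₀ x y / 2) := by
  set d := (sig hd (x + y))⁻¹ * (sig hd x * sig hd y) with hdd
  have hπd : π d = sg 0 (f₀ x y) := by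
    rw [hdd, map_mul, map_inv, map_mul, map_sig hd h2, map_sig hd h2, map_sig hd h2, sg_mul, sg_inv, sg_mul,
      neg_add_cancel]
    congr 1
    rw [sympForm_neg_left, sympForm_self]; ring
  set z := s (negOne n F) with hz
  have h3 : z * d * z⁻¹ = d := by
    rw [(comm_AT hd hAT (hs (negOne n F)) hπd).eq, mul_inv_cancel_right]
  have h4 : z * d * z⁻¹ = sig hd (x + y) * ((sig hd x)⁻¹ * (sig hd y)⁻¹) := by
    have e : z * d * z⁻¹ = (z * sig hd (x + y) * z⁻¹)⁻¹ * ((z * sig hd x * z⁻¹) * (z * sig hd y * z⁻¹)) := by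
      rw [hdd]; group
    rw [e, hz, sig_conj hd hs, sig_conj hd hs, sig_conj hd hs, negOne_smul, negOne_smul, negOne_smul,
      sig_neg hd hs, sig_neg hd hs, sig_neg hd hs, inv_inv]
  have hdx : Commute (sig hd x) d := comm_QT hd hp hp2 h2 hn (map_sig hd h2 x) hπd
  have hdy : Commute (sig hd y) d := comm_QT hd hp hp2 h2 hn (map_sig hd h2 y) hπd
  have h5 : sig hd (x + y) = sig hd x * sig hd y * d⁻¹ := by
    rw [hdd]; group
  have h6 : d * d = kap hd x y := by
    have h7 : d = d⁻¹ * ⁅sig hd x, sig hd y⁆ := by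
      calc d = sig hd (x + y) * ((sig hd x)⁻¹ * (sig hd y)⁻¹) := h3.symm.trans h4
        _ = sig hd x * sig hd y * d⁻¹ * ((sig hd x)⁻¹ * (sig hd y)⁻¹) := by rw [← h5]
        _ = d⁻¹ * (sig hd x * sig hd y) * ((sig hd x)⁻¹ * (sig hd y)⁻¹) := by
          rw [((hdx.mul_left hdy).inv_right).eq]
        _ = d⁻¹ * ⁅sig hd x, sig hd y⁆ := by rw [commutatorElement_def]; group
    have h8 : ⁅sig hd x, sig hd y⁆ = kap hd x y := (ce hd).comm_eq' (map_sig hd h2 x) (map_sig hd h2 y)
    rw [h8] at h7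
    calc d * d = d * (d⁻¹ * kap hd x y) := by rw [← h7]
      _ = kap hd x y := by rw [mul_inv_cancel_left]
  have hfh : f₀ x y / 2 + f₀ x y / 2 = f₀ x y := by field_simp; ring
  have hdm : Commute d (mu (f₀ x y / 2)) := comm_QT hd hp hp2 h2 hn hπd (hπ _)
  have h9 : d * (mu (f₀ x y / 2))⁻¹ = 1 := by
    refine eq_one_of_sq hp hp2 hd ?_ ?_
    · rw [map_mul, map_inv, hπd, hπ, sg_inv, sg_mul, sympForm_zero_left, neg_zero, add_zero, add_zero]
      have : f₀ x y + -(2 * (f₀ x y / 2)) = 0 := by field_simp; ring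
      rw [this, sg_zero]
    · have e : d * (mu (f₀ x y / 2))⁻¹ * (d * (mu (f₀ x y / 2))⁻¹) =
          d * ((mu (f₀ x y / 2))⁻¹ * d) * (mu (f₀ x y / 2))⁻¹ := by group
      rw [e, ← (hdm.inv_right).eq]
      have e2 : d * (d * (mu (f₀ x y / 2))⁻¹) * (mu (f₀ x y / 2))⁻¹ =
          (d * d) * (mu (f₀ x y / 2) * mu (f₀ x y / 2))⁻¹ := by group
      rw [e2, ← hadd, hfh, h6, hmu, mul_inv_cancel]
  rw [← mul_inv_eq_one.1 h9, hdd]; group

include hd in
/-- **The step.** If the preimage of the Levi factor splits, there is a contradiction. -/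
theorem step [Finite F] [Finite L] {s : G₀ →* L} (hs : ∀ A, π (s A) = emb A)
    (hAT : ∀ (A : Matrix.symplecticGroup (Fin n) F) (t : F), (ce hd).lc (emb A) (sg 0 t) = 1)
    (hidx : ¬ p ∣ (MulAction.stabilizer (Matrix.symplecticGroup (Fin (n + 1)) F) (e F n)).index) : False := by
  obtain ⟨mu, hmu, hadd, hπ⟩ := exists_mu hd hp hp2 h2 hn hs hAT
  have hmu0 : mu 0 = 1 := by
    have := hadd 0 0
    rw [add_zero] at this
    exact (mul_eq_left.1 this.symm)
  have hmun : ∀ a, mu (-a) = (mu a)⁻¹ := by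
    intro a
    rw [eq_inv_iff_mul_eq_one, ← hadd, neg_add_cancel, hmu0]
  have hmuA : ∀ A a, Commute (s A) (mu a) := fun A a => comm_AT hd hAT (hs A) (hπ a)
  have hmus : ∀ x a, Commute (sig hd x) (mu a) := fun x a => comm_QT hd hp hp2 h2 hn (map_sig hd h2 x) (hπ a)
  have hmul : ∀ (x y : V₀) (a b : F) (A B : G₀), (sig hd x * mu a * s A) * (sig hd y * mu b * s B) =
      sig hd (x + A • y) * mu (f₀ x (A • y) / 2 + a + b) * s (A * B) := by
    intro x y a b A B
    have e1 : s A * sig hd y = sig hd (A • y) * s A := by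
      rw [← sig_conj hd hs, inv_mul_cancel_right]
    calc (sig hd x * mu a * s A) * (sig hd y * mu b * s B)
        = sig hd x * mu a * (s A * sig hd y) * mu b * s B := by group
      _ = sig hd x * (mu a * sig hd (A • y)) * (s A * mu b) * s B := by rw [e1]; group
      _ = (sig hd x * sig hd (A • y)) * mu a * mu b * (s A * s B) := by
        rw [(hmuA A b).eq, ← (hmus (A • y) a).eq]; group
      _ = _ := by
        rw [sig_mul hd hp hp2 h2 hn hAT hs hmu hadd hπ, hadd, hadd, map_mul]; group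
  let K : Subgroup L :=
    { carrier := {k | ∃ (x : V₀) (a : F) (A : G₀), k = sig hd x * mu a * s A}
      mul_mem' := by
        rintro _ _ ⟨x, a, A, rfl⟩ ⟨y, b, B, rfl⟩
        exact ⟨_, _, _, hmul x y a b A B⟩
      one_mem' := ⟨0, 0, 1, by rw [sig_zero, hmu0, map_one, one_mul, one_mul]⟩
      inv_mem' := by
        rintro _ ⟨x, a, A, rfl⟩
        refine ⟨-(A⁻¹ • x), -a, A⁻¹, ?_⟩
        rw [inv_eq_iff_mul_eq_one, hmul, smul_neg', smul_inv_smul, add_neg_cancel, sympForm_neg_right,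
          sympForm_self, neg_zero, zero_div, zero_add, add_neg_cancel, hmu0, sig_zero, mul_inv_cancel, map_one,
          one_mul, one_mul] }
  have hKπ : ∀ (x : V₀) (a : F) (A : G₀), π (sig hd x * mu a * s A) = sg x (2 * a) * emb A := by
    intro x a A
    rw [map_mul, map_mul, map_sig hd h2, hπ, hs, sg_mul, add_zero, zero_add, sympForm_zero_right, add_zero]
  set St := MulAction.stabilizer (Matrix.symplecticGroup (Fin (n + 1)) F) (e F n) with hSt
  have hcP : c ∈ St.comap π := by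
    rw [Subgroup.mem_comap, hd.pi_c]; exact one_mem _
  have h1 := hd.mem_commutator' hp hcP (by rwa [Subgroup.index_comap_of_surjective _ hd.surj])
  have h3 : ⁅St.comap π, St.comap π⁆ ≤ K := by
    rw [Subgroup.commutator_le]
    intro u hu v hv
    have key : ∀ u ∈ St.comap π, ∃ k ∈ K, π u = π k := by
      intro u hu
      obtain ⟨x, a, A, h⟩ := exists_stab (g := π u) (MulAction.mem_stabilizer_iff.1 hu)
      refine ⟨_, ⟨x, a / 2, A, rfl⟩, ?_⟩
      rw [h, hKπ]
      congr 2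
      field_simp
    obtain ⟨k, hk, hku⟩ := key u hu
    obtain ⟨l, hl, hlv⟩ := key v hv
    rw [(ce hd).comm_congr hku hlv, commutatorElement_def]
    exact mul_mem (mul_mem (mul_mem hk hl) (inv_mem hk)) (inv_mem hl)
  obtain ⟨x, a, A, h⟩ := h3 h1
  have h4 := hKπ x a A
  rw [← h, hd.pi_c] at h4
  obtain ⟨rfl, h5, rfl⟩ := sg_emb_eq_one h4.symm
  have h6 : a = 0 := by
    rcases mul_eq_zero.1 h5 with h | h
    · exact absurd h h2
    · exact h
  subst h6
  rw [sig_zero, hmu0, map_one, one_mul, one_mul] at h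
  exact hd.ne h

end step

/-! ### The index -/

theorem index_stab [Fintype F] : (MulAction.stabilizer (Matrix.symplecticGroup (Fin (n + 1)) F) (e F n)).index =
    Fintype.card F ^ (2 * (n + 1)) - 1 := by
  classical
  rw [MulAction.index_stabilizer]
  have h1 : MulAction.orbit (Matrix.symplecticGroup (Fin (n + 1)) F) (e F n) = {v | v ≠ 0} := by
    ext v
    constructor
    · rintro ⟨g, rfl⟩
      exact smul_ne_zero' g e_ne
    · intro hv
      obtain ⟨A, -, hA⟩ := exists_transvGroup_mulVec_eq (F := F) (e_ne (F := F) (n := n)) hv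
      exact ⟨A, hA⟩
  rw [h1]
  have h2 : ({v | v ≠ 0} : Set (Fin (n + 1) ⊕ Fin (n + 1) → F)) = {0}ᶜ := rfl
  rw [h2, Set.ncard_compl, Set.ncard_singleton, Nat.card_eq_fintype_card, Fintype.card_fun, Fintype.card_sum,
    Fintype.card_fin, two_mul]

theorem not_dvd_index [Fintype F] {p : ℕ} (hp : p.Prime) [CharP F p] :
    ¬ p ∣ (MulAction.stabilizer (Matrix.symplecticGroup (Fin (n + 1)) F) (e F n)).index := by
  rw [index_stab]
  have h1 : p ∣ Fintype.card F ^ (2 * (n + 1)) := by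
    haveI : Fact p.Prime := ⟨hp⟩
    obtain ⟨k, hk, hc⟩ := FiniteField.card F p
    rw [hc, ← pow_mul]
    exact dvd_pow_self p (Nat.mul_ne_zero k.ne_zero (by omega))
  intro h
  have h3 : 1 ≤ Fintype.card F ^ (2 * (n + 1)) := Nat.one_le_pow _ _ Fintype.card_pos
  have h4 : p ∣ 1 := by
    have := (Nat.dvd_sub h1 h)
    rwa [Nat.sub_sub_self h3] at this
  exact hp.one_lt.ne' (Nat.dvd_one.1 h4)

theorem two_ne {p : ℕ} (hp : p.Prime) (hp2 : p ≠ 2) [CharP F p] : (2 : F) ≠ 0 := by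
  intro h
  have h1 : ((2 : ℕ) : F) = 0 := by exact_mod_cast h
  rw [CharP.cast_eq_zero_iff F p] at h1
  exact hp2 ((Nat.prime_dvd_prime_iff_eq hp Nat.prime_two).1 h1)

/-- The induction step. -/
theorem noPCov_succ [Fintype F] {p : ℕ} (hp : p.Prime) (hp2 : p ≠ 2) [CharP F p] (hn : 1 ≤ n)
    (hperf : commutator (Matrix.symplecticGroup (Fin n) F) = ⊤) (hno : NoPCov p (Matrix.symplecticGroup (Fin n) F)) :
    NoPCov p (Matrix.symplecticGroup (Fin (n + 1)) F) := by
  intro L _ _ π c hd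
  obtain ⟨s, hs⟩ := exists_section_of_noPCov hp hperf hno (emb (F := F) (n := n)) hd
  exact step hd hp hp2 (two_ne hp hp2) hn hs (lcAT hd hperf) (not_dvd_index hp)

/-! ### From `Sp_2` to `Sp_4` -/

theorem emb_transv (u : V₀) (a : F) : emb (transv u a) = transv (ext u) a := by
  apply Cfsg.Agent.ClassicalGeometry.SympSiegel.ext_smul
  intro v
  rw [emb_smul, transv_smul, transv_smul, add_sub_cancel_left, form_ext_right, SpEmb.ext_smul]

theorem lc_transv {p : ℕ} {L : Type*} [Group L] {π : L →* Matrix.symplecticGroup (Fin (n + 1)) F} {c : L}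
    (hd : PCov p π c) (h2 : (2 : F) ≠ 0) (hn : 1 ≤ n) {w : V} (hw : w ≠ 0) (a b : F) :
    (ce hd).lc (transv w a) (transv w b) = 1 := by
  obtain ⟨A, -, hA⟩ := exists_transvGroup_mulVec_eq (F := F) (e_ne (F := F) (n := n)) hw
  have hA' : A • e F n = w := hA
  obtain ⟨x, hx⟩ := hd.surj A
  have h1 := (ce hd).conj_lc x (sg 0 (-a)) (sg 0 (-b))
  rw [lcTT hn h2, mul_one, mul_inv_cancel, hx] at h1
  have h3 : ∀ t : F, sg (n := n) 0 (-t) = transv (e F n) t := by
    intro t
    rw [sg, ext_zero, siegel_zero_eq_transv, neg_neg]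
  rw [h3, h3, conj_transv, conj_transv, hA'] at h1
  exact h1.symm

/-- the transvections with a fixed centre -/
def tg (u : V₀) : Subgroup G₀ where
  carrier := {g | ∃ t : F, g = transv u t}
  mul_mem' := by
    rintro _ _ ⟨a, rfl⟩ ⟨b, rfl⟩
    exact ⟨a + b, Cfsg.Agent.ClassicalGeometry.SympSiegel.transv_mul u a b⟩
  one_mem' := ⟨0, (Cfsg.Agent.ClassicalGeometry.SympSiegel.transv_zero u).symm⟩
  inv_mem' := by
    rintro _ ⟨a, rfl⟩
    exact ⟨-a, transv_inv u a⟩

theorem card_tg [Finite F] {u : V₀} (hu : u ≠ 0) : Nat.card (tg u) = Nat.card F := by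
  have hinj : Function.Injective (fun t : F => (⟨transv u t, t, rfl⟩ : tg u)) := by
    intro a b hab
    have h1 : transv u a = transv u b := congrArg Subtype.val hab
    obtain ⟨v, hv⟩ := exists_form_eq_one hu
    have h2 := congrArg (fun g : G₀ => g • v) h1
    simp only [transv_smul] at h2
    have h3 : (a * f₀ v u) • u = (b * f₀ v u) • u := add_left_cancel h2
    have h4 := smul_left_injective F hu h3
    have h5 : f₀ v u ≠ 0 := by
      rw [sympForm_swap, hv]; exact neg_ne_zero.2 one_ne_zero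
    exact mul_right_cancel₀ h5 h4
  refine (Nat.card_congr (Equiv.ofBijective _ ⟨hinj, ?_⟩)).symm
  rintro ⟨_, t, rfl⟩
  exact ⟨t, rfl⟩

theorem not_dvd_index_tg [Fintype F] {p : ℕ} (hp : p.Prime) [CharP F p] {u : Fin 1 ⊕ Fin 1 → F} (hu : u ≠ 0) :
    ¬ p ∣ (tg u).index := by
  have h1 := Cfsg.Agent.S0245.result (F := F) rfl 1
  have h2 := Subgroup.card_mul_index (tg u)
  rw [h1, card_tg hu, Nat.card_eq_fintype_card, Finset.prod_range_one] at h2
  simp only [one_pow, pow_one, zero_add, mul_one] at h2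
  have h3 : (tg u).index = Fintype.card F ^ 2 - 1 := Nat.eq_of_mul_eq_mul_left Fintype.card_pos h2
  rw [h3]
  have h4 : p ∣ Fintype.card F ^ 2 := by
    haveI : Fact p.Prime := ⟨hp⟩
    obtain ⟨k, hk, hc⟩ := FiniteField.card F p
    rw [hc, ← pow_mul]
    exact dvd_pow_self p (Nat.mul_ne_zero k.ne_zero (by omega))
  intro h
  have h5 : 1 ≤ Fintype.card F ^ 2 := Nat.one_le_pow _ _ Fintype.card_pos
  have h6 : p ∣ 1 := by
    have := (Nat.dvd_sub h4 h)
    rwa [Nat.sub_sub_self h5] at this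
  exact hp.one_lt.ne' (Nat.dvd_one.1 h6)

/-- `Sp_4(q)`, `q ≥ 5` odd. -/
theorem noPCov_two [Fintype F] {p : ℕ} (hp : p.Prime) (hp2 : p ≠ 2) [CharP F p] (hq : 4 ≤ Fintype.card F) :
    NoPCov p (Matrix.symplecticGroup (Fin 2) F) := by
  intro L _ _ π c hd
  have hperf : commutator (Matrix.symplecticGroup (Fin 1) F) = ⊤ :=
    Cfsg.Agent.LieClassical.SympPerfect.commutator_eq_top (Or.inr (Or.inr hq))
  have h2 := two_ne (F := F) hp hp2
  obtain ⟨u, v, huv⟩ := exists_pair F (n := 1) le_rfl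
  have hu : u ≠ 0 := by
    rintro rfl
    rw [sympForm_zero_left] at huv
    exact zero_ne_one huv
  obtain ⟨s, hs⟩ := exists_section hp hperf (emb (F := F) (n := 1)) hd (by
    intro D _ _ ρ g d hD hg hinj
    refine hD.false_of_comm hp (not_dvd_index_tg hp hu) ?_
    rintro x y ⟨a, ha⟩ ⟨b, hb⟩
    have h1 : ⁅x, y⁆ = 1 := by
      apply hinj
      · rw [map_commutatorElement, ha, hb, commutatorElement_eq_one_iff_mul_comm,
          Cfsg.Agent.ClassicalGeometry.SympSiegel.transv_mul, Cfsg.Agent.ClassicalGeometry.SympSiegel.transv_mul,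
          add_comm]
      · rw [map_commutatorElement, (ce hd).comm_eq, hg, hg, ha, hb, emb_transv, emb_transv]
        exact lc_transv hd h2 le_rfl (fun h => hu (ext_injective (by rw [h, ext_zero]))) a b
    exact commutatorElement_eq_one_iff_mul_comm.1 h1)
  exact step hd hp hp2 h2 le_rfl hs (lcAT hd hperf) (not_dvd_index hp)

/-- **The defining characteristic, odd.** -/
theorem noPCov [Fintype F] {p : ℕ} (hp : p.Prime) (hp2 : p ≠ 2) [CharP F p]
    (h3 : Fintype.card F = 3 → NoPCov p (Matrix.symplecticGroup (Fin 2) F)) {m : ℕ} (hm : 2 ≤ m) :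
    NoPCov p (Matrix.symplecticGroup (Fin m) F) := by
  have hcard : 3 ≤ Fintype.card F := by
    haveI : Fact p.Prime := ⟨hp⟩
    obtain ⟨k, hk, hc⟩ := FiniteField.card F p
    rw [hc]
    have h1 : 3 ≤ p := by
      have := hp.two_le
      omega
    calc 3 ≤ p := h1
      _ = p ^ 1 := (pow_one p).symm
      _ ≤ p ^ (k : ℕ) := Nat.pow_le_pow_right (by omega) k.pos
  induction m, hm using Nat.le_induction with
  | base =>
    by_cases h : Fintype.card F = 3
    · exact h3 h
    · exact noPCov_two hp hp2 (by omega)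
  | succ m hm ih =>
    refine noPCov_succ hp hp2 (by omega) (Cfsg.Agent.LieClassical.SympPerfect.commutator_eq_top ?_) ih
    rcases (by omega : m = 2 ∨ 3 ≤ m) with h | h
    · exact Or.inr (Or.inl ⟨h, hcard⟩)
    · exact Or.inl h

end Cfsg.Agent.H62.SpDef
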