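import Mathlib
import Cfsg.Agent.H62.SpDef
import Cfsg.Agent.H62.GaschSection
import Cfsg.Agent.S0765

/-!
# `Sp_4(3)` has no perfect central extension by `C_3`
-/

set_option autoImplicit false
set_option linter.style.haveILetI false
set_option linter.unusedSectionVars false
open Cfsg
open scoped Matrix commutatorElement
open Cfsg.Agent.ClassicalGeometry.SympBasic Cfsg.Agent.ClassicalGeometry.SympSiegel

namespace Cfsg.Agent.H62.SpThree

open Cfsg.Agent.H62.SpEmb Cfsg.Agent.H62.SpDef Cfsg.Agent.H67 Cfsg.Agent.KFacts.Mult.Calc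

variable {F : Type*} [Field F]

/-- the first isotropic basis vector of the complement -/
def w₀ (F : Type*) [Field F] : Fin 1 ⊕ Fin 1 → F := Pi.single (Sum.inr 0) 1

/-- the exchange of the two hyperbolic pairs -/
def swLin : (Fin 2 ⊕ Fin 2 → F) →ₗ[F] (Fin 2 ⊕ Fin 2 → F) where
  toFun v := Sum.elim (fun i => v (.inl (Equiv.swap 0 1 i))) (fun i => v (.inr (Equiv.swap 0 1 i)))
  map_add' u v := by funext i; rcases i with i | i <;> rfl
  map_smul' c v := by funext i; rcases i with i | i <;> rfl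

theorem swLin_form (u v : Fin 2 ⊕ Fin 2 → F) : sympForm 2 F (swLin u) (swLin v) = sympForm 2 F u v := by
  rw [sympForm_eq_sum, sympForm_eq_sum, Fin.sum_univ_two, Fin.sum_univ_two]
  simp only [swLin, LinearMap.coe_mk, AddHom.coe_mk, Sum.elim_inl, Sum.elim_inr, Equiv.swap_apply_left,
    Equiv.swap_apply_right]
  ring

def sw : Matrix.symplecticGroup (Fin 2) F := ofIso swLin swLin_form

theorem sw_e : (sw : Matrix.symplecticGroup (Fin 2) F) • e F 1 = ext (w₀ F) := by
  rw [sw, ofIso_smul]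
  funext i
  rcases i with i | i <;> fin_cases i <;> simp [swLin, e, ext, w₀, Pi.single_apply, Fin.cons] <;> rfl

theorem sw_ext : (sw : Matrix.symplecticGroup (Fin 2) F) • ext (w₀ F) = e F 1 := by
  rw [← sw_e, ← mul_smul]
  have : (sw : Matrix.symplecticGroup (Fin 2) F) * sw = 1 := by
    apply Cfsg.Agent.ClassicalGeometry.SympSiegel.ext_smul
    intro v
    rw [mul_smul, one_smul, sw, ofIso_smul, ofIso_smul]
    funext i
    rcases i with i | i <;> simp [swLin]
  rw [this, one_smul]

section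

variable {p : ℕ} {L : Type*} [Group L] {π : L →* Matrix.symplecticGroup (Fin 2) F} {c : L}
  (hd : PCov p π c) (hp : p.Prime) (hp2 : p ≠ 2)

theorem sg_eq (t : F) : sg (n := 1) 0 (-t) = transv (e F 1) t := by
  rw [sg, ext_zero, siegel_zero_eq_transv, neg_neg]

theorem commute_tt (a b : F) : Commute (transv (ext (w₀ F)) a) (transv (e F 1) b) := by
  rw [← emb_transv, ← sg_eq]
  exact commute_emb_T _ _

include hp hp2 in
theorem lc_swap_eq (a : F) : (ce hd).lc (transv (ext (w₀ F)) a) (transv (e F 1) a) = 1 := by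
  obtain ⟨x, hx⟩ := hd.surj sw
  have h1 := (ce hd).conj_lc x (transv (ext (w₀ F)) a) (transv (e F 1) a)
  have hc := commute_tt a (a : F)
  rw [(ce hd).lc_comm hc, mul_inv_cancel_right, hx, conj_transv, conj_transv, sw_ext, sw_e,
    CE.lc_swap (ce hd) (transv (ext (w₀ F)) a)] at h1
  refine eq_one_of_sq hp hp2 hd ?_ ?_
  · rw [CE.map_lc]
    exact commutatorElement_eq_one_iff_commute.2 hc
  · nth_rw 1 [h1]
    rw [inv_mul_cancel]

theorem three_cases [Fintype F] (h3 : Fintype.card F = 3) (a b : F) (ha : a ≠ 0) (hb : b ≠ 0) : b = a ∨ b = -a := by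
  have h1 : ∀ x : F, x ≠ 0 → x ^ 2 = 1 := by
    intro x hx
    have := FiniteField.pow_card_sub_one_eq_one x hx
    rwa [h3] at this
  have h2 : (b - a) * (b + a) = 0 := by
    have := h1 a ha
    have := h1 b hb
    linear_combination h1 b hb - h1 a ha
  rcases mul_eq_zero.1 h2 with h | h
  · left; exact sub_eq_zero.1 h
  · right; exact eq_neg_of_add_eq_zero_left h

include hp hp2 in
theorem lc_w₀ [Fintype F] (h3 : Fintype.card F = 3) (a b : F) :
    (ce hd).lc (transv (ext (w₀ F)) a) (transv (e F 1) b) = 1 := by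
  by_cases ha : a = 0
  · rw [ha, Cfsg.Agent.ClassicalGeometry.SympSiegel.transv_zero, CE.lc_one_left]
  by_cases hb : b = 0
  · rw [hb, Cfsg.Agent.ClassicalGeometry.SympSiegel.transv_zero, CE.lc_one_right]
  rcases three_cases h3 a b ha hb with rfl | rfl
  · exact lc_swap_eq hd hp hp2 _
  · have h1 : (ce hd).lc (transv (ext (w₀ F)) a) (transv (e F 1) a * transv (e F 1) (-a)) = 1 := by
      rw [Cfsg.Agent.ClassicalGeometry.SympSiegel.transv_mul, add_neg_cancel,
        Cfsg.Agent.ClassicalGeometry.SympSiegel.transv_zero, CE.lc_one_right]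
    rwa [CE.lc_mul_right _ (commute_tt a (-a)), lc_swap_eq hd hp hp2, one_mul] at h1

theorem w₀_ne : w₀ F ≠ 0 := by
  intro h
  have := congrFun h (Sum.inr 0)
  simp [w₀] at this

include hp hp2 in
theorem lc_w [Fintype F] (h3 : Fintype.card F = 3) (w : Fin 1 ⊕ Fin 1 → F) (a b : F) :
    (ce hd).lc (transv (ext w) a) (transv (e F 1) b) = 1 := by
  by_cases hw : w = 0
  · subst hw
    have h0 : transv (ext (0 : Fin 1 ⊕ Fin 1 → F)) a = 1 := by
      apply Cfsg.Agent.ClassicalGeometry.SympSiegel.ext_smul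
      intro v
      rw [transv_smul, ext_zero, smul_zero, add_zero, one_smul]
    rw [h0, CE.lc_one_left]
  obtain ⟨A, -, hA⟩ := exists_transvGroup_mulVec_eq (F := F) (w₀_ne (F := F)) hw
  have hA' : A • w₀ F = w := hA
  obtain ⟨x, hx⟩ := hd.surj (emb A)
  have h1 := (ce hd).conj_lc x (transv (ext (w₀ F)) a) (transv (e F 1) b)
  rw [lc_w₀ hd hp hp2 h3, mul_one, mul_inv_cancel, hx, conj_transv, conj_transv, emb_smul_ext, emb_smul_e, hA'] at h1
  exact h1.symm

include hp hp2 in
theorem lcAT3 [Fintype F] (h3 : Fintype.card F = 3) (A : Matrix.symplecticGroup (Fin 1) F) (t : F) :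
    (ce hd).lc (emb A) (sg 0 t) = 1 := by
  have ht : sg (n := 1) 0 t = transv (e F 1) (-t) := by rw [← sg_eq, neg_neg]
  have hA : A ∈ (⊤ : Subgroup (Matrix.symplecticGroup (Fin 1) F)) := trivial
  rw [← Cfsg.Agent.S0765.result (F := F) 1] at hA
  induction hA using Subgroup.closure_induction with
  | mem A hA =>
    obtain ⟨w, a, hwa⟩ := hA
    have h1 : A = transv w a := Subtype.ext hwa
    rw [h1, emb_transv, ht]
    exact lc_w hd hp hp2 h3 w a _
  | one => rw [map_one, CE.lc_one_left]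
  | mul A B _ _ hA hB => rw [map_mul, CE.lc_mul_left _ (commute_emb_T B t), hA, hB, mul_one]
  | inv A _ hA =>
    have h1 : (ce hd).lc (emb (A⁻¹ * A)) (sg 0 t) = 1 := by rw [inv_mul_cancel, map_one, CE.lc_one_left]
    rwa [map_mul, CE.lc_mul_left _ (commute_emb_T A t), hA, mul_one] at h1

end

/-- **`Sp_4(3)`.** -/
theorem noPCov_three [Fintype F] (h3 : Fintype.card F = 3) {p : ℕ} (hp : p.Prime) (hp2 : p ≠ 2) [CharP F p] :
    NoPCov p (Matrix.symplecticGroup (Fin 2) F) := by
  intro L _ _ π c hd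
  have h2 := two_ne (F := F) hp hp2
  obtain ⟨u, v, huv⟩ := exists_pair F (n := 1) le_rfl
  have hu : u ≠ 0 := by
    rintro rfl
    rw [sympForm_zero_left] at huv
    exact zero_ne_one huv
  have hvu : sympForm 1 F v u = -1 := by rw [sympForm_swap, huv]
  -- the lift of the elation group
  have heu : ext u ≠ 0 := fun h => hu (ext_injective (by rw [h, ext_zero]))
  obtain ⟨g, -, hg⟩ := exists_transvGroup_mulVec_eq (F := F) (e_ne (F := F) (n := 1)) heu
  have hg' : g • e F 1 = ext u := hg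
  obtain ⟨γ, hγ⟩ := hd.surj g
  let ν : F → L := fun t => kap hd u ((-t / 2) • v)
  have hνadd : ∀ a b, ν (a + b) = ν a * ν b := by
    intro a b
    show kap hd u ((-(a + b) / 2) • v) = _
    rw [show -(a + b) / 2 = -a / 2 + -b / 2 by ring, add_smul, kap_add_right hd hp hp2 h2 le_rfl]
  have hνπ : ∀ t, π (ν t) = transv (e F 1) t := by
    intro t
    show π (kap hd u ((-t / 2) • v)) = _
    rw [map_kap, sympForm_smul_right, huv, ← sg_eq]
    congr 1
    field_simp
  let τ : tg u → F := fun x => sympForm 1 F v ((x : Matrix.symplecticGroup (Fin 1) F) • v)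
  have hτ : ∀ (x : tg u), (x : Matrix.symplecticGroup (Fin 1) F) = transv u (τ x) := by
    rintro ⟨_, t, rfl⟩
    show transv u t = transv u (sympForm 1 F v (transv u t • v))
    congr 1
    rw [transv_smul, sympForm_add_right, sympForm_self, sympForm_smul_right, hvu]
    ring
  have hτmul : ∀ x y : tg u, τ (x * y) = τ x + τ y := by
    intro x y
    show sympForm 1 F v (((x : Matrix.symplecticGroup (Fin 1) F) * (y : Matrix.symplecticGroup (Fin 1) F)) • v) = _
    rw [hτ x, hτ y, Cfsg.Agent.ClassicalGeometry.SympSiegel.transv_mul, transv_smul, sympForm_add_right, sympForm_self,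
      sympForm_smul_right, hvu]
    ring
  let s₁ : tg u →* L := MonoidHom.mk' (fun x => γ * ν (τ x) * γ⁻¹) (by
    intro x y
    show γ * ν (τ (x * y)) * γ⁻¹ = γ * ν (τ x) * γ⁻¹ * (γ * ν (τ y) * γ⁻¹)
    rw [hτmul, hνadd]
    group)
  obtain ⟨s, hs⟩ := exists_section_of_index hp (emb (F := F) (n := 1)) hd (tg u) (not_dvd_index_tg hp hu) s₁ (by
    intro x
    show π (γ * ν (τ x) * γ⁻¹) = _
    rw [map_mul, map_mul, map_inv, hγ, hνπ, conj_transv, hg', ← emb_transv, ← hτ x])
  exact step hd hp hp2 h2 le_rfl hs (lcAT3 hd hp hp2 h3) (not_dvd_index hp)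

/-- **The defining characteristic, odd.** -/
theorem noPCov [Fintype F] {p : ℕ} (hp : p.Prime) (hp2 : p ≠ 2) [CharP F p] {m : ℕ} (hm : 2 ≤ m) :
    NoPCov p (Matrix.symplecticGroup (Fin m) F) :=
  SpDef.noPCov hp hp2 (fun h3 => noPCov_three h3 hp hp2) hm

end Cfsg.Agent.H62.SpThree
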