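import Mathlib
import Cfsg.Agent.H62.SpThree
import Cfsg.Agent.H62.SpCross
import Cfsg.Agent.H60.CoverMult
import Cfsg.Agent.KFacts.Mult.WittZ
import Cfsg.Agent.KFacts.Mult.SpTwo
import Cfsg.Agent.LieClassical.SympPerfect
import Cfsg.Agent.LieClassical.SympCenter

/-!
# The Schur multipliers of `Sp_{2m}(q)` and `PSp_{2m}(q)`

* `noPCov_Sp`: `Sp_{2m}(q)` has no perfect central extension of prime order (`m ≥ 2`, `(m, q) ≠ (2, 2), (3, 2)`);
* `hasTrivial_Sp`: the Schur multiplier of `Sp_{2m}(q)` is trivial;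
* `hasMultiplier_PSp`: the Schur multiplier of `PSp_{2m}(q)` is cyclic of order `gcd(2, q - 1)`.
-/

set_option autoImplicit false
set_option linter.style.haveILetI false

namespace Cfsg.Agent.H62.SpMult

open Cfsg.Agent.H67

universe u

variable {F : Type u} [Field F] [Fintype F] {m : ℕ}

theorem card_center_even (hm : 1 ≤ m) {p : ℕ} [CharP F p] (hp : p = 2) :
    Subgroup.center (Matrix.symplecticGroup (Fin m) F) = ⊥ := by
  subst hp
  rw [← Subgroup.card_eq_one, Cfsg.Agent.LieClassical.SympCenter.card_center hm]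
  haveI : Fact (Nat.Prime 2) := ⟨Nat.prime_two⟩
  obtain ⟨k, -, hk⟩ := FiniteField.card F 2
  rw [hk]
  have h1 : ¬ 2 ∣ (2 ^ (k : ℕ) - 1) := by
    intro h
    have h2 : 2 ∣ 2 ^ (k : ℕ) := dvd_pow_self 2 k.ne_zero
    have h3 : 1 ≤ 2 ^ (k : ℕ) := Nat.one_le_two_pow
    have h4 := Nat.dvd_sub h2 h
    rw [Nat.sub_sub_self h3] at h4
    omega
  exact (Nat.Prime.coprime_iff_not_dvd Nat.prime_two).2 h1

theorem noPCov_Sp (hm : 2 ≤ m) (h2 : m = 2 → 3 ≤ Fintype.card F) (hexc : ¬ (m = 3 ∧ Fintype.card F = 2)) {r : ℕ}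
    (hr : r.Prime) : NoPCov r (Matrix.symplecticGroup (Fin m) F) := by
  obtain ⟨p, hp⟩ := CharP.exists F
  have hpp : p.Prime := (CharP.char_is_prime_or_zero F p).resolve_right (CharP.char_ne_zero_of_finite F p)
  by_cases hne : r = p
  · subst hne
    by_cases hr2 : r = 2
    · have hc := card_center_even (F := F) (m := m) (by omega) hr2
      have e : Matrix.symplecticGroup (Fin m) F ≃* Cfsg.PSp m F :=
        MulEquiv.ofBijective (QuotientGroup.mk' (Subgroup.center (Matrix.symplecticGroup (Fin m) F)))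
          ⟨by rw [← MonoidHom.ker_eq_bot_iff, QuotientGroup.ker_mk', hc], QuotientGroup.mk'_surjective _⟩
      subst hr2
      have h3 : NoPCov 2 (Cfsg.PSp m F) := by
        apply NoPCov.of_noDouble
        by_cases hq : Fintype.card F = 2
        · refine KFacts.Mult.SpTwo.noDouble_psp_two hq ?_
          by_contra hlt
          have : m = 2 ∨ m = 3 := by omega
          rcases this with rfl | rfl
          · have := h2 rfl
            omega
          · exact hexc ⟨rfl, hq⟩
        · refine KFacts.Mult.WittZ.noDouble_PSp ?_ hm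
          rw [Nat.card_eq_fintype_card]
          have := Fintype.one_lt_card (α := F)
          omega
      exact h3.congr e.symm
    · exact SpThree.noPCov hpp hr2 hm
  · exact SpCross.noPCov_cross (by omega) hr hne

theorem perfect_Sp (hm : 2 ≤ m) (h2 : m = 2 → 3 ≤ Fintype.card F) :
    commutator (Matrix.symplecticGroup (Fin m) F) = ⊤ := by
  refine Cfsg.Agent.LieClassical.SympPerfect.commutator_eq_top ?_
  rcases (by omega : m = 2 ∨ 3 ≤ m) with h | h
  · exact Or.inr (Or.inl ⟨h, h2 h⟩)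
  · exact Or.inl h

/-- **`Sp_{2m}(q)` has trivial Schur multiplier.** -/
theorem hasTrivial_Sp (hm : 2 ≤ m) (h2 : m = 2 → 3 ≤ Fintype.card F) (hexc : ¬ (m = 3 ∧ Fintype.card F = 2)) :
    Cfsg.HasCyclicSchurMultiplier (Matrix.symplecticGroup (Fin m) F) 1 :=
  hasTrivial (perfect_Sp hm h2) fun _ hr => noPCov_Sp hm h2 hexc hr

/-- **The Schur multiplier of `PSp_{2m}(q)`.** -/
theorem hasMultiplier_PSp (hm : 2 ≤ m) (h2 : m = 2 → 3 ≤ Fintype.card F)
    (hexc : ¬ (m = 3 ∧ Fintype.card F = 2)) :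
    Cfsg.HasCyclicSchurMultiplier (Cfsg.PSp m F) (Nat.gcd 2 (Fintype.card F - 1)) := by
  have hc := Cfsg.Agent.LieClassical.SympCenter.card_center (F := F) (m := m) (by omega)
  have hc2 : Nat.card (Subgroup.center (Matrix.symplecticGroup (Fin m) F)) = Nat.gcd 2 (Fintype.card F - 1) := hc
  have hcyc : IsCyclic (Subgroup.center (Matrix.symplecticGroup (Fin m) F)) := by
    have h3 : Nat.gcd 2 (Fintype.card F - 1) = 1 ∨ Nat.gcd 2 (Fintype.card F - 1) = 2 :=
      (Nat.dvd_prime Nat.prime_two).1 (Nat.gcd_dvd_left _ _)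
    rcases h3 with h3 | h3
    · rw [h3] at hc2
      have := (Nat.card_eq_one_iff_unique.1 hc2).1
      exact isCyclic_of_subsingleton
    · rw [h3] at hc2
      haveI : Fact (Nat.Prime 2) := ⟨Nat.prime_two⟩
      exact isCyclic_of_prime_card hc2
  have e : Subgroup.center (Matrix.symplecticGroup (Fin m) F) ≃*
      Multiplicative (ZMod (Nat.gcd 2 (Fintype.card F - 1))) := by
    have : NeZero (Nat.gcd 2 (Fintype.card F - 1)) := ⟨(Nat.gcd_pos_of_pos_left _ (by norm_num)).ne'⟩
    have h1 : Nat.card (Multiplicative (ZMod (Nat.gcd 2 (Fintype.card F - 1)))) = Nat.gcd 2 (Fintype.card F - 1) :=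
      Nat.card_zmod _
    exact mulEquivOfCyclicCardEq (by rw [hc2, h1])
  exact H60.CoverMult.hasSchurMultiplier_of_cover (perfect_Sp hm h2) (hasTrivial_Sp hm h2 hexc)
    (π := QuotientGroup.mk' (Subgroup.center (Matrix.symplecticGroup (Fin m) F))) (QuotientGroup.mk'_surjective _)
    (by rw [QuotientGroup.ker_mk']) ((MulEquiv.subgroupCongr (QuotientGroup.ker_mk' _)).trans e)

end Cfsg.Agent.H62.SpMult
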