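import Mathlib
import Cfsg.Agent.H248.DichRGD
import Cfsg.Agent.Nodes.CardSup
import Cfsg.Agent.Mrg.ParSys.Fam.Rgd

/-!
# Subgroups of index prime to `p` in a group with a root group datum of characteristic `p` (helper62)

* `card_VNJ_eq` : `|V_J⁻| = |V_J|`;
* `exists_card_VJ_le` : a proper subgroup of index prime to `p` has index at least `|V_{I - i}|` for some node `i`.
-/

set_option autoImplicit false
set_option linter.unusedSectionVars false

namespace Cfsg.Agent.H62.PPIdx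

open CoxeterSystem Cfsg.Agent.ChevalleyStructure.CoxeterGeom Cfsg.Agent.Tits.Roots Cfsg.Agent.Tits.Core
  Cfsg.Agent.Nodes.Reps Cfsg.Agent.Nodes.BNOf Cfsg.Agent.Nodes.Bruhat Cfsg.Agent.Nodes.LeviDec
  Cfsg.Agent.Nodes.StabComb Cfsg.Agent.Nodes.Unique Cfsg.Agent.Nodes.CardSup Cfsg.Agent.H248

variable {I W Y : Type*} [Fintype I] [DecidableEq I] [Group W] [Group Y] {M : CoxeterMatrix I}
  {cs : CoxeterSystem M W} {A : I → I → ℤ} {h : IsCartan M A} {p : ℕ} {T : Subgroup Y} {n : I → Y}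
  {X : (I → ℤ) → Subgroup Y}

theorem closed_NotJ (J : Set I) : Closed cs h (NotJ cs h J) := by
  intro x hx y hy z hz
  obtain ⟨hxr, hx0, k, hk, hk0⟩ := hx
  have h1 : 0 ≤ z := RGD.nonneg_of_btwn hx0 hy.2.1 hz
  refine ⟨hz.1, h1, k, hk, ?_⟩
  exact btwn_apply_pos hz hk0 (hy.2.1 k)

theorem card_neg (R : RGD cs h p T n X) {x : I → ℤ} (hx : IsRoot cs h x) : Nat.card (X (-x)) = Nat.card (X x) := by
  obtain ⟨w, i, rfl⟩ := hx
  have e : -(rep cs h w (sr i)) = rep cs h (w * cs.simple i) (sr i) := by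
    rw [rep_mul_apply, rep_simple_sr, map_neg]
  obtain ⟨g, hg⟩ := exists_rp cs R.nsys w
  obtain ⟨g', hg'⟩ := exists_rp cs R.nsys (w * cs.simple i)
  rw [e, ← R.conj_rp hg (isRoot_sr cs h i), ← R.conj_rp hg' (isRoot_sr cs h i), card_cj, card_cj]

variable (R : RGD cs h p T n X)

include R

theorem card_VNJ_eq [Finite W] (J : Set I) : Nat.card (VNJ cs h X J) = Nat.card (VJ cs h X J) := by
  classical
  have hfin : (NotJ cs h J).Finite := (RGD.finite_roots (cs := cs) (h := h)).subset fun _ hx => hx.1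
  set s : Finset (I → ℤ) := hfin.toFinset with hs
  have hsc : (s : Set (I → ℤ)) = NotJ cs h J := hfin.coe_toFinset
  obtain ⟨w0, hw0⟩ := RGD.exists_inv_eq_pos (cs := cs) (h := h)
  have key : ∀ z, IsRoot cs h z → 0 ≤ z → rep cs h w0⁻¹ z ≤ 0 := by
    intro z hz hz0
    have : z ∈ RGD.Inv cs h w0 := by rw [hw0]; exact ⟨hz, hz0⟩
    exact this.2.2
  obtain ⟨g, hg⟩ := exists_rp cs R.nsys w0⁻¹
  let f : (I → ℤ) → (I → ℤ) := fun x => rep cs h w0⁻¹ (-x)
  have hf : Function.Injective f := by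
    intro x y e
    have e1 : rep cs h w0⁻¹ (-x) = rep cs h w0⁻¹ (-y) := e
    have e2 := congrArg (rep cs h w0⁻¹⁻¹) e1
    rw [rep_inv_apply, rep_inv_apply] at e2
    exact neg_injective e2
  set s' : Finset (I → ℤ) := s.image f with hs'
  have h1 : cj g (VNJ cs h X J) = RGD.Sup X (s' : Set (I → ℤ)) := by
    apply le_antisymm
    · refine cj_Sup_le R hg (fun x hx => NotNJ.isRoot hx) fun x hx => ?_
      rw [hs', Finset.coe_image, hsc]
      refine ⟨-x, hx, ?_⟩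
      show rep cs h w0⁻¹ (- -x) = _
      rw [neg_neg]
    · refine RGD.Sup_le fun z hz => ?_
      rw [hs', Finset.coe_image, hsc] at hz
      obtain ⟨x, hx, rfl⟩ := hz
      show X (rep cs h w0⁻¹ (-x)) ≤ _
      rw [← R.conj_rp hg hx.1.neg]
      refine cj_mono g (RGD.le_Sup (S := NotNJ cs h J) ?_)
      show - -x ∈ NotJ cs h J
      rw [neg_neg]; exact hx
  have hpos : (s' : Set (I → ℤ)) ⊆ RGD.Pos cs h := by
    rw [hs', Finset.coe_image, hsc]
    rintro _ ⟨x, hx, rfl⟩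
    refine ⟨hx.1.neg.act _, ?_⟩
    show 0 ≤ rep cs h w0⁻¹ (-x)
    rw [map_neg]
    exact neg_nonneg.2 (key x hx.1 hx.2.1)
  have hcl : Closed cs h (s' : Set (I → ℤ)) := by
    rw [hs', Finset.coe_image, hsc]
    rintro _ ⟨x, hx, rfl⟩ _ ⟨y, hy, rfl⟩ z hz
    have hz' := hz.act w0⁻¹⁻¹
    have e1 : rep cs h w0⁻¹⁻¹ (f x) = -x := by
      show rep cs h w0⁻¹⁻¹ (rep cs h w0⁻¹ (-x)) = -x
      rw [rep_inv_apply]
    have e2 : rep cs h w0⁻¹⁻¹ (f y) = -y := by
      show rep cs h w0⁻¹⁻¹ (rep cs h w0⁻¹ (-y)) = -y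
      rw [rep_inv_apply]
    rw [e1, e2] at hz'
    have hz2 := btwn_neg hz'
    rw [neg_neg, neg_neg] at hz2
    refine ⟨-(rep cs h w0⁻¹⁻¹ z), closed_NotJ J _ hx _ hy _ hz2, ?_⟩
    show rep cs h w0⁻¹ (- -(rep cs h w0⁻¹⁻¹ z)) = z
    rw [neg_neg, rep_apply_inv]
  have h2 : Nat.card (VNJ cs h X J) = ∏ x ∈ s', Nat.card (X x) := by
    rw [← card_sup R hpos hcl, ← h1, card_cj]
  have h3 : Nat.card (VJ cs h X J) = ∏ x ∈ s, Nat.card (X x) := by
    have := card_sup R (s := s) (by rw [hsc]; exact fun x hx => ⟨hx.1, hx.2.1⟩) (by rw [hsc]; exact closed_NotJ J)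
    rw [← this, hsc]
    rfl
  rw [h2, h3, hs', Finset.prod_image (fun x _ y _ e => hf e)]
  refine Finset.prod_congr rfl fun x hx => ?_
  have hx' : x ∈ NotJ cs h J := by rw [← hsc]; exact hx
  show Nat.card (X (rep cs h w0⁻¹ (-x))) = _
  rw [card_X_rep R _ hx'.1.neg, card_neg R hx'.1]

/-- the index of a subgroup of `P_J` is at least `|V_J|` -/
theorem card_VJ_le_index [Finite W] [Finite Y] {J : Set I} {P : Subgroup Y} (hP : P ≤ PJ cs h T X J) :
    Nat.card (VJ cs h X J) ≤ P.index := by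
  rw [← card_VNJ_eq R J]
  have h1 : Nat.card (VNJ cs h X J) ≤ (PJ cs h T X J).index := by
    refine Nat.card_le_card_of_injective (fun v : VNJ cs h X J => (QuotientGroup.mk (v : Y) : Y ⧸ PJ cs h T X J)) ?_
    intro v w e
    have e1 : (v : Y)⁻¹ * (w : Y) ∈ PJ cs h T X J := QuotientGroup.eq.1 e
    have e2 : (v : Y)⁻¹ * (w : Y) ∈ VNJ cs h X J := mul_mem (inv_mem v.2) w.2
    have e3 := eq_one_of_mem_VNJ_of_mem_PJ R e2 e1
    exact Subtype.ext (inv_mul_eq_one.1 e3)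
  refine h1.trans (Nat.le_of_dvd ?_ (Subgroup.index_dvd_of_le hP))
  exact Nat.pos_of_ne_zero Subgroup.index_ne_zero_of_finite

theorem VJ_anti {J J' : Set I} (hJ : J ⊆ J') : VJ cs h X J' ≤ VJ cs h X J := by
  refine RGD.Sup_mono ?_
  rintro x ⟨h1, h2, k, hk, hk0⟩
  exact ⟨h1, h2, k, fun hk' => hk (hJ hk'), hk0⟩

/-- **subgroups of index prime to the characteristic** -/
theorem exists_card_VJ_le [Finite W] [Finite Y] [Fact p.Prime] (hG : Nodes.RGDLib.G1 cs h X = ⊤) {H : Subgroup Y}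
    (hH : H ≠ ⊤) (hidx : ¬ p ∣ H.index) : ∃ i : I, Nat.card (VJ cs h X {i}ᶜ) ≤ H.index := by
  have hGG : GG cs h T X = ⊤ := by
    rw [eq_top_iff, ← hG]
    exact le_sup_right
  obtain ⟨g, hg⟩ := Ovg.exists_conj_le (p := p) R.isPGroup_Upos hidx
  set P : Subgroup Y := H.map (MulAut.conj g⁻¹).toMonoidHom with hPdef
  have hPi : P.index = H.index := Subgroup.index_map_equiv H (MulAut.conj g⁻¹)
  have hUP : RGD.Sup X (RGD.Pos cs h) ≤ P := by
    intro u hu
    refine ⟨g * u * g⁻¹, hg ⟨u, hu, rfl⟩, ?_⟩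
    change g⁻¹ * (g * u * g⁻¹) * g⁻¹⁻¹ = u
    group
  have hPt : P ≠ ⊤ := by
    intro h1
    rw [← Subgroup.index_eq_one, hPi, Subgroup.index_eq_one] at h1
    exact hH h1
  have hJ : TitsRGD.JU T n P ≠ Set.univ := by
    intro h1
    apply hPt
    rw [eq_top_iff, ← hG]
    exact TitsRGD.Sup_le_of_univ R hUP h1
  obtain ⟨i, hi⟩ := (Set.ne_univ_iff_exists_notMem _).1 hJ
  refine ⟨i, ?_⟩
  have h1 := TitsRGD.le_PJ R hUP (by rw [hGG]; exact le_top)
  have h2 := card_VJ_le_index R h1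
  rw [hPi] at h2
  refine le_trans ?_ h2
  have h3 : VJ cs h X {i}ᶜ ≤ VJ cs h X (TitsRGD.JU T n P) := by
    refine VJ_anti R fun j hj => ?_
    rw [Set.mem_compl_iff, Set.mem_singleton_iff]
    rintro rfl
    exact hi hj
  exact Subgroup.card_le_of_le h3

end Cfsg.Agent.H62.PPIdx
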