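import Mathlib
import Cfsg.Agent.H62.PPIdx
import Cfsg.Agent.H62.PPNum
import Cfsg.Agent.Nodes.RGDChev
import Cfsg.Agent.S1059
import Cfsg.Agent.S1062
import Cfsg.Agent.S1063
import Cfsg.Agent.S1064
import Cfsg.Agent.S1065

/-!
# No subgroups of prime power index prime to the characteristic: `G₂`, `F₄`, `E₆`, `E₇`, `E₈` (helper62)
-/

set_option autoImplicit false
set_option linter.unusedSectionVars false

namespace Cfsg.Agent.H62.PPChev

open CoxeterSystem Cfsg.Agent.ChevalleyStructure.CoxeterGeom Cfsg.Agent.Tits.Roots Cfsg.Agent.Tits.Core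
  Cfsg.Agent.Nodes.Reps Cfsg.Agent.Nodes.BNOf Cfsg.Agent.Nodes.Bruhat Cfsg.Agent.Nodes.LeviDec
  Cfsg.Agent.Nodes.StabComb Cfsg.Agent.Nodes.Unique Cfsg.Agent.Nodes.CardSup Cfsg.Agent.Nodes.RGDChev
  Cfsg.Agent.H62.PPIdx Cfsg.Agent.H62.PPNum
open Cfsg.Lie Cfsg.Agent.ChevalleyStructure Cfsg.Agent.ChevalleyStructure.Elts
  Cfsg.Agent.ChevalleyStructure.RootVec

universe u

/-- the final comparison -/
theorem false_of {G : Type*} [Group G] [Finite G] {H : Subgroup G} {p k q m N r f : ℕ} {ds : List ℕ} (hp : p.Prime)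
    (hr : r.Prime) (hpr : p ≠ r) (hq : q = r ^ f) (hq2 : 2 ≤ q) (hH : H.index = p ^ k) (hlow : q ^ m ≤ H.index)
    (hOK : OK ds m) (h2 : p = 2 → OK2 ds m)
    (hcard : Nat.card G ∣ q ^ N * (ds.map fun d => q ^ d - 1).prod) : False := by
  have hpq : ¬ p ∣ q := by
    intro h
    rw [hq] at h
    exact hpr ((Nat.prime_dvd_prime_iff_eq hp hr).1 (hp.dvd_of_dvd_pow h))
  have h1 : p ^ k ∣ q ^ N * (ds.map fun d => q ^ d - 1).prod := by
    rw [← hH]
    exact (Subgroup.index_dvd_card H).trans hcard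
  have h3 : p ^ k ∣ (ds.map fun d => q ^ d - 1).prod := by
    refine Nat.Coprime.dvd_of_dvd_mul_left ?_ h1
    exact Nat.Coprime.pow _ _ ((Nat.Prime.coprime_iff_not_dvd hp).2 hpq)
  have h4 := hOK.bound hp hq2 hpq h2 h3
  rw [hH] at hlow
  omega

section

variable {D : ChevalleyDatum} {l : ℕ} {M : CoxeterMatrix (Fin l)} (hp : IsType D l M) {K : Type u} [Field K]
  [Fintype K]

include hp in
theorem card_rootSubgroup {r : ℕ} (hr : r < D.nroots) : Nat.card ↥(D.rootSubgroup K r) = Fintype.card K := by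
  rw [← Nat.card_eq_fintype_card]
  symm
  refine Nat.card_congr (Equiv.ofBijective
    (fun a : K => (⟨xG hp.inList r a, xG_mem_rootSubgroup hp.inList r a⟩ : ↥(D.rootSubgroup K r))) ⟨?_, ?_⟩)
  · intro a b h
    have h1 : xG hp.inList r a = xG hp.inList r b := congrArg Subtype.val h
    have h2 : xG hp.inList r (a - b) = 1 := by
      have h3 := xG_add hp.inList r (a - b) b
      rw [sub_add_cancel, h1] at h3
      exact mul_right_cancel (b := xG hp.inList r b) (by rw [h3, one_mul])
    exact sub_eq_zero.1 ((xG_eq_one_iff hp.inList hr _).1 h2)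
  · rintro ⟨g, hg⟩
    obtain ⟨t, rfl⟩ := (mem_rootSubgroup_iff hp.inList r g).1 hg
    exact ⟨t, rfl⟩

variable {W : Type*} [Group W] (cs : CoxeterSystem M W)

include hp in
theorem card_X {x : Fin l → ℤ} (hx : IsRoot cs hp.isCartan x) :
    Nat.card ↥((XV D l K x).subgroupOf (D.group K)) = Fintype.card K := by
  obtain ⟨r, hr, rfl⟩ := (isRoot_iff hp cs x).1 hx
  rw [← card_rootSubgroup hp hr, XV_vec hp K hr]
  refine Nat.card_congr (Subgroup.subgroupOfEquivOfLe ?_).toEquiv
  have := XV_le_group hp (K := K) (vec D l r)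
  rwa [XV_vec hp K hr] at this

/-- the number of positive roots involving the fundamental root `i` -/
def num (D : ChevalleyDatum) (i : ℕ) : ℕ := ((List.range D.nroots).filter fun r => 0 < rt D r i).length

include hp in
theorem pow_le_card_VJ [Finite W] (r : ℕ) [Fact r.Prime] [CharP K r] (i : Fin l) {m : ℕ} (hm : m ≤ num D i) :
    Fintype.card K ^ m ≤ Nat.card (VJ cs hp.isCartan (fun x => (XV D l K x).subgroupOf (D.group K)) {i}ᶜ) := by
  classical
  have R := rgd (K := K) hp cs r
  have hfin : (NotJ cs hp.isCartan {i}ᶜ).Finite :=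
    (RGD.finite_roots (cs := cs) (h := hp.isCartan)).subset fun _ hx => hx.1
  set s : Finset (Fin l → ℤ) := hfin.toFinset with hs
  have hsc : (s : Set (Fin l → ℤ)) = NotJ cs hp.isCartan {i}ᶜ := hfin.coe_toFinset
  have h3 : Nat.card (VJ cs hp.isCartan (fun x => (XV D l K x).subgroupOf (D.group K)) {i}ᶜ) =
      ∏ x ∈ s, Nat.card ↥((XV D l K x).subgroupOf (D.group K)) := by
    have := card_sup R (s := s) (by rw [hsc]; exact fun x hx => ⟨hx.1, hx.2.1⟩) (by rw [hsc]; exact closed_NotJ _)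
    rw [← this, hsc]
    rfl
  have h4 : ∏ x ∈ s, Nat.card ↥((XV D l K x).subgroupOf (D.group K)) = Fintype.card K ^ s.card := by
    rw [← Finset.prod_const]
    refine Finset.prod_congr rfl fun x hx => card_X hp cs ?_
    have hx' : x ∈ NotJ cs hp.isCartan {i}ᶜ := by rw [← hsc]; exact hx
    exact hx'.1
  rw [h3, h4]
  refine Nat.pow_le_pow_right Fintype.card_pos (hm.trans ?_)
  -- injection
  have h5 : num D i = (((List.range D.nroots).filter fun r => 0 < rt D r i).toFinset).card := by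
    rw [List.toFinset_card_of_nodup (List.nodup_range.filter _)]
    rfl
  rw [h5]
  refine Finset.card_le_card_of_injOn (fun r => vec D l r) ?_ ?_
  · intro r hr
    rw [Finset.mem_coe, List.mem_toFinset, List.mem_filter, List.mem_range] at hr
    have hr2 : 0 < rt D r i := by simpa using hr.2
    rw [hsc]
    have h6 := isRoot_vec hp cs hr.1
    exact ⟨h6, nonneg_of_pos_apply h6 (k := i) hr2, i, by simp, hr2⟩
  · intro a ha b hb e
    rw [Finset.mem_coe, List.mem_toFinset, List.mem_filter, List.mem_range] at ha hb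
    exact vec_inj hp ha.1 hb.1 e

include hp in
/-- **the general form** -/
theorem chev (r : ℕ) [CharP K r] {G : Type*} [Group G] [Finite G] (e : G ≃* ↥(D.group K)) {H : Subgroup G}
    {p k m N : ℕ} {ds : List ℕ} (hpp : p.Prime) (hpr : p ≠ r) (hk : 1 ≤ k) (hH : H.index = p ^ k)
    (hm : ∀ i : Fin l, m ≤ num D i) (hOK : OK ds m) (h2 : OK2 ds m)
    (hcard : Nat.card ↥(D.group K) ∣ Fintype.card K ^ N * (ds.map fun d => Fintype.card K ^ d - 1).prod) : False := by
  have hrp : r.Prime := CharP.char_is_prime K r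
  have hfr : Fact r.Prime := ⟨hrp⟩
  let cs : CoxeterSystem M M.Group := M.toCoxeterSystem
  have hW : Finite M.Group := finite_W hp cs
  have R := rgd (K := K) hp cs r
  have hne : H ≠ ⊤ := by
    rintro rfl
    rw [Subgroup.index_top] at hH
    have := Nat.one_lt_pow (n := k) (by omega) hpp.one_lt
    omega
  set H' : Subgroup ↥(D.group K) := H.map e.toMonoidHom with hH'
  have hi : H'.index = H.index := Subgroup.index_map_equiv H e
  have hne' : H' ≠ ⊤ := by
    intro h1
    rw [← Subgroup.index_eq_one, hi, Subgroup.index_eq_one] at h1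
    exact hne h1
  have hidx : ¬ r ∣ H'.index := by
    rw [hi, hH]
    intro h1
    exact hpr ((Nat.prime_dvd_prime_iff_eq hrp hpp).1 (hrp.dvd_of_dvd_pow h1)).symm
  obtain ⟨i, h3⟩ := exists_card_VJ_le R (G1_eq_top hp cs (K := K)) hne' hidx
  obtain ⟨f, -, hf⟩ := FiniteField.card K r
  exact false_of (H := H') hpp hrp hpr hf Fintype.one_lt_card (by rw [hi]; exact hH)
    ((pow_le_card_VJ hp cs r i (hm i)).trans h3) hOK (fun _ => h2) hcard

end

section families

variable {K : Type u} [Field K] [Fintype K] {r : ℕ} [CharP K r] {G : Type*} [Group G] [Finite G]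
  {H : Subgroup G} {p k : ℕ}

theorem g2 (e : G ≃* ↥(chevG2.group K)) (hpp : p.Prime) (hpr : p ≠ r) (hk : 1 ≤ k) (hH : H.index = p ^ k) : False :=
  chev (l := 2) (M := CoxeterMatrix.G₂) (by simp [IsType, typeList]) r e (m := 5) (N := 6) (ds := [2, 6]) hpp hpr hk hH
    (by decide +kernel) ok_G2 ok2_G2 (by
      rw [Cfsg.Agent.S1059.result (F := K) rfl]
      refine dvd_of_eq ?_
      simp only [List.map_cons, List.map_nil, List.prod_cons, List.prod_nil]
      ring)

theorem f4 (e : G ≃* ↥(chevF4.group K)) (hpp : p.Prime) (hpr : p ≠ r) (hk : 1 ≤ k) (hH : H.index = p ^ k) : False :=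
  chev (l := 4) (M := CoxeterMatrix.F₄) (by simp [IsType, typeList]) r e (m := 15) (N := 24) (ds := [2, 6, 8, 12])
    hpp hpr hk hH (by decide +kernel) ok_F4 ok2_F4 (by
      rw [Cfsg.Agent.S1062.result (F := K) rfl]
      refine dvd_of_eq ?_
      simp only [List.map_cons, List.map_nil, List.prod_cons, List.prod_nil]
      ring)

theorem e6 (e : G ≃* ↥(chevE6.group K)) (hpp : p.Prime) (hpr : p ≠ r) (hk : 1 ≤ k) (hH : H.index = p ^ k) : False :=
  chev (l := 6) (M := CoxeterMatrix.E₆) (by simp [IsType, typeList]) r e (m := 16) (N := 36)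
    (ds := [2, 5, 6, 8, 9, 12]) hpp hpr hk hH (by decide +kernel) ok_E6 ok2_E6 (by
      refine Dvd.intro_left (Nat.gcd 3 (Fintype.card K - 1)) ?_
      rw [Cfsg.Agent.S1063.result (F := K) rfl]
      simp only [List.map_cons, List.map_nil, List.prod_cons, List.prod_nil]
      ring)

theorem e7 (e : G ≃* ↥(chevE7.group K)) (hpp : p.Prime) (hpr : p ≠ r) (hk : 1 ≤ k) (hH : H.index = p ^ k) : False :=
  chev (l := 7) (M := CoxeterMatrix.E₇) (by simp [IsType, typeList]) r e (m := 27) (N := 63)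
    (ds := [2, 6, 8, 10, 12, 14, 18]) hpp hpr hk hH (by decide +kernel) ok_E7 ok2_E7 (by
      refine Dvd.intro_left (Nat.gcd 2 (Fintype.card K - 1)) ?_
      rw [Cfsg.Agent.S1064.result (F := K) rfl]
      simp only [List.map_cons, List.map_nil, List.prod_cons, List.prod_nil]
      ring)

theorem e8 (e : G ≃* ↥(chevE8.group K)) (hpp : p.Prime) (hpr : p ≠ r) (hk : 1 ≤ k) (hH : H.index = p ^ k) : False :=
  chev (l := 8) (M := CoxeterMatrix.E₈) (by simp [IsType, typeList]) r e (m := 57) (N := 120)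
    (ds := [2, 8, 12, 14, 18, 20, 24, 30]) hpp hpr hk hH (by decide +kernel) ok_E8 ok2_E8 (by
      rw [Cfsg.Agent.S1065.result (F := K) rfl]
      refine dvd_of_eq ?_
      simp only [List.map_cons, List.map_nil, List.prod_cons, List.prod_nil]
      ring)

end families

end Cfsg.Agent.H62.PPChev
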