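import Mathlib
import Cfsg.Agent.H62.PPChev
import Cfsg.Agent.Mrg.ParSys.RootExc
import Cfsg.Agent.ClosedExc.Rows
import Cfsg.Agent.SigTab.Table
import Cfsg.Agent.S1066
import Cfsg.Agent.S1067

/-!
# No subgroups of prime power index prime to the characteristic: `³D₄`, `²E₆` (helper62)
-/

set_option autoImplicit false
set_option linter.unusedSectionVars false

namespace Cfsg.Agent.H62.PPTwist

open CoxeterSystem Cfsg.Lie Cfsg.Agent.ChevalleyStructure Cfsg.Agent.ChevalleyStructure.CoxeterGeom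
  Cfsg.Agent.ChevalleyStructure.CoxeterGeomTypes
  Cfsg.Agent.Tits.Roots Cfsg.Agent.Tits.Core Cfsg.Agent.Nodes.Reps Cfsg.Agent.Nodes.BNOf
  Cfsg.Agent.Nodes.RGDChev
  Cfsg.Agent.Nodes.StabComb Cfsg.Agent.Nodes.Bruhat Cfsg.Agent.Nodes.LeviDec
  Cfsg.Agent.ParSys.RootCount Cfsg.Agent.ParSys.RootExc
open Cfsg.Agent.Nodes.RGDFold hiding refl
open Cfsg.Agent.H62.PPIdx Cfsg.Agent.H62.PPNum Cfsg.Agent.H62.PPChev

section General

variable {W Y : Type*} [Group W] [Group Y] [Finite W] {p : ℕ}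

/-- `|V_i|` from a list of positive roots with weights -/
theorem card_VJ {k : ℕ} {M : CoxeterMatrix (Fin k)} {cs : CoxeterSystem M W} {A : Fin k → Fin k → ℤ}
    {h : IsCartan M A} {T : Subgroup Y} {n : Fin k → Y} {X : (Fin k → ℤ) → Subgroup Y} (R : RGD cs h p T n X)
    {L : List (Fin k → ℤ)} (hR : PosRoots A L.toFinset) (hN : L.Nodup) {q : ℕ} (w : (Fin k → ℤ) → ℕ)
    (hw : ∀ i, ∀ v ∈ L, v ≠ Pi.single i 1 → w (refl A i v) = w v)
    (hq : ∀ i, Nat.card (X (sr i)) = q ^ w (Pi.single i 1)) (i : Fin k) :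
    Nat.card (VJ cs h X {i}ᶜ) = q ^ ((L.filter fun v => 0 < v i).map w).sum := by
  have hwt : ∀ i, ∀ v ∈ L.toFinset, v ≠ Pi.single i 1 → q ^ w (refl A i v) = q ^ w v :=
    fun i v hv hne => by rw [hw i v (List.mem_toFinset.1 hv) hne]
  have e : (L.toFinset.filter fun v => 0 < v i) = (L.filter fun v => 0 < v i).toFinset := by
    ext v
    simp
  rw [Cfsg.Agent.Omega.EH3Close.CountU.card_VJ_single R hR (wt := fun v => q ^ w v) hwt hq i, e,
    List.prod_toFinset _ (hN.filter _)]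
  generalize (L.filter fun v => 0 < v i) = l
  induction l with
  | nil => simp
  | cons a l ih => rw [List.map_cons, List.prod_cons, ih, List.map_cons, List.sum_cons, pow_add]

end General

/-- a general form for groups with a root group datum -/
theorem rgd_false {l : ℕ} {M : CoxeterMatrix (Fin l)} {A : Fin l → Fin l → ℤ} {h : IsCartan M A} {W : Type*} [Group W]
    [Finite W] {cs : CoxeterSystem M W} {Y : Type*} [Group Y] [Finite Y] {r : ℕ} [Fact r.Prime] {T : Subgroup Y}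
    {n : Fin l → Y} {X : (Fin l → ℤ) → Subgroup Y} (R : RGD cs h r T n X) (hG : Nodes.RGDLib.G1 cs h X = ⊤)
    {G : Type*} [Group G] [Finite G] (e : G ≃* Y) {H : Subgroup G} {p k m N q f : ℕ} {ds : List ℕ} (hpp : p.Prime)
    (hpr : p ≠ r) (hk : 1 ≤ k) (hH : H.index = p ^ k) (hq : q = r ^ f) (hq2 : 2 ≤ q)
    (hm : ∀ i : Fin l, q ^ m ≤ Nat.card (VJ cs h X {i}ᶜ)) (hOK : OK ds m) (h2 : p = 2 → OK2 ds m)
    (hcard : Nat.card Y ∣ q ^ N * (ds.map fun d => q ^ d - 1).prod) : False := by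
  have hrp : r.Prime := Fact.out
  have hne : H ≠ ⊤ := by
    rintro rfl
    rw [Subgroup.index_top] at hH
    have := Nat.one_lt_pow (n := k) (by omega) hpp.one_lt
    omega
  set H' : Subgroup Y := H.map e.toMonoidHom with hH'
  have hi : H'.index = H.index := Subgroup.index_map_equiv H e
  have hne' : H' ≠ ⊤ := by
    intro h1
    rw [← Subgroup.index_eq_one, hi, Subgroup.index_eq_one] at h1
    exact hne h1
  have hidx : ¬ r ∣ H'.index := by
    rw [hi, hH]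
    intro h1
    exact hpr ((Nat.prime_dvd_prime_iff_eq hrp hpp).1 (hrp.dvd_of_dvd_pow h1)).symm
  obtain ⟨i, h3⟩ := exists_card_VJ_le R hG hne' hidx
  exact false_of (H := H') hpp hrp hpr hq hq2 (by rw [hi]; exact hH) ((hm i).trans h3) hOK h2 hcard

namespace D4

open Cfsg.Agent.Nodes.RGDTwD4 Cfsg.Agent.ClosedExc.TwD4

/-- positive roots -/
def LG : List (Fin 2 → ℤ) := [![1, 0], ![0, 1], ![1, 1], ![1, 2], ![1, 3], ![2, 3]]

/-- exponents of the orders -/
def w (v : Fin 2 → ℤ) : ℕ := if v 1 % 3 = 0 then 1 else 3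

theorem posRoots : PosRoots A LG.toFinset where
  simple_mem := by
    have h : ∀ i, Pi.single i 1 ∈ LG := by decide +kernel
    exact fun i => List.mem_toFinset.2 (h i)
  pos := by
    have h : ∀ v ∈ LG, ∀ i, 0 ≤ v i := by decide +kernel
    exact fun v hv => h v (List.mem_toFinset.1 hv)
  ne := by
    have h : (0 : Fin 2 → ℤ) ∉ LG := by decide +kernel
    exact fun h0 => h (List.mem_toFinset.1 h0)
  perm := by
    have h : ∀ i, ∀ v ∈ LG, v ≠ Pi.single i 1 → refl A i v ∈ LG := by decide +kernel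
    exact fun i v hv hne => List.mem_toFinset.2 (h i v (List.mem_toFinset.1 hv) hne)

theorem result {K : Type} [Field K] [Fintype K] {q : ℕ} (hq : IsPrimePow q) (hK : Fintype.card K = q ^ 3)
    {r : ℕ} [CharP K r] {G : Type*} [Group G] [Finite G] (e : G ≃* ↥(twistedD4 K q)) {H : Subgroup G}
    {p k : ℕ} (hpp : p.Prime) (hpr : p ≠ r) (hk : 1 ≤ k) (hH : H.index = p ^ k) : False := by
  obtain ⟨φ, hφ⟩ := D4Fixed.exists_frob hq hK
  have hle := D4Fixed.twisted_le_fix hK hφ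
  have hr : Fact r.Prime := ⟨CharP.char_is_prime K r⟩
  let cs := CoxeterMatrix.G₂.toCoxeterSystem
  have hW : Finite CoxeterMatrix.G₂.Group := Cfsg.Agent.Nodes.RGDFold.finite_W
    (hp := Cfsg.Agent.Nodes.RGDTwD4.hp) cs isCartan foldData
  have R := rgd cs hK hφ r
  have c0 := card_X0 hφ hle hq.two_le hK
  have c1 := card_X1 (K := K) hφ hle
  rw [hK] at c1
  have hcV := fun i => card_VJ R posRoots (by decide +kernel) (q := q) w (by decide +kernel)
    (by
      intro i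
      fin_cases i
      · exact c0.trans (pow_one q).symm
      · exact c1) i
  obtain ⟨f, hf0, hf⟩ := FiniteField.card K r
  -- `q` is a power of `r`
  have hqr : ∃ f, q = r ^ f := by
    have h1 : q ∣ r ^ (f : ℕ) := by rw [← hf, hK]; exact dvd_pow_self q (by norm_num)
    obtain ⟨g, -, hg⟩ := (Nat.dvd_prime_pow hr.out).1 h1
    exact ⟨g, hg⟩
  obtain ⟨g, hg⟩ := hqr
  refine rgd_false R (G1_eq_top cs hK hφ) e (m := 9) (N := 12) (ds := [2, 6, 12]) hpp hpr hk hH hg hq.two_le ?_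
    ok_D4 (fun _ => ok2_D4) ?_
  · intro i
    rw [hcV i]
    refine Nat.pow_le_pow_right (by have := hq.two_le; omega) ?_
    exact (by decide +kernel : ∀ i : Fin 2, 9 ≤ ((LG.filter fun v => 0 < v i).map w).sum) i
  · rw [Cfsg.Agent.S1067.result hq hK]
    simp only [List.map_cons, List.map_nil, List.prod_cons, List.prod_nil]
    have h1 : q ^ 8 + q ^ 4 + 1 ∣ q ^ 12 - 1 := by
      refine ⟨q ^ 4 - 1, ?_⟩
      obtain ⟨a, ha⟩ : ∃ a, q ^ 4 = a + 1 := ⟨q ^ 4 - 1, by have := Nat.one_le_pow 4 q (by have := hq.two_le; omega); omega⟩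
      have e8 : q ^ 8 = (a + 1) ^ 2 := by rw [← ha]; ring
      have e12 : q ^ 12 = (a + 1) ^ 3 := by rw [← ha]; ring
      rw [e8, e12, ha]
      have : (a + 1) ^ 3 = ((a + 1) ^ 2 + (a + 1) + 1) * a + 1 := by ring
      rw [this]
      simp
    calc q ^ 12 * (q ^ 2 - 1) * (q ^ 6 - 1) * (q ^ 8 + q ^ 4 + 1)
        ∣ q ^ 12 * (q ^ 2 - 1) * (q ^ 6 - 1) * (q ^ 12 - 1) := mul_dvd_mul_left _ h1
      _ = _ := by ring

end D4

namespace E6

open Cfsg.Agent.Nodes.RGDTwE6 Cfsg.Agent.GpExc.TwCard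
open Cfsg.Agent.ChevalleyStructure.TwE6Basic (exists_frob)

/-- exponents of the orders -/
def w (v : Fin 4 → ℤ) : ℕ := if v 2 % 2 = 0 ∧ v 3 % 2 = 0 then 1 else 2

theorem w_refl : ∀ i, ∀ v ∈ LF4, v ≠ Pi.single i 1 → w (refl A i v) = w v := by decide +kernel

theorem nodup_LF4 : LF4.Nodup := by decide +kernel

theorem sum_w : ∀ i : Fin 4, 21 ≤ ((LF4.filter fun v => 0 < v i).map w).sum := by decide +kernel

theorem result {K : Type} [Field K] [Fintype K] {q : ℕ} (hq : IsPrimePow q) (hK : Fintype.card K = q ^ 2)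
    {r : ℕ} [CharP K r] {G : Type*} [Group G] [Finite G] (e : G ≃* ↥(twistedE6 K q)) {H : Subgroup G}
    {p k : ℕ} (hpp : p.Prime) (hpr : p ≠ r) (hk : 1 ≤ k) (hH : H.index = p ^ k) : False := by
  obtain ⟨φ, hφ, hqq⟩ := exists_frob hq hK
  have hr : Fact r.Prime := ⟨CharP.char_is_prime K r⟩
  let cs := CoxeterMatrix.F₄.toCoxeterSystem
  have hW : Finite CoxeterMatrix.F₄.Group := Cfsg.Agent.Nodes.RGDFold.finite_W
    (hp := Cfsg.Agent.Nodes.RGDTwE6.hp) cs isCartan foldData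
  have R := rgd cs hφ hqq r
  have cX := card_simple hφ hqq hq.one_lt hK
  have hcV := fun i => card_VJ R (L := LF4) posRoots_F4 nodup_LF4 (q := q) w w_refl
    (by
      intro i
      rw [cX i]
      congr 1
      revert i
      decide +kernel) i
  obtain ⟨f, hf0, hf⟩ := FiniteField.card K r
  have hqr : ∃ f, q = r ^ f := by
    have h1 : q ∣ r ^ (f : ℕ) := by rw [← hf, hK]; exact dvd_pow_self q (by norm_num)
    obtain ⟨g, -, hg⟩ := (Nat.dvd_prime_pow hr.out).1 h1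
    exact ⟨g, hg⟩
  obtain ⟨g, hg⟩ := hqr
  refine rgd_false R (G1_eq_top cs hφ hqq) e (m := 21) (N := 36) (ds := [2, 6, 8, 10, 12, 18]) hpp hpr hk hH hg
    hq.two_le ?_ ok_TE6 (fun _ => ok2_TE6) ?_
  · intro i
    rw [hcV i]
    exact Nat.pow_le_pow_right (by have := hq.two_le; omega) (sum_w i)
  · have h1 := Dvd.intro_left _ (Cfsg.Agent.S1066.result hq hK)
    refine h1.trans ?_
    simp only [List.map_cons, List.map_nil, List.prod_cons, List.prod_nil]
    have h5 : q ^ 5 + 1 ∣ q ^ 10 - 1 := ⟨q ^ 5 - 1, by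
      have := Nat.sq_sub_sq (q ^ 5) 1
      rwa [one_pow, ← pow_mul] at this⟩
    have h9 : q ^ 9 + 1 ∣ q ^ 18 - 1 := ⟨q ^ 9 - 1, by
      have := Nat.sq_sub_sq (q ^ 9) 1
      rwa [one_pow, ← pow_mul] at this⟩
    calc q ^ 36 * (q ^ 2 - 1) * (q ^ 5 + 1) * (q ^ 6 - 1) * (q ^ 8 - 1) * (q ^ 9 + 1) * (q ^ 12 - 1)
        = (q ^ 36 * (q ^ 2 - 1) * (q ^ 6 - 1) * (q ^ 8 - 1) * (q ^ 12 - 1)) * ((q ^ 5 + 1) * (q ^ 9 + 1)) := by ring
      _ ∣ (q ^ 36 * (q ^ 2 - 1) * (q ^ 6 - 1) * (q ^ 8 - 1) * (q ^ 12 - 1)) * ((q ^ 10 - 1) * (q ^ 18 - 1)) :=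
          mul_dvd_mul_left _ (mul_dvd_mul h5 h9)
      _ = _ := by ring

end E6

end Cfsg.Agent.H62.PPTwist
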