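import Mathlib
import Cfsg.Agent.H689.Num

/-!
# Numerical lemmas for the classical groups in cross characteristic (helper62)
-/

set_option autoImplicit false

namespace Cfsg.Agent.H62.PCNum

open Cfsg.Agent.H689

variable {q e r k : ℕ}

theorem cop_sub (h : Ppd q e r) {j : ℕ} (hj : 0 < j) (hje : j < e) : Nat.Coprime (r ^ k) (q ^ j - 1) := by
  refine Nat.Coprime.pow_left _ ((Nat.Prime.coprime_iff_not_dvd h.prime).2 fun h1 => ?_)
  have := Nat.le_of_dvd hj ((h.iff j).1 h1)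
  omega

theorem cop_pow (h : Ppd q e r) (N : ℕ) : Nat.Coprime (r ^ k) (q ^ N) :=
  Nat.Coprime.pow _ _ ((Nat.Prime.coprime_iff_not_dvd h.prime).2 h.not_dvd)

theorem dvd_two_mul (h : Ppd q e r) {j : ℕ} (h1 : r ∣ q ^ j + 1) : e ∣ 2 * j := by
  rw [← h.iff]
  have h2 : q ^ (2 * j) - 1 = (q ^ j + 1) * (q ^ j - 1) := by
    have := Nat.sq_sub_sq (q ^ j) 1
    rw [one_pow] at this
    rw [mul_comm 2 j, pow_mul, this]
  rw [h2]
  exact h1.mul_right _

theorem cop_add (h : Ppd q e r) {j : ℕ} (hj : ¬ e ∣ 2 * j) : Nat.Coprime (r ^ k) (q ^ j + 1) :=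
  Nat.Coprime.pow_left _ ((Nat.Prime.coprime_iff_not_dvd h.prime).2 fun h1 => hj (dvd_two_mul h h1))

theorem sq_sub (q m : ℕ) : q ^ (2 * m) - 1 = (q ^ m + 1) * (q ^ m - 1) := by
  have := Nat.sq_sub_sq (q ^ m) 1
  rw [one_pow] at this
  rw [mul_comm 2 m, pow_mul, this]

/-- `r` primitive for `2 m` divides `q ^ m + 1` -/
theorem dvd_add {m : ℕ} (hm : 0 < m) (h : Ppd q (2 * m) r) : r ∣ q ^ m + 1 := by
  have h1 : r ∣ q ^ (2 * m) - 1 := (h.iff _).2 dvd_rfl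
  rw [sq_sub, h.prime.dvd_mul] at h1
  refine h1.resolve_right fun h2 => ?_
  have := Nat.le_of_dvd hm ((h.iff m).1 h2)
  omega

/-- symplectic and odd orthogonal groups -/
theorem pow_dvd_sp {m N : ℕ} (hm : 1 ≤ m) (h : Ppd q (2 * m) r)
    (hd : r ^ k ∣ q ^ N * ∏ i ∈ Finset.range m, (q ^ (2 * (i + 1)) - 1)) : r ^ k ∣ q ^ m + 1 := by
  obtain ⟨m, rfl⟩ : ∃ j, m = j + 1 := ⟨m - 1, by omega⟩
  rw [Finset.prod_range_succ] at hd
  have h1 := (cop_pow h N (k := k)).dvd_of_dvd_mul_left hd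
  have h2 : Nat.Coprime (r ^ k) (∏ i ∈ Finset.range m, (q ^ (2 * (i + 1)) - 1)) :=
    Nat.Coprime.prod_right fun i hi => cop_sub h (by omega) (by have := Finset.mem_range.1 hi; omega)
  have h3 := h2.dvd_of_dvd_mul_left h1
  rw [sq_sub] at h3
  exact (cop_sub h (by omega) (by omega)).dvd_of_dvd_mul_right h3

/-- orthogonal groups of minus type -/
theorem pow_dvd_minus {m N : ℕ} (hm : 1 ≤ m) (h : Ppd q (2 * m) r)
    (hd : r ^ k ∣ q ^ N * (q ^ m + 1) * ∏ i ∈ Finset.range (m - 1), (q ^ (2 * (i + 1)) - 1)) : r ^ k ∣ q ^ m + 1 := by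
  have h2 : Nat.Coprime (r ^ k) (∏ i ∈ Finset.range (m - 1), (q ^ (2 * (i + 1)) - 1)) :=
    Nat.Coprime.prod_right fun i hi => cop_sub h (by omega) (by have := Finset.mem_range.1 hi; omega)
  exact (cop_pow h N).dvd_of_dvd_mul_left (h2.dvd_of_dvd_mul_right hd)

/-- orthogonal groups of plus type -/
theorem pow_dvd_plus {m N : ℕ} (hm : 3 ≤ m) (h : Ppd q (2 * (m - 1)) r)
    (hd : r ^ k ∣ q ^ N * (q ^ m - 1) * ∏ i ∈ Finset.range (m - 1), (q ^ (2 * (i + 1)) - 1)) :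
    r ^ k ∣ q ^ (m - 1) + 1 := by
  have h1 : Nat.Coprime (r ^ k) (q ^ m - 1) := cop_sub h (by omega) (by omega)
  rw [mul_assoc] at hd
  have h2 := (cop_pow h N (k := k)).dvd_of_dvd_mul_left hd
  have h3 := h1.dvd_of_dvd_mul_left h2
  have h4 : r ^ k ∣ q ^ 0 * ∏ i ∈ Finset.range (m - 1), (q ^ (2 * (i + 1)) - 1) := by
    rwa [pow_zero, one_mul]
  exact pow_dvd_sp (by omega) h h4

/-- unitary groups of odd dimension -/
theorem pow_dvd_u_odd {n N : ℕ} (hn : 3 ≤ n) (hodd : Odd n) (h : Ppd q (2 * n) r)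
    (hd : r ^ k ∣ q ^ N * ∏ i ∈ Finset.range n, (if Even i then q ^ (i + 1) + 1 else q ^ (i + 1) - 1)) :
    r ^ k ∣ q ^ n + 1 := by
  obtain ⟨n, rfl⟩ : ∃ j, n = j + 1 := ⟨n - 1, by omega⟩
  rw [Finset.prod_range_succ] at hd
  have he : Even n := by
    rcases Nat.even_or_odd n with h1 | h1
    · exact h1
    · exfalso
      have := h1.add_one
      exact (Nat.not_odd_iff_even.2 this) hodd
  rw [if_pos he] at hd
  have h1 := (cop_pow h N (k := k)).dvd_of_dvd_mul_left hd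
  have h2 : Nat.Coprime (r ^ k) (∏ i ∈ Finset.range n, (if Even i then q ^ (i + 1) + 1 else q ^ (i + 1) - 1)) := by
    refine Nat.Coprime.prod_right fun i hi => ?_
    have := Finset.mem_range.1 hi
    split_ifs
    · refine cop_add h fun h3 => ?_
      have := Nat.le_of_dvd (by omega) h3
      omega
    · exact cop_sub h (by omega) (by omega)
  exact h2.dvd_of_dvd_mul_left h1

/-- unitary groups of even dimension -/
theorem pow_dvd_u_even {n N : ℕ} (hn : 4 ≤ n) (heven : Even n) (h : Ppd q (2 * (n - 1)) r)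
    (hd : r ^ k ∣ q ^ N * ∏ i ∈ Finset.range n, (if Even i then q ^ (i + 1) + 1 else q ^ (i + 1) - 1)) :
    r ^ k ∣ q ^ (n - 1) + 1 := by
  obtain ⟨n, rfl⟩ : ∃ j, n = j + 1 := ⟨n - 1, by omega⟩
  rw [Finset.prod_range_succ] at hd
  have he : Odd n := by
    rcases Nat.even_or_odd n with h1 | h1
    · exfalso
      have := h1.add_one
      exact (Nat.not_odd_iff_even.2 heven) this
    · exact h1
  rw [if_neg (Nat.not_even_iff_odd.2 he)] at hd
  rw [Nat.add_sub_cancel] at h ⊢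
  have h0 := (cop_pow h N (k := k)).dvd_of_dvd_mul_left hd
  have h1 : r ^ k ∣ ∏ i ∈ Finset.range n, (if Even i then q ^ (i + 1) + 1 else q ^ (i + 1) - 1) :=
    (cop_sub h (by omega) (by omega)).dvd_of_dvd_mul_right h0
  have h2 : r ^ k ∣ q ^ 0 * ∏ i ∈ Finset.range n, (if Even i then q ^ (i + 1) + 1 else q ^ (i + 1) - 1) := by
    rwa [pow_zero, one_mul]
  exact pow_dvd_u_odd (by omega) he h h2

theorem ppd_sq {n : ℕ} (h : Ppd q (2 * n) r) : Ppd (q ^ 2) n r where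
  prime := h.prime
  iff m := by
    rw [← pow_mul, h.iff]
    exact Nat.mul_dvd_mul_iff_left (by norm_num)
  dvd := (Nat.dvd_mul_left n 2).trans h.dvd
  not_dvd := fun h1 => h.not_dvd (h.prime.dvd_of_dvd_pow h1)

/-- the part prime to `q + 1` -/
theorem lt_pow {n : ℕ} (hq : 2 ≤ q) (hodd : Odd n) (hcop : Nat.Coprime (r ^ k) (q + 1)) (hd : r ^ k ∣ q ^ n + 1) :
    r ^ k < q ^ n := by
  have h1 : q + 1 ∣ q ^ n + 1 := by
    have := hodd.nat_add_dvd_pow_add_pow q 1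
    rwa [one_pow] at this
  have h2 : r ^ k * (q + 1) ∣ q ^ n + 1 := hcop.mul_dvd_of_dvd_of_dvd hd h1
  have h3 := Nat.le_of_dvd (by omega) h2
  have h4 : 1 ≤ q ^ n := Nat.one_le_pow _ _ (by omega)
  nlinarith

end Cfsg.Agent.H62.PCNum
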