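import Mathlib
import Cfsg.Agent.H62.PCGeo
import Cfsg.Agent.Nodes.WittRGD

/-!
# Subspaces spanned by isotropic vectors of a Witt frame (helper62)
-/

set_option autoImplicit false
set_option linter.unusedSectionVars false

namespace Cfsg.Agent.H62.PCFrame

open Module Cfsg.Agent.H689 Cfsg.Agent.H62.PCGeo
open Cfsg.Agent.TitsThree.Siegel Cfsg.Agent.TitsThree.WittFrame Cfsg.Agent.TitsThree.WittWeyl
open Cfsg.Agent.Nodes.WittRoot

variable {F : Type*} [Field F] {V : Type*} [AddCommGroup V] [Module F V] {H : HForm F V} {n : ℕ}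
  (Fr : Frame H (Fin n))

/-- the span of a set of frame vectors -/
def RS (S : Set (Fin n × Bool)) : Submodule F V := Submodule.span F (Fr.b '' S)

/-- no pair of opposite indices -/
def IsoS (S : Set (Fin n × Bool)) : Prop := ∀ a ∈ S, neg a ∉ S

variable {Fr} {S : Set (Fin n × Bool)}

theorem b_mem {a : Fin n × Bool} (ha : a ∈ S) : Fr.b a ∈ RS Fr S := Submodule.subset_span ⟨a, ha, rfl⟩

theorem maps_RS {g : V ≃ₗ[F] V} (h : ∀ a ∈ S, g (Fr.b a) ∈ RS Fr S) : ∀ v ∈ RS Fr S, g v ∈ RS Fr S := by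
  intro v hv
  refine Submodule.span_induction (p := fun v _ => g v ∈ RS Fr S) ?_ ?_ ?_ ?_ hv
  · rintro _ ⟨a, ha, rfl⟩
    exact h a ha
  · rw [map_zero]; exact Submodule.zero_mem _
  · intro x y _ _ hx hy
    rw [map_add]; exact Submodule.add_mem _ hx hy
  · intro c x _ hx
    rw [map_smul]; exact Submodule.smul_mem _ _ hx

theorem X_maps {a b : Fin n × Bool} (hab : a.1 ≠ b.1) (h1 : neg a ∈ S → b ∈ S) (h2 : neg b ∈ S → a ∈ S) (t : F) :
    ∀ v ∈ RS Fr S, Fr.X a b t v ∈ RS Fr S := by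
  refine maps_RS fun c hc => ?_
  by_cases e1 : c = neg b
  · subst e1
    rw [X_apply_neg Fr hab]
    exact Submodule.add_mem _ (b_mem hc) (Submodule.smul_mem _ _ (b_mem (h2 hc)))
  by_cases e2 : c = neg a
  · subst e2
    rw [X_apply_neg' Fr hab]
    exact Submodule.sub_mem _ (b_mem hc) (Submodule.smul_mem _ _ (b_mem (h1 hc)))
  rw [X_apply_of_ne Fr hab e2 e1]
  exact b_mem hc

theorem Z_maps {a : Fin n × Bool} (h1 : neg a ∉ S) (p : Fr.Adm) :
    ∀ v ∈ RS Fr S, Fr.Z a p v ∈ RS Fr S := by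
  refine maps_RS fun c hc => ?_
  rw [Z_apply_of_ne Fr (fun e => h1 (e ▸ hc))]
  exact b_mem hc

theorem mono_maps {g : V ≃ₗ[F] V} (hg : Mono Fr g id) : ∀ v ∈ RS Fr S, g v ∈ RS Fr S := by
  refine maps_RS fun c hc => ?_
  obtain ⟨l, -, e⟩ := hg c
  rw [e]
  exact Submodule.smul_mem _ _ (b_mem hc)

/-! ### coordinates -/

variable (Fr) in
/-- the coordinates -/
def psi : V →ₗ[F] (Fin n × Bool → F) where
  toFun v := fun a => (H.h (Fr.b a) (Fr.b (neg a)))⁻¹ * H.h v (Fr.b (neg a))
  map_add' v w := by funext a; simp only [Pi.add_apply, H.add_left]; ring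
  map_smul' c v := by funext a; simp only [Pi.smul_apply, H.smul_left, smul_eq_mul, RingHom.id_apply]; ring

theorem neg_inj {a b : Fin n × Bool} (h : neg a = neg b) : a = b := by
  have := congrArg neg h
  rwa [neg_neg, neg_neg] at this

theorem psi_b (a : Fin n × Bool) : psi Fr (Fr.b a) = Pi.single a 1 := by
  funext c
  change (H.h (Fr.b c) (Fr.b (neg c)))⁻¹ * H.h (Fr.b a) (Fr.b (neg c)) = _
  by_cases e : c = a
  · subst e
    rw [Pi.single_eq_same, inv_mul_cancel₀]
    rw [Fr.hb_self_neg]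
    exact Fr.η_ne _
  · rw [Pi.single_eq_of_ne e, Fr.hb_ne (fun h => e (neg_inj h)), mul_zero]

theorem linInd : LinearIndependent F Fr.b := by
  rw [Fintype.linearIndependent_iff]
  intro c hc a
  have h1 := congrArg (fun v => psi Fr v a) hc
  simp only [map_sum, map_smul, psi_b, map_zero] at h1
  rw [Finset.sum_apply] at h1
  simpa [Pi.single_apply] using h1

theorem finrank_RS [Finite V] : finrank F (RS Fr S) = S.ncard := by
  classical
  have : Module.Finite F V := Module.Finite.of_finite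
  have hli := (linInd (Fr := Fr)).comp (fun a : S => (a : Fin n × Bool)) Subtype.val_injective
  have h1 : RS Fr S = Submodule.span F (Set.range ((Fr.b) ∘ (fun a : S => (a : Fin n × Bool)))) := by
    rw [Set.range_comp, Subtype.range_coe]
    rfl
  have : Fintype S := Fintype.ofFinite _
  rw [h1, finrank_span_eq_card hli, ← Nat.card_eq_fintype_card, Nat.card_coe_set_eq]

variable (Fr) in
include Fr in
theorem two_mul_le [Finite V] : 2 * n ≤ finrank F V := by
  have : Module.Finite F V := Module.Finite.of_finite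
  have h1 := (linInd (Fr := Fr)).fintype_card_le_finrank
  rwa [Fintype.card_prod, Fintype.card_fin, Fintype.card_bool, mul_comm] at h1

theorem psi_ne {v : V} (hv : v ∈ RS Fr S) (hv0 : v ≠ 0) : psi Fr v ≠ 0 := by
  have key : v = ∑ a, psi Fr v a • Fr.b a := by
    refine Submodule.span_induction (p := fun v _ => v = ∑ a, psi Fr v a • Fr.b a) ?_ ?_ ?_ ?_ hv
    · rintro _ ⟨a, -, rfl⟩
      rw [psi_b]
      simp [Pi.single_apply]
    · simp
    · intro x y _ _ hx hy
      rw [map_add]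
      simp only [Pi.add_apply, add_smul, Finset.sum_add_distrib]
      rw [← hx, ← hy]
    · intro c x _ hx
      rw [map_smul]
      simp only [Pi.smul_apply, smul_eq_mul, mul_smul]
      rw [← Finset.smul_sum, ← hx]
  intro h0
  apply hv0
  rw [key, h0]
  simp

theorem exists_ne {v : V} (hv : v ∈ RS Fr S) (hv0 : v ≠ 0) : ∃ u, H.h v u ≠ 0 := by
  obtain ⟨a, ha⟩ := Function.ne_iff.1 (psi_ne hv hv0)
  refine ⟨Fr.b (neg a), fun h0 => ha ?_⟩
  change (H.h (Fr.b a) (Fr.b (neg a)))⁻¹ * H.h v (Fr.b (neg a)) = 0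
  rw [h0, mul_zero]

theorem isotropic (hS : IsoS S) : ∀ v ∈ RS Fr S, ∀ w ∈ RS Fr S, H.h v w = 0 := by
  intro v hv w hw
  refine Submodule.span_induction (p := fun v _ => H.h v w = 0) ?_ ?_ ?_ ?_ hv
  · rintro _ ⟨a, ha, rfl⟩
    refine Submodule.span_induction (p := fun w _ => H.h (Fr.b a) w = 0) ?_ ?_ ?_ ?_ hw
    · rintro _ ⟨c, hc, rfl⟩
      refine Fr.hb_ne fun e => hS a ha (e ▸ hc)
    · exact H.zero_right _
    · intro x y _ _ hx hy
      rw [H.add_right, hx, hy, add_zero]
    · intro c x _ hx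
      rw [H.smul_right, hx, mul_zero]
  · exact H.zero_left _
  · intro x y _ _ hx hy
    rw [H.add_left, hx, hy, add_zero]
  · intro c x _ hx
    rw [H.smul_left, hx, mul_zero]

theorem ncard_le (hS : IsoS S) : S.ncard ≤ n := by
  have h1 : S.InjOn Prod.fst := by
    intro a ha b hb e
    by_contra hne
    have : b = neg a := by
      apply Prod.ext
      · exact e.symm
      · rw [neg_snd]
        cases h1 : a.2 <;> cases h2 : b.2 <;> first | rfl | (exfalso; exact hne (Prod.ext e (h1.trans h2.symm)))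
    exact hS a ha (this ▸ hb)
  have h2 := Set.ncard_le_ncard_of_injOn (s := S) (t := Set.univ) (fun a : Fin n × Bool => a.1) (fun _ _ => Set.mem_univ _)
    h1
  rwa [Set.ncard_univ, Nat.card_fin] at h2

/-- the hypotheses of `PCGeo` -/
theorem iso_RS [Finite V] (hS : IsoS S) (hne : S.Nonempty) {g : V ≃ₗ[F] V} (hg : ∀ v ∈ RS Fr S, g v ∈ RS Fr S) :
    Iso H g (RS Fr S) where
  inv := hg
  ne_bot := by
    intro h0
    have h1 := finrank_RS (Fr := Fr) (S := S)
    rw [h0, finrank_bot] at h1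
    exact (Set.ncard_ne_zero_of_mem hne.some_mem (Set.toFinite _)) h1.symm
  iso := isotropic hS
  nondeg _ hv hv0 := exists_ne hv hv0
  dim := by
    rw [finrank_RS]
    have := two_mul_le Fr
    have := ncard_le hS
    omega

/-! ### stabilisers -/

/-- the stabiliser of a subspace -/
def Stb [Finite V] (R : Submodule F V) : Subgroup (V ≃ₗ[F] V) where
  carrier := {g | ∀ v ∈ R, g v ∈ R}
  one_mem' := fun _ hv => hv
  mul_mem' := fun ha hb v hv => ha _ (hb v hv)
  inv_mem' := by
    intro g hg v hv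
    have hinj : Function.Injective (fun w : R => (⟨g w, hg w w.2⟩ : R)) := by
      intro x y e
      exact Subtype.ext (g.injective (congrArg Subtype.val e))
    obtain ⟨w, hw⟩ := (Finite.injective_iff_surjective.1 hinj) ⟨v, hv⟩
    have h1 : g w = v := congrArg Subtype.val hw
    change g.symm v ∈ R
    rw [← h1, LinearEquiv.symm_apply_apply]
    exact w.2

theorem mem_Stb [Finite V] {R : Submodule F V} {g : V ≃ₗ[F] V} : g ∈ Stb R ↔ ∀ v ∈ R, g v ∈ R := Iff.rfl

/-- **an element of order `l` in a subgroup of a parabolic subgroup** -/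
theorem exists_elt [Finite V] {I : Subgroup (V ≃ₗ[F] V)} {K : Type*} [Group K] [Finite K] (φ : I →* K) {L : Subgroup K} {R : Submodule F V}
    {k : K} (hL : L.map (MulAut.conj k).toMonoidHom ≤ ((Stb R).subgroupOf I).map φ) {l : ℕ} (hl : l.Prime)
    (hd : l ∣ Nat.card L) : ∃ g ∈ I, g ≠ 1 ∧ g ^ l = 1 ∧ ∀ v ∈ R, g v ∈ R := by
  have : Finite (V ≃ₗ[F] V) := Finite.of_injective (fun g : V ≃ₗ[F] V => (g : V → V)) DFunLike.coe_injective
  have h1 : l ∣ Nat.card ((Stb R).subgroupOf I) := by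
    refine hd.trans (Dvd.dvd.trans ?_ (Subgroup.card_map_dvd (H := (Stb R).subgroupOf I) φ))
    have h2 : Nat.card (L.map (MulAut.conj k).toMonoidHom) = Nat.card L :=
      Nat.card_congr (Subgroup.equivMapOfInjective L _ (MulAut.conj k).injective).symm.toEquiv
    rw [← h2]
    exact Subgroup.card_dvd_of_le hL
  have : Fact l.Prime := ⟨hl⟩
  obtain ⟨x, hx⟩ := exists_prime_orderOf_dvd_card' l h1
  have h3 : (x : I) ^ l = 1 := by
    have := pow_orderOf_eq_one x
    rw [hx] at this
    exact congrArg Subtype.val this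
  refine ⟨(x : I).1, (x : I).2, ?_, congrArg Subtype.val h3, ?_⟩
  · intro h4
    have h5 : x = 1 := Subtype.ext (Subtype.ext h4)
    rw [h5, orderOf_one] at hx
    exact hl.one_lt.ne hx
  · exact mem_Stb.1 (Subgroup.mem_subgroupOf.1 x.2)

end Cfsg.Agent.H62.PCFrame
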