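import Mathlib
import Cfsg.Agent.H62.PCWitt
import Cfsg.Agent.H62.PCNum
import Cfsg.Agent.LieClassical.OrthFinite
import Cfsg.Agent.Nodes.WittInst
import Cfsg.Agent.S0245
import Cfsg.Agent.S0246
import Cfsg.Agent.S0280
import Cfsg.Agent.S0292
import Cfsg.Agent.S0294

/-!
# No subgroups of prime power index prime to the characteristic: `PSp`, `PSU`, `PΩ` odd, `PΩ⁻` (helper62)
-/

set_option autoImplicit false
set_option linter.unusedSectionVars false

namespace Cfsg.Agent.H62.PCFam

open Module Cfsg.Agent.H689 Cfsg.Agent.H62.PCGeo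
open CoxeterSystem Cfsg.Agent.ChevalleyStructure.CoxeterGeom Cfsg.Agent.Tits.Roots Cfsg.Agent.Nodes.TypeC
open Cfsg.Agent.Nodes Cfsg.Agent.Nodes.Comb Cfsg.Agent.Nodes.Reps Cfsg.Agent.Nodes.WittRoot Cfsg.Agent.Nodes.BNOf
open Cfsg.Agent.Nodes.WittRGD Cfsg.Agent.Nodes.RGDLib Cfsg.Agent.Nodes.WittAll
open Cfsg.Agent.TitsThree Cfsg.Agent.TitsThree.Siegel Cfsg.Agent.TitsThree.WittFrame
  Cfsg.Agent.TitsThree.WittWeyl Cfsg.Agent.TitsThree.FrameCN
open Cfsg.Agent.H554.SizeC Cfsg.Agent.H62.PCFrame Cfsg.Agent.H62.PCWitt Cfsg.Agent.H62.PCNum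
open Cfsg

section Model

variable {F : Type*} [Field F] {V : Type*} [AddCommGroup V] [Module F V] {H : HForm F V} {n : ℕ}
  {Fr : Frame H (Fin n)} {K : Type*} [Group K] [Finite K] (M : Model Fr K) {p : ℕ} (hA : AmbT Fr p M.I)
  [Finite F] [Finite V] [Fact p.Prime] [CharP F p] {p0 : Fr.Adm} (hp0 : p0.c ≠ 0) (hn : 0 < n)
  {L : Subgroup K} {r k : ℕ} (hr : r.Prime) (hrp : r ≠ p) (hk : 1 ≤ k) (hidx : L.index = r ^ k)

include hr hk hidx in
omit [Finite K] [Finite V] in
theorem ne_top_of : L ≠ ⊤ := by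
  rintro rfl
  rw [Subgroup.index_top] at hidx
  have := Nat.one_lt_pow (n := k) (by omega) hr.one_lt
  omega

include hr hrp hidx in
omit [Finite K] [Finite V] [Finite F] [CharP F p] in
theorem not_dvd_of : ¬ p ∣ L.index := by
  rw [hidx]
  intro h1
  have hp : p.Prime := Fact.out
  exact hrp ((Nat.prime_dvd_prime_iff_eq hp hr).1 (hp.dvd_of_dvd_pow h1)).symm

include hr hidx in
omit [Finite F] [Finite V] [CharP F p] [Fact p.Prime] in
theorem dvd_card_of {l : ℕ} (hl : l.Prime) (hlK : l ∣ Nat.card K) (hne : l ≠ r) : l ∣ Nat.card L := by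
  rw [← L.card_mul_index, hidx, hl.dvd_mul] at hlK
  refine hlK.resolve_right fun h1 => hne ?_
  exact (Nat.prime_dvd_prime_iff_eq hl hr).1 (hl.dvd_of_dvd_pow h1)

theorem Si_nonempty (i : Fin n) : (Si i).Nonempty := ⟨(i, true), le_rfl, rfl⟩

include hA hp0 hn hr hrp hk hidx

theorem eq_of_ppd {l : ℕ} (h : Ppd (Nat.card F) (finrank F V) l) (hlK : l ∣ Nat.card K) : l = r := by
  by_contra hne
  obtain ⟨i, g, hg, hg1, hgl, hst⟩ := PCWitt.exists_elt M hA hp0 hn (ne_top_of hr hk hidx) (not_dvd_of hr hrp hidx)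
    h.prime (dvd_card_of hr hidx h.prime hlK hne)
  have hI := iso_RS (isoS_Si i) (Si_nonempty i) hst
  rcases irr h hgl hg1 hst with h1 | h1
  · exact hI.ne_bot h1
  · have h2 := hI.dim
    have h3 : finrank F (RS Fr (Si i)) ≠ 0 := fun h4 => hI.ne_bot (Submodule.finrank_eq_zero.1 h4)
    have h4 : finrank F (RS Fr (Si i)) = finrank F V := by rw [h1, finrank_top]
    omega

theorem eq_of_ppd' (hN : 3 ≤ finrank F V) {l : ℕ} (h : Ppd (Nat.card F) (finrank F V - 1) l)
    (hlK : l ∣ Nat.card K) : l = r := by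
  by_contra hne
  obtain ⟨i, g, hg, hg1, hgl, hst⟩ := PCWitt.exists_elt M hA hp0 hn (ne_top_of hr hk hidx) (not_dvd_of hr hrp hidx)
    h.prime (dvd_card_of hr hidx h.prime hlK hne)
  exact odd_false hN h hgl hg1 (hA.iso g hg) (iso_RS (isoS_Si i) (Si_nonempty i) hst)

end Model

/-! ### symplectic groups -/

section Sp

variable {F : Type*} [Field F] [Fintype F]

theorem card_psp {q : ℕ} (hF : Fintype.card F = q) {m : ℕ} (hm : 1 ≤ m) :
    Nat.gcd 2 (q - 1) * Nat.card (PSp m F) = q ^ (m ^ 2) * ∏ i ∈ Finset.range m, (q ^ (2 * (i + 1)) - 1) := by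
  have h1 := S0245.result (F := F) hF m
  have h2 := S0246.result (F := F) hF m hm
  have h3 := Subgroup.card_eq_card_quotient_mul_card_subgroup
    (Subgroup.center (Matrix.symplecticGroup (Fin m) F))
  rw [h1, h2] at h3
  rw [h3, mul_comm]

/-- odd primes dividing a product with a denominator dividing a power of two -/
theorem dvd_of_denom {d N P r : ℕ} (hr : r.Prime) (hr2 : 2 < r) (hd : d ∣ 4) (h : d * N = P) (hrP : r ∣ P) : r ∣ N := by
  rw [← h, hr.dvd_mul] at hrP
  refine hrP.resolve_left fun h1 => ?_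
  have h2 : r ∣ 2 ^ 2 := h1.trans hd
  have := Nat.le_of_dvd (by norm_num) (hr.dvd_of_dvd_pow h2)
  omega

theorem psp {m : ℕ} (hm : 2 ≤ m) (h6 : ¬ (Fintype.card F = 2 ∧ m = 3)) {p : ℕ} [CharP F p] {L : Subgroup (PSp m F)}
    {r k : ℕ} (hr : r.Prime) (hrp : r ≠ p) (hk : 1 ≤ k) (hidx : L.index = r ^ k) : False := by
  have : Fact p.Prime := ⟨CharP.char_is_prime F p⟩
  have hq : 1 < Fintype.card F := Fintype.one_lt_card
  obtain ⟨l, hl⟩ := exists_ppd (q := Fintype.card F) (k := 2 * m) hq (by omega) (fun h => h6 ⟨h.1, by omega⟩)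
  have hcard := card_psp (F := F) rfl (m := m) (by omega)
  have hprod : Fintype.card F ^ (2 * m) - 1 ∣ ∏ i ∈ Finset.range m, (Fintype.card F ^ (2 * (i + 1)) - 1) := by
    have h1 := Finset.dvd_prod_of_mem (fun i => Fintype.card F ^ (2 * (i + 1)) - 1)
      (Finset.mem_range.2 (show m - 1 < m by omega))
    have h2 : m - 1 + 1 = m := by omega
    rwa [h2] at h1
  have hlK : l ∣ Nat.card (PSp m F) :=
    dvd_of_denom hl.prime (hl.two_lt (by omega)) ((Nat.gcd_dvd_left _ _).trans (by norm_num)) hcard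
      ((((hl.iff _).2 dvd_rfl).trans hprod).mul_left _)
  have hV : finrank F (Fin m ⊕ Fin m → F) = 2 * m := by
    rw [Module.finrank_fintype_fun_eq_card, Fintype.card_sum, Fintype.card_fin]
    omega
  have hA := AmbT.of_amb (WittU.amb_Sp (m := m) (F := F)) p
  have hp0 : (SpIdent.adm (1 : F) : (SpIdent.frame m F).Adm).c ≠ 0 := one_ne_zero
  have e := eq_of_ppd (KInstSp.model m F) hA hp0 (by omega) hr hrp hk hidx
    (l := l) (by rw [hV, Nat.card_eq_fintype_card]; exact hl) hlK
  subst e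
  have h1 : l ^ k ∣ Fintype.card F ^ m + 1 := by
    refine pow_dvd_sp (N := m ^ 2) (by omega) hl ?_
    rw [← hcard, ← hidx]
    exact (Subgroup.index_dvd_card L).mul_left _
  have h2 := Nat.le_of_dvd (by positivity) h1
  have h3 := index_ge (KInstSp.model m F) hA hp0 (by omega) (ne_top_of hr hk hidx) (not_dvd_of hr hrp hidx)
    (c := Fintype.card F) (by rw [Nat.card_eq_fintype_card]) (by rw [card_adm_Sp, Nat.card_eq_fintype_card])
  rw [card_adm_Sp, if_neg (by omega), Nat.card_eq_fintype_card, hidx] at h3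
  have h4 : Fintype.card F * Fintype.card F ^ (m - 1) = Fintype.card F ^ m := by
    rw [← pow_succ']
    congr 1
    omega
  rw [h4] at h3
  have h5 : 2 ≤ Fintype.card F ^ m := le_trans hq (Nat.le_self_pow (by omega) _)
  nlinarith

end Sp

/-! ### unitary groups -/

section U

variable {F : Type*} [Field F] [Fintype F] {q N : ℕ} (hF : Fintype.card F = q ^ 2)

include hF in
theorem psu (hN : 3 ≤ N) (h4 : ¬ (N = 4 ∧ q = 2)) (h3 : ¬ (N = 3 ∧ q = 2)) {p : ℕ} [CharP F p]
    {L : Subgroup (PSU N F q)} {r k : ℕ} (hr : r.Prime) (hrp : r ≠ p) (hk : 1 ≤ k) (hidx : L.index = r ^ k) :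
    False := by
  have : Fact p.Prime := ⟨CharP.char_is_prime F p⟩
  have hq : 2 ≤ q := LieClassical.HermBasic.two_le hF
  obtain ⟨m, hm⟩ : ∃ m, N = 2 * m ∨ N = 2 * m + 1 := ⟨N / 2, by omega⟩
  obtain ⟨W, -⟩ := WittU.exists_wframe hF hm
  obtain ⟨p0, hp0, -⟩ := WittU.exists_adm hF W
  have hA := AmbT.of_amb (WittU.amb_U hF W) p
  have hV : finrank F (Fin N → F) = N := by
    rw [Module.finrank_fintype_fun_eq_card, Fintype.card_fin]
  have hcard := S0280.result hF N (by omega)
  have hnt := ne_top_of hr hk hidx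
  have hnd := not_dvd_of (p := p) hr hrp hidx
  have hdd : r ^ k ∣ q ^ (N * (N - 1) / 2) * ∏ i ∈ Finset.range N, (if Even i then q ^ (i + 1) + 1 else q ^ (i + 1) - 1) := by
    rw [← hcard, ← hidx]
    exact ((Subgroup.index_dvd_card L).mul_left _).mul_left _
  -- denominators
  have hden : ∀ {l e : ℕ}, Ppd q (2 * e) l → 2 ≤ e →
      l ∣ ∏ i ∈ Finset.range N, (if Even i then q ^ (i + 1) + 1 else q ^ (i + 1) - 1) → l ∣ Nat.card (PSU N F q) := by
    intro l e hl he hd
    have h1 : ¬ l ∣ q + 1 := by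
      intro h1
      have h2 := dvd_two_mul hl (j := 1) (by rwa [pow_one])
      have := Nat.le_of_dvd (by norm_num) h2
      omega
    have h2 : l ∣ Nat.gcd N (q + 1) * ((q + 1) * Nat.card (PSU N F q)) := by
      rw [hcard]; exact hd.mul_left _
    rcases hl.prime.dvd_mul.1 h2 with h5 | h5
    · exact absurd (h5.trans (Nat.gcd_dvd_right _ _)) h1
    · exact (hl.prime.dvd_mul.1 h5).resolve_left h1
  have hF' : Nat.card F = q ^ 2 := by rw [Nat.card_eq_fintype_card, hF]
  rcases hm with hm | hm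
  · -- even dimension
    have hadm := card_adm_U_even hF W hm
    obtain ⟨l, hl⟩ := exists_ppd (q := q) (k := 2 * (N - 1)) hq (by omega) (fun h => h4 ⟨by omega, h.1⟩)
    have hlK : l ∣ Nat.card (PSU N F q) := by
      refine hden hl (by omega) ?_
      have h1 := Finset.dvd_prod_of_mem (fun i => if Even i then q ^ (i + 1) + 1 else q ^ (i + 1) - 1)
        (Finset.mem_range.2 (show N - 2 < N by omega))
      have h2 : N - 2 + 1 = N - 1 := by omega
      have h5 : Even (N - 2) := ⟨m - 1, by omega⟩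
      simp only [h5, if_true, h2] at h1
      exact (dvd_add (by omega) hl).trans h1
    have e := eq_of_ppd' (KInstU.model hF (by omega) W) hA hp0 (by omega) hr hrp hk hidx (l := l)
      (by rw [hV]; exact hN) (by rw [hV, hF']; exact ppd_sq hl) hlK
    subst e
    have h1 := pow_dvd_u_even (by omega) ⟨m, by omega⟩ hl hdd
    have h2 := Nat.le_of_dvd (by positivity) h1
    have h5 := index_ge (KInstU.model hF (by omega) W) hA hp0 (by omega) hnt hnd (c := q)
      (by rw [hF']; nlinarith) (by rw [hadm])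
    rw [hadm, if_neg (by omega), hF', hidx] at h5
    have h6 : q * (q ^ 2) ^ (m - 1) * q = q ^ (N - 1) * q := by
      rw [← pow_mul, ← pow_succ']
      congr 2
      omega
    rw [h6] at h5
    have h7 : 2 ≤ q ^ (N - 1) := le_trans hq (Nat.le_self_pow (by omega) _)
    nlinarith
  · -- odd dimension
    have hadm := card_adm_U_odd hF W hm
    obtain ⟨l, hl⟩ := exists_ppd (q := q) (k := 2 * N) hq (by omega) (fun h => h3 ⟨by omega, h.1⟩)
    have hlK : l ∣ Nat.card (PSU N F q) := by
      refine hden hl (by omega) ?_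
      have h1 := Finset.dvd_prod_of_mem (fun i => if Even i then q ^ (i + 1) + 1 else q ^ (i + 1) - 1)
        (Finset.mem_range.2 (show N - 1 < N by omega))
      have h2 : N - 1 + 1 = N := by omega
      have h5 : Even (N - 1) := ⟨m, by omega⟩
      simp only [h5, if_true, h2] at h1
      exact (dvd_add (by omega) hl).trans h1
    have e := eq_of_ppd (KInstU.model hF (by omega) W) hA hp0 (by omega) hr hrp hk hidx (l := l)
      (by rw [hV, hF']; exact ppd_sq hl) hlK
    subst e
    have h1 := pow_dvd_u_odd (by omega) ⟨m, by omega⟩ hl hdd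
    have h2 := lt_pow hq ⟨m, by omega⟩ (by
      have := cop_add hl (k := k) (j := 1) (fun h5 => by
        have := Nat.le_of_dvd (by norm_num) h5
        omega)
      rwa [pow_one] at this) h1
    have h5 := index_ge (KInstU.model hF (by omega) W) hA hp0 (by omega) hnt hnd (c := 1)
      Nat.card_pos (by rw [hadm]; exact Nat.one_le_pow _ _ (by omega))
    rw [hadm, hF', hidx] at h5
    have h6 : q ^ 3 * (q ^ 2) ^ (m - 1) = q ^ N := by
      rw [← pow_mul, ← pow_add]
      congr 1
      omega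
    rw [h6] at h5
    have h7 : (if m = 1 then 1 else 1) = 1 := by split_ifs <;> rfl
    rw [h7, mul_one] at h5
    omega

end U

/-! ### orthogonal groups -/

section Orthogonal

open QuadraticMap
open Cfsg.Agent.LieClassical Cfsg.Agent.LieClassical.OrthCore Cfsg.Agent.LieClassical.OrthTrans
open Cfsg.Agent.LieClassical.OrthSimple Cfsg.Agent.LieClassical.OrthFinite
open Cfsg.Agent.LieClassical.OrthForms
open Cfsg.Agent.TitsThree.KSideO Cfsg.Agent.TitsThree.StdData Cfsg.Agent.TitsThree.SiegelGen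
  Cfsg.Agent.TitsThree.WBridge Cfsg.Agent.Nodes.WittInst

variable {F : Type*} [Field F] [Fintype F]

theorem po_odd {m : ℕ} (hodd : Odd (Fintype.card F)) (hm : 3 ≤ m) {p : ℕ} [CharP F p]
    {L : Subgroup (Cfsg.POmega F (Cfsg.quadFormOdd m F))}
    {r k : ℕ} (hr : r.Prime) (hrp : r ≠ p) (hk : 1 ≤ k) (hidx : L.index = r ^ k) : False := by
  have : Fact p.Prime := ⟨CharP.char_is_prime F p⟩
  have hcard := S0292.result (F := F) rfl hodd m hm
  have hfin : Finite (POmega F (Cfsg.quadFormOdd m F)) := inferInstance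
  revert L
  rw [← coe_oddForm] at hcard hfin ⊢
  intro L hidx
  have h2 : (2 : F) ≠ 0 := by
    intro h2
    have h3 : CharP F 2 := CharTwo.of_one_ne_zero_of_two_eq_zero one_ne_zero h2
    obtain ⟨k, -, hk⟩ := FiniteField.card F 2
    rw [hk] at hodd
    exact absurd hodd (by
      rw [Nat.not_odd_iff_even]
      exact (even_two).pow_of_ne_zero k.ne_zero)
  have hG : Good (oddForm m F) := by
    apply good_of_finite (nondeg_oddForm m F h2)
    rw [Module.finrank_fintype_fun_eq_card, Fintype.card_sum, Fintype.card_sum, Fintype.card_fin,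
      Fintype.card_unit]
    omega
  have hp0 : ((embOdd m F).ngt ⟨1, -1 ^ 2, rfl⟩).c ≠ 0 := by
    change (1 : F)⁻¹ * (-1 ^ 2) ≠ 0
    simp
  have hadm : Nat.card (toFrame (wodd m F)).Adm = Fintype.card F := by
    have h3 := card_V0 (wodd m F)
    have h4 : Nat.card (Unit ⊕ Fin m ⊕ Fin m → F) = Nat.card F ^ m * Nat.card F ^ m * Nat.card F := by
      rw [Nat.card_fun, Nat.card_eq_fintype_card (α := Unit ⊕ Fin m ⊕ Fin m), Fintype.card_sum, Fintype.card_sum,
        Fintype.card_fin, Fintype.card_unit, pow_add, pow_add, pow_one]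
      ring
    rw [h4] at h3
    have h5 : 0 < Nat.card F ^ m * Nat.card F ^ m := by
      have := Nat.card_pos (α := F)
      positivity
    rw [card_adm_O, Nat.eq_of_mul_eq_mul_left h5 h3, Nat.card_eq_fintype_card]
  have hV : finrank F (Unit ⊕ Fin m ⊕ Fin m → F) = 2 * m + 1 := by
    rw [Module.finrank_fintype_fun_eq_card, Fintype.card_sum, Fintype.card_sum, Fintype.card_fin, Fintype.card_unit]
    omega
  have hq : 1 < Fintype.card F := Fintype.one_lt_card
  obtain ⟨l, hl⟩ := exists_ppd (q := Fintype.card F) (k := 2 * m) hq (by omega) (fun h => by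
    rw [h.1] at hodd
    exact absurd hodd (by decide))
  have hprod : Fintype.card F ^ (2 * m) - 1 ∣ ∏ i ∈ Finset.range m, (Fintype.card F ^ (2 * (i + 1)) - 1) := by
    have h1 := Finset.dvd_prod_of_mem (fun i => Fintype.card F ^ (2 * (i + 1)) - 1)
      (Finset.mem_range.2 (show m - 1 < m by omega))
    have h2 : m - 1 + 1 = m := by omega
    rwa [h2] at h1
  have hlK : l ∣ Nat.card (Cfsg.POmega F (⇑(oddForm m F))) :=
    dvd_of_denom hl.prime (hl.two_lt (by omega)) (by norm_num) hcard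
      ((((hl.iff _).2 dvd_rfl).trans hprod).mul_left _)
  have hA := AmbT.of_amb (amb_O_of_two (wodd m F) h2) p
  have e := eq_of_ppd' (model (wodd m F) hG ⟨_, hp0⟩) hA hp0 (by omega) hr hrp hk hidx
    (l := l) (by rw [hV]; omega) (by rw [hV, Nat.card_eq_fintype_card]; exact hl) hlK
  subst e
  have h1 : l ^ k ∣ Fintype.card F ^ m + 1 := by
    refine pow_dvd_sp (N := m ^ 2) (by omega) hl ?_
    rw [← hcard, ← hidx]
    exact (Subgroup.index_dvd_card L).mul_left _
  have h2' := Nat.le_of_dvd (by positivity) h1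
  have h3 := index_ge (model (wodd m F) hG ⟨_, hp0⟩) hA hp0 (by omega) (ne_top_of hr hk hidx)
    (not_dvd_of hr hrp hidx) (c := Fintype.card F) (by rw [Nat.card_eq_fintype_card]) (by rw [hadm])
  rw [hadm, if_neg (by omega), Nat.card_eq_fintype_card, hidx] at h3
  have h4 : Fintype.card F * Fintype.card F ^ (m - 1) = Fintype.card F ^ m := by
    rw [← pow_succ']
    congr 1
    omega
  rw [h4] at h3
  have h5 : 2 ≤ Fintype.card F ^ m := le_trans hq (Nat.le_self_pow (by omega) _)
  nlinarith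

theorem po_minus {m : ℕ} (a b : F)
    (hab : ∀ z₁ z₂ : F, z₁ ^ 2 + a * z₁ * z₂ + b * z₂ ^ 2 = 0 → z₁ = 0 ∧ z₂ = 0)
    (hm : 4 ≤ m) {p : ℕ} [CharP F p]
    {L : Subgroup (Cfsg.POmega F (Cfsg.quadFormMinus (m - 1) F a b))}
    {r k : ℕ} (hr : r.Prime) (hrp : r ≠ p) (hk : 1 ≤ k) (hidx : L.index = r ^ k) : False := by
  have : Fact p.Prime := ⟨CharP.char_is_prime F p⟩
  have hcard := S0294.result (F := F) rfl m hm a b hab
  have hfin : Finite (POmega F (Cfsg.quadFormMinus (m - 1) F a b)) := inferInstance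
  revert L
  rw [← coe_minusForm] at hcard hfin ⊢
  intro L hidx
  have hG : Good (minusForm (m - 1) F a b) := by
    apply good_of_finite (nondeg_minusForm (m - 1) F a b hab)
    rw [Module.finrank_fintype_fun_eq_card, Fintype.card_sum, Fintype.card_sum, Fintype.card_fin,
      Fintype.card_fin]
    omega
  have hp0 : ((embMinus (m - 1) F a b hab).ngt ⟨(1, 0), -nf a b (1, 0), rfl⟩).c ≠ 0 := by
    change (1 : F)⁻¹ * (-nf a b (1, 0)) ≠ 0
    simp [nf]
  have hA : AmbT (toFrame (wminus (m - 1) F a b hab)) p (E (minusForm (m - 1) F a b)) := by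
    by_cases h2 : (2 : F) = 0
    · have hp2 : p = 2 := by
        have h3 : CharP F 2 := CharTwo.of_one_ne_zero_of_two_eq_zero one_ne_zero h2
        exact CharP.eq F ‹CharP F p› h3
      subst hp2
      exact ambT_O _ fun g hg hg2 hb => fixp_minus a b hab h2 (by omega) hG hg hg2 hb
    · exact AmbT.of_amb (amb_O_of_two _ h2) p
  have hadm : Nat.card (toFrame (wminus (m - 1) F a b hab)).Adm = Fintype.card F ^ 2 := by
    have h3 := card_V0 (wminus (m - 1) F a b hab)
    have h4 : Nat.card ((Fin (m - 1) ⊕ Fin (m - 1)) ⊕ Fin 2 → F) = Nat.card F ^ (m - 1) * Nat.card F ^ (m - 1) * Nat.card F ^ 2 := by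
      rw [Nat.card_fun, Nat.card_eq_fintype_card (α := (Fin (m - 1) ⊕ Fin (m - 1)) ⊕ Fin 2), Fintype.card_sum,
        Fintype.card_sum, Fintype.card_fin, Fintype.card_fin, pow_add, pow_add]
    rw [h4] at h3
    have h5 : 0 < Nat.card F ^ (m - 1) * Nat.card F ^ (m - 1) := by
      have := Nat.card_pos (α := F)
      positivity
    rw [card_adm_O, Nat.eq_of_mul_eq_mul_left h5 h3, Nat.card_eq_fintype_card]
  have hV : finrank F ((Fin (m - 1) ⊕ Fin (m - 1)) ⊕ Fin 2 → F) = 2 * m := by
    rw [Module.finrank_fintype_fun_eq_card, Fintype.card_sum, Fintype.card_sum, Fintype.card_fin, Fintype.card_fin]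
    omega
  have hq : 1 < Fintype.card F := Fintype.one_lt_card
  obtain ⟨l, hl⟩ := exists_ppd (q := Fintype.card F) (k := 2 * m) hq (by omega) (fun h => by omega)
  have hlK : l ∣ Nat.card (Cfsg.POmega F (⇑(minusForm (m - 1) F a b))) :=
    dvd_of_denom hl.prime (hl.two_lt (by omega)) (Nat.gcd_dvd_left _ _) hcard
      (((dvd_add (by omega) hl).mul_left _).mul_right _)
  have e := eq_of_ppd (model (wminus (m - 1) F a b hab) hG ⟨_, hp0⟩) hA hp0 (by omega) hr hrp hk hidx
    (l := l) (by rw [hV, Nat.card_eq_fintype_card]; exact hl) hlK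
  subst e
  have h1 : l ^ k ∣ Fintype.card F ^ m + 1 := by
    refine pow_dvd_minus (N := m * (m - 1)) (by omega) hl ?_
    rw [← hcard, ← hidx]
    exact (Subgroup.index_dvd_card L).mul_left _
  have h2' := Nat.le_of_dvd (by positivity) h1
  have h3 := index_ge (model (wminus (m - 1) F a b hab) hG ⟨_, hp0⟩) hA hp0 (by omega) (ne_top_of hr hk hidx)
    (not_dvd_of hr hrp hidx) (c := Fintype.card F) (by rw [Nat.card_eq_fintype_card])
    (by rw [hadm]; exact Nat.le_self_pow (by norm_num) _)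
  rw [hadm, if_neg (by omega), Nat.card_eq_fintype_card, hidx] at h3
  have h4 : Fintype.card F ^ 2 * Fintype.card F ^ (m - 1 - 1) = Fintype.card F ^ m := by
    rw [← pow_add]
    congr 1
    omega
  rw [h4] at h3
  have h5 : 2 ≤ Fintype.card F ^ m := le_trans hq (Nat.le_self_pow (by omega) _)
  nlinarith

end Orthogonal

end Cfsg.Agent.H62.PCFam
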