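import Mathlib
import Cfsg.Agent.H62.PCFam
import Cfsg.Agent.KFacts.SLRow.OmegaPlus
import Cfsg.Agent.S0289
import Cfsg.Agent.S0293

/-!
# No subgroups of prime power index prime to the characteristic: `PΩ⁺` (helper62)
-/

set_option autoImplicit false
set_option linter.unusedSectionVars false

namespace Cfsg.Agent.H62.PCPlus

open Module Cfsg.Agent.H689 Cfsg.Agent.H62.PCGeo QuadraticMap
open CoxeterSystem Cfsg.Agent.ChevalleyStructure.CoxeterGeom Cfsg.Agent.Tits.Roots
open Cfsg.Agent.Nodes.TypeC (wt ng ng_ng ng_fst wt_ng wt_apply wt_injective)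
open Cfsg.Agent.Nodes.TypeD
open Cfsg.Agent.Nodes Cfsg.Agent.Nodes.Comb Cfsg.Agent.Nodes.Reps Cfsg.Agent.Nodes.BNOf
open Cfsg.Agent.Nodes.RGDLib Cfsg.Agent.Nodes.WittInst Cfsg.Agent.Nodes.WittRGD Cfsg.Agent.Nodes.WittRoot
open Cfsg.Agent.Nodes.StabComb Cfsg.Agent.Nodes.Bruhat Cfsg.Agent.Nodes.LeviDec
open Cfsg.Agent.KFacts.SLRow.OmegaPlus Cfsg.Agent.LieClassical.OrthForms Cfsg.Agent.LieClassical.OrthCore
open Cfsg.Agent.TitsThree.KSideO Cfsg.Agent.TitsThree.StdData Cfsg.Agent.LieClassical.OrthSimple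
  Cfsg.Agent.LieClassical.OrthFinite Cfsg.Agent.TitsThree.WBridge Cfsg.Agent.TitsThree.WittFrame
  Cfsg.Agent.TitsThree.SiegelGen
open Cfsg.Agent.H62.PCFrame Cfsg.Agent.H62.PCWitt Cfsg.Agent.H62.PCNum Cfsg.Agent.H62.PCFam
open Cfsg

/-! ### singular vectors -/

section Sing

variable {F : Type*} [Field F] {V : Type*} [AddCommGroup V] [Module F V] [Finite F] [Finite V]

/-- the singular vectors of a hyperbolic plane -/
theorem card_plane (Q : QuadraticForm F V) {P : Submodule F V} (hP : finrank F P = 2) {v u : V} (hv : v ∈ P)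
    (hu : u ∈ P) (hs : Q v = 0) (hb : polar Q v u ≠ 0) :
    Nat.card {w : V // Q w = 0 ∧ w ∈ P} = Nat.card F + (Nat.card F - 1) := by
  classical
  have hvv : polar Q v v = 0 := by
    rw [QuadraticMap.polar_self, hs, smul_zero]
  have hv0 : v ≠ 0 := by
    rintro rfl
    exact hb (by simp)
  have hli : LinearIndependent F ![v, u] := by
    rw [LinearIndependent.pair_iff]
    intro a b hab
    have h1 := congrArg (fun w => polar Q v w) hab
    simp only [polar_add_right, polar_smul_right, hvv, smul_eq_mul, mul_zero, zero_add, polar_zero_right] at h1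
    have hb0 : b = 0 := (mul_eq_zero.1 h1).resolve_right hb
    rw [hb0, zero_smul, add_zero] at hab
    exact ⟨(smul_eq_zero.1 hab).resolve_right hv0, hb0⟩
  have hspan : Submodule.span F {v, u} = P := by
    have : Module.Finite F V := Module.Finite.of_finite
    refine Submodule.eq_of_le_of_finrank_eq ?_ ?_
    · rw [Submodule.span_le]
      rintro w (rfl | rfl)
      · exact hv
      · exact hu
    · rw [hP]
      have h1 := finrank_span_eq_card hli
      rwa [Matrix.range_cons, Matrix.range_cons, Matrix.range_empty, Set.union_empty, Set.singleton_union,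
        Fintype.card_fin] at h1
  have hQ : ∀ a b : F, Q (a • v + b • u) = b * (b * Q u + a * polar Q v u) := by
    intro a b
    have h1 : Q (a • v + b • u) = Q (a • v) + Q (b • u) + polar Q (a • v) (b • u) := by
      unfold polar
      ring
    rw [h1, QuadraticMap.map_smul, QuadraticMap.map_smul, hs, polar_smul_left, polar_smul_right]
    simp only [smul_eq_mul]
    ring
  have h2 : Nat.card {w : V // Q w = 0 ∧ w ∈ P} = Nat.card (F ⊕ {b : F // b ≠ 0}) := by
    symm
    refine Nat.card_congr (Equiv.ofBijective (fun x : F ⊕ {b : F // b ≠ 0} =>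
      (Sum.elim (fun a => (⟨a • v, ?_, ?_⟩ : {w : V // Q w = 0 ∧ w ∈ P}))
        (fun b => ⟨(-((b : F) * Q u) * (polar Q v u)⁻¹) • v + (b : F) • u, ?_, ?_⟩) x)) ⟨?_, ?_⟩)
    · rw [QuadraticMap.map_smul, hs, smul_zero]
    · exact P.smul_mem _ hv
    · rw [hQ, mul_assoc (-((b : F) * Q u)), inv_mul_cancel₀ hb]
      ring
    · exact P.add_mem (P.smul_mem _ hv) (P.smul_mem _ hu)
    · have key : ∀ a a' b b' : F, a • v + b • u = a' • v + b' • u → a = a' ∧ b = b' := by
        intro a a' b b' e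
        have h3 : (a - a') • v + (b - b') • u = 0 := by
          rw [sub_smul, sub_smul]
          rw [← sub_eq_zero] at e
          rw [← e]
          abel
        obtain ⟨h4, h5⟩ := LinearIndependent.pair_iff.1 hli _ _ h3
        exact ⟨sub_eq_zero.1 h4, sub_eq_zero.1 h5⟩
      rintro (a | b) (a' | b') e
      · have e1 : a • v = a' • v := congrArg Subtype.val e
        have := key a a' 0 0 (by rw [zero_smul, add_zero, add_zero, e1])
        rw [this.1]
      · exfalso
        have e1 : a • v = (-((b' : F) * Q u) * (polar Q v u)⁻¹) • v + (b' : F) • u := congrArg Subtype.val e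
        have := key a (-((b' : F) * Q u) * (polar Q v u)⁻¹) 0 (b' : F) (by rw [zero_smul, add_zero]; exact e1)
        exact b'.2 this.2.symm
      · exfalso
        have e1 : (-((b : F) * Q u) * (polar Q v u)⁻¹) • v + (b : F) • u = a' • v := congrArg Subtype.val e
        have := key (-((b : F) * Q u) * (polar Q v u)⁻¹) a' (b : F) 0 (by rw [zero_smul, add_zero (a' • v)]; exact e1)
        exact b.2 this.2
      · have e1 : (-((b : F) * Q u) * (polar Q v u)⁻¹) • v + (b : F) • u =
            (-((b' : F) * Q u) * (polar Q v u)⁻¹) • v + (b' : F) • u := congrArg Subtype.val e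
        rw [Subtype.ext (key _ _ _ _ e1).2]
    · rintro ⟨w, hw, hwP⟩
      rw [← hspan, Submodule.mem_span_pair] at hwP
      obtain ⟨a, b, rfl⟩ := hwP
      rw [hQ] at hw
      by_cases hb0 : b = 0
      · subst hb0
        refine ⟨Sum.inl a, Subtype.ext ?_⟩
        change a • v = a • v + (0 : F) • u
        rw [zero_smul, add_zero]
      · refine ⟨Sum.inr ⟨b, hb0⟩, Subtype.ext ?_⟩
        change (-(b * Q u) * (polar Q v u)⁻¹) • v + b • u = a • v + b • u
        have h3 := (mul_eq_zero.1 hw).resolve_left hb0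
        have h4 : a = -(b * Q u) * (polar Q v u)⁻¹ := by
          rw [eq_mul_inv_iff_mul_eq₀ hb]
          linear_combination h3
        rw [← h4]
  have h5 : Nat.card {b : F // b ≠ 0} = Nat.card F - 1 := by
    have := Fintype.ofFinite F
    rw [Nat.card_eq_fintype_card, Nat.card_eq_fintype_card, Fintype.card_subtype_compl, Fintype.card_subtype_eq]
  rw [h2, Nat.card_sum, h5]

/-- **no singular fixed vectors in a space of plus type** -/
theorem plus_false {m l : ℕ} (hm : 3 ≤ m) (Q : QuadraticForm F V) (hl : Ppd (Nat.card F) (2 * (m - 1)) l)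
    {g : V ≃ₗ[F] V} (hg : g ^ l = 1) (hQg : ∀ v, Q (g v) = Q v)
    (hN : Nat.card {v : V // Q v = 0} = Nat.card F ^ (2 * m - 1) + Nat.card F ^ m - Nat.card F ^ (m - 1))
    (hF2 : finrank F (Fx g) = 2) {v u : V} (hv : v ∈ Fx g) (hs : Q v = 0) (hu : u ∈ Fx g) (hb : polar Q v u ≠ 0) :
    False := by
  have h1 := card_modEq (g := g) hl.prime hg (P := fun v => Q v = 0) (fun v hv => by rw [hQg, hv])
  have h2 : Nat.card {w : V // Q w = 0 ∧ g w = w} = Nat.card F + (Nat.card F - 1) :=
    card_plane Q hF2 hv hu hs hb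
  rw [h2, hN] at h1
  have hq : 1 < Nat.card F := Finite.one_lt_card
  set q := Nat.card F with hqdef
  have h3 : q ^ (2 * m - 1) + q ^ m - q ^ (m - 1) = (q ^ m - 1) * (q ^ (m - 1) + 1) + 1 := by
    have e1 : q ^ (2 * m - 1) = q ^ m * q ^ (m - 1) := by rw [← pow_add]; congr 1; omega
    have e2 : 1 ≤ q ^ m := Nat.one_le_pow _ _ (by omega)
    obtain ⟨t, ht⟩ : ∃ t, q ^ m = t + 1 := ⟨q ^ m - 1, by omega⟩
    rw [e1, ht]
    have e3 : (t + 1) * q ^ (m - 1) + (t + 1) = (t * (q ^ (m - 1) + 1) + 1) + q ^ (m - 1) := by ring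
    rw [e3, Nat.add_sub_cancel, Nat.add_sub_cancel]
  rw [h3] at h1
  have h4 : l ∣ q ^ (m - 1) + 1 := dvd_add (by omega) hl
  have h5 : (q ^ m - 1) * (q ^ (m - 1) + 1) + 1 ≡ 0 + 1 [MOD l] :=
    Nat.ModEq.add_right 1 ((Nat.modEq_zero_iff_dvd).2 (h4.mul_left _))
  have h6 : q + (q - 1) ≡ 0 + 1 [MOD l] := h1.symm.trans h5
  have h7 : q + (q - 1) = 2 * (q - 1) + 1 := by omega
  rw [h7] at h6
  have h8 : l ∣ 2 * (q - 1) := (Nat.modEq_zero_iff_dvd).1 (Nat.ModEq.add_right_cancel' 1 h6)
  have hl2 := hl.two_lt (by omega)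
  rcases hl.prime.dvd_mul.1 h8 with h9 | h9
  · have := Nat.le_of_dvd (by norm_num) h9
    omega
  · have h10 := (hl.iff 1).1 (by rwa [pow_one])
    have := Nat.le_of_dvd (by norm_num) h10
    omega

end Sing

/-! ### type `D` -/

section Roots

variable {n : ℕ}

/-- the weight of a signed index at the node `i` -/
def wD (i : Fin (n + 2)) (a : Fin (n + 2) × Bool) : ℤ :=
  if (i : ℕ) = n then (if ((a.1 : ℕ) ≤ n ↔ a.2 = true) then 1 else -1) else sgn i a

/-- the functional of the node `i` -/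
def lam (i : Fin (n + 2)) (u : Fin (n + 2) → ℤ) : ℤ :=
  if (i : ℕ) = n then ∑ k ∈ Finset.Iic i, u k - u (Fin.last (n + 1)) else ∑ k ∈ Finset.Iic i, u k

theorem lam_add (i : Fin (n + 2)) (u v : Fin (n + 2) → ℤ) : lam i (u + v) = lam i u + lam i v := by
  unfold lam
  split_ifs
  · simp only [Pi.add_apply, Finset.sum_add_distrib]; ring
  · simp only [Pi.add_apply, Finset.sum_add_distrib]

theorem lam_wt (i : Fin (n + 2)) (a : Fin (n + 2) × Bool) : lam i (wt a) = wD i a := by
  unfold lam wD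
  split_ifs with h1 h2
  · rw [sum_wt, wt_apply]
    unfold sgn
    have h4 := a.1.2
    by_cases h5 : (a.1 : ℕ) ≤ n
    · rw [if_pos (show a.1 ≤ i from h5.trans h1.ge), if_pos (h2.1 h5), if_neg]
      · norm_num
      · intro h6
        have := congrArg Fin.val h6
        rw [Fin.val_last] at this
        omega
    · have h6 : ¬ a.2 = true := fun h7 => h5 (h2.2 h7)
      rw [if_neg (show ¬ a.1 ≤ i from fun h7 => h5 (le_trans h7 h1.le)), if_pos, if_neg h6]
      · norm_num
      · apply Fin.ext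
        rw [Fin.val_last]
        omega
  · rw [sum_wt, wt_apply]
    unfold sgn
    have h4 := a.1.2
    by_cases h5 : (a.1 : ℕ) ≤ n
    · have h6 : ¬ a.2 = true := fun h7 => h2 ⟨fun _ => h7, fun _ => h5⟩
      rw [if_pos (show a.1 ≤ i from h5.trans h1.ge), if_neg h6, if_neg]
      · norm_num
      · intro h6
        have := congrArg Fin.val h6
        rw [Fin.val_last] at this
        omega
    · have h6 : a.2 = true := by
        by_contra h7
        exact h2 ⟨fun h8 => absurd h8 h5, fun h8 => absurd h8 h7⟩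
      rw [if_neg (show ¬ a.1 ≤ i from fun h7 => h5 (le_trans h7 h1.le)), if_pos, if_pos h6]
      · norm_num
      · apply Fin.ext
        rw [Fin.val_last]
        omega
  · exact sum_wt i a

/-- partial sums of a root -/
theorem sum_ee (x : Fin (n + 2) → ℤ) (m : Fin (n + 2)) : ∑ k ∈ Finset.Iic m, ee x k =
    if (m : ℕ) < n then x m else if (m : ℕ) = n then x m + x (Fin.last (n + 1)) else 2 * x m := by
  have h1 : ∀ k, ee x k = ∑ j, x j * bt j k := by
    intro k
    simp [ee, Finset.sum_apply]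
  simp only [h1]
  rw [Finset.sum_comm]
  simp only [← Finset.mul_sum, sum_bt]
  have hm := m.2
  rw [Fin.sum_univ_castSucc]
  have h2 : ∀ i : Fin (n + 1), ((i.castSucc : Fin (n + 2)) : ℕ) + 1 < n + 2 := fun i => by
    have := i.2
    simp only [Fin.val_castSucc]
    omega
  have h3 : ¬ ((Fin.last (n + 1) : Fin (n + 2)) : ℕ) + 1 < n + 2 := by simp
  simp only [h2, h3, if_true, if_false]
  by_cases h4 : (m : ℕ) < n + 1
  · have h5 : m = (⟨m, h4⟩ : Fin (n + 1)).castSucc := by ext; simp
    rw [Finset.sum_eq_single (⟨m, h4⟩ : Fin (n + 1))]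
    · rw [← h5, if_pos rfl]
      split_ifs <;> first | omega | ring
    · intro j _ hj
      rw [if_neg, mul_zero]
      intro h'
      apply hj
      ext
      have := congrArg Fin.val h'
      simpa using this.symm
    · simp
  · have h5 : m = Fin.last (n + 1) := by ext; simp; omega
    rw [Finset.sum_eq_zero]
    · subst h5
      have h6 : ((Fin.last (n + 1) : Fin (n + 2)) : ℕ) = n + 1 := by simp
      rw [h6, if_neg (by omega), if_pos rfl, if_neg (by omega), if_neg (by omega)]
      ring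
    · intro j _
      rw [if_neg, mul_zero]
      rintro h'
      have := congrArg Fin.val h'
      have hj := j.2
      simp at this
      omega

theorem ee_last (x : Fin (n + 2) → ℤ) : ee x (Fin.last (n + 1)) = x (Fin.last (n + 1)) - x (pd n) := by
  have h1 : ee x (Fin.last (n + 1)) = ∑ j, x j * bt j (Fin.last (n + 1)) := by
    simp [ee, Finset.sum_apply]
  rw [h1, Fin.sum_univ_castSucc, Fin.sum_univ_castSucc]
  have h2 : ∀ j : Fin n, x j.castSucc.castSucc * bt j.castSucc.castSucc (Fin.last (n + 1)) = 0 := by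
    intro j
    have hj := j.2
    rw [bt_apply]
    simp only [Fin.val_castSucc, Fin.val_last]
    split_ifs <;> first | omega | simp
  rw [Finset.sum_eq_zero fun j _ => h2 j, bt_apply, bt_apply]
  have e : (Fin.last n).castSucc = pd n := by
    apply Fin.ext
    simp [pd]
  have e' : ((pd n : Fin (n + 2)) : ℕ) = n := rfl
  simp only [Fin.val_last, e, e']
  split_ifs <;> first | omega | ring

theorem lam_ee (i : Fin (n + 2)) (x : Fin (n + 2) → ℤ) : lam i (ee x) = (if (i : ℕ) < n then 1 else 2) * x i := by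
  unfold lam
  rw [sum_ee]
  have hi := i.2
  by_cases h1 : (i : ℕ) = n
  · have e : i = pd n := Fin.ext h1
    rw [if_pos h1, if_neg (by omega), if_pos h1, if_neg (by omega), ee_last, e]
    ring
  · rw [if_neg h1]
    split_ifs <;> ring

theorem coeffD {x : Fin (n + 2) → ℤ} {a b : Fin (n + 2) × Bool} (e : ee x = wt a + wt b) (i : Fin (n + 2)) :
    (if (i : ℕ) < n then 1 else 2) * x i = wD i a + wD i b := by
  rw [← lam_ee, e, lam_add, lam_wt, lam_wt]

theorem coeffD_nonneg {x : Fin (n + 2) → ℤ} {a b : Fin (n + 2) × Bool} (e : ee x = wt a + wt b) {i : Fin (n + 2)}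
    (hx : 0 ≤ x i) : 0 ≤ wD i a + wD i b := by
  rw [← coeffD e]
  split_ifs <;> omega

theorem coeffD_pos {x : Fin (n + 2) → ℤ} {a b : Fin (n + 2) × Bool} (e : ee x = wt a + wt b) {i : Fin (n + 2)}
    (hx : 0 < wD i a + wD i b) : 0 < x i := by
  rw [← coeffD e] at hx
  split_ifs at hx <;> omega

/-- the isotropic set of the node `i` -/
def SD (i : Fin (n + 2)) : Set (Fin (n + 2) × Bool) :=
  if (i : ℕ) = n then {a | (a.1 : ℕ) ≤ n ↔ a.2 = true} else Si i

theorem isoS_SD (i : Fin (n + 2)) : IsoS (SD i) := by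
  unfold SD
  split_ifs with h
  · intro a ha hb
    have h1 : ((a.1 : ℕ) ≤ n ↔ a.2 = true) := ha
    have h2 : ((a.1 : ℕ) ≤ n ↔ (!a.2) = true) := hb
    have h3 := h1.symm.trans h2
    cases h4 : a.2 <;> simp [h4] at h3
  · exact isoS_Si i

theorem neg_mem_SD {i : Fin (n + 2)} {a : Fin (n + 2) × Bool} (h : neg a ∈ SD i) : wD i a = -1 := by
  unfold SD at h
  unfold wD
  split_ifs at h with h1
  · rw [if_pos h1, if_neg]
    intro h2
    have h3 : ((a.1 : ℕ) ≤ n ↔ (!a.2) = true) := h
    have h4 := h2.symm.trans h3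
    cases h5 : a.2 <;> simp [h5] at h4
  · rw [if_neg h1]
    exact neg_mem_Si h

theorem mem_SD_of {i : Fin (n + 2)} {a : Fin (n + 2) × Bool} (h : 1 ≤ wD i a) : a ∈ SD i := by
  unfold wD at h
  unfold SD
  split_ifs at h with h1 h2
  · rw [if_pos h1]; exact h2
  · omega
  · rw [if_neg h1]; exact mem_Si_of h

theorem SD_nonempty (i : Fin (n + 2)) : (SD i).Nonempty := by
  unfold SD
  split_ifs with h
  · exact ⟨(⟨0, by omega⟩, true), by simp⟩
  · exact Si_nonempty i

/-- the dimension is one only for the first node -/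
theorem eq_zero_of_ncard (hn : 2 ≤ n) {i : Fin (n + 2)} (h : (SD i).ncard = 1) : (i : ℕ) = 0 := by
  unfold SD at h
  split_ifs at h with h1
  · exfalso
    obtain ⟨a, ha⟩ := Set.ncard_eq_one.1 h
    have h2 : ((⟨0, by omega⟩ : Fin (n + 2)), true) ∈ ({a} : Set (Fin (n + 2) × Bool)) := by
      rw [← ha]; simp
    have h3 : ((⟨1, by omega⟩ : Fin (n + 2)), true) ∈ ({a} : Set (Fin (n + 2) × Bool)) := by
      rw [← ha]
      change (1 ≤ n ↔ true = true)
      exact ⟨fun _ => rfl, fun _ => by omega⟩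
    rw [Set.mem_singleton_iff] at h2 h3
    have h4 := congrArg (fun a : Fin (n + 2) × Bool => (a.1 : ℕ)) (h2.trans h3.symm)
    simp at h4
  · rw [ncard_Si] at h
    omega

end Roots

section Model

variable {F : Type*} [Field F] [Fintype F] {ι : Type} [Fintype ι] [DecidableEq ι] {Q : QuadraticForm F (ι → F)}
  {n : ℕ} (W : WFrame (PO Q) (n + 2)) {K : Type*} [Group K] (φ : E Q →* K)

theorem XG_le {x : Fin (n + 2) → ℤ} {a b : Fin (n + 2) × Bool} (hab : a.1 ≠ b.1) (e : ee x = wt a + wt b)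
    {i : Fin (n + 2)} (hx : 0 ≤ x i) : XG (toFrame W) a b ≤ Stb (RS (toFrame W) (SD i)) := by
  have h0 := coeffD_nonneg e hx
  have key : ∀ c d : Fin (n + 2) × Bool, 0 ≤ wD i c + wD i d → neg c ∈ SD i → d ∈ SD i := by
    intro c d hcd hc
    apply mem_SD_of
    rw [neg_mem_SD hc] at hcd
    omega
  rintro _ ⟨t, rfl⟩
  exact X_maps hab (key a b h0) (key b a (by omega)) t

theorem PJ_le {G : Type*} [Group G] (cs : CoxeterSystem (M n) G) (i : Fin (n + 2)) :
    PJ cs (isCartan n) (((Tor (toFrame W) (E Q)).subgroupOf (E Q)).map φ) (XD W φ) {i}ᶜ ≤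
      ((Stb (RS (toFrame W) (SD i))).subgroupOf (E Q)).map φ := by
  have key : ∀ x : Fin (n + 2) → ℤ, IsRoot cs (isCartan n) x → 0 ≤ x i →
      XD W φ x ≤ ((Stb (RS (toFrame W) (SD i))).subgroupOf (E Q)).map φ := by
    intro x hx h0
    obtain ⟨a, b, hab, e⟩ := exists_of_isRoot cs hx
    unfold XD
    rw [WittRGDD.rg_eq (toFrame W) hab e]
    exact Subgroup.map_mono (Subgroup.comap_mono (XG_le W hab e h0))
  refine sup_le (sup_le ?_ (RGD.Sup_le fun x hx => ?_)) (RGD.Sup_le fun x hx => ?_)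
  · refine Subgroup.map_mono (Subgroup.comap_mono ?_)
    intro t ht
    exact mono_maps ht.2
  · exact key x hx.1 (by rw [hx.2 i (by simp)])
  · obtain ⟨h1, h2, k, hk, hk0⟩ := hx
    exact key x h1 (h2 i)

end Model

end Cfsg.Agent.H62.PCPlus
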