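import Mathlib
import Cfsg.Agent.H62.PCPlus

/-!
# No subgroups of prime power index prime to the characteristic: `PΩ⁺`, the end (helper62)
-/

set_option autoImplicit false
set_option linter.unusedSectionVars false

namespace Cfsg.Agent.H62.PCPlus

open Module Cfsg.Agent.H689 Cfsg.Agent.H62.PCGeo QuadraticMap
open CoxeterSystem Cfsg.Agent.ChevalleyStructure.CoxeterGeom Cfsg.Agent.Tits.Roots
open Cfsg.Agent.Nodes.TypeC (wt ng ng_ng ng_fst wt_ng wt_apply wt_injective)
open Cfsg.Agent.Nodes.TypeD
open Cfsg.Agent.Nodes Cfsg.Agent.Nodes.Comb Cfsg.Agent.Nodes.Reps Cfsg.Agent.Nodes.BNOf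
open Cfsg.Agent.Nodes.RGDLib Cfsg.Agent.Nodes.WittInst Cfsg.Agent.Nodes.WittRGD Cfsg.Agent.Nodes.WittRoot
open Cfsg.Agent.Nodes.StabComb Cfsg.Agent.Nodes.Bruhat Cfsg.Agent.Nodes.LeviDec
open Cfsg.Agent.KFacts.SLRow.OmegaPlus Cfsg.Agent.LieClassical.OrthForms Cfsg.Agent.LieClassical.OrthCore
open Cfsg.Agent.TitsThree.KSideO Cfsg.Agent.TitsThree.StdData Cfsg.Agent.LieClassical.OrthSimple
  Cfsg.Agent.LieClassical.OrthFinite Cfsg.Agent.TitsThree.WBridge Cfsg.Agent.TitsThree.WittFrame
  Cfsg.Agent.TitsThree.SiegelGen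
open Cfsg.Agent.H62.PCFrame Cfsg.Agent.H62.PCWitt Cfsg.Agent.H62.PCNum Cfsg.Agent.H62.PCFam
open Cfsg

variable {F : Type*} [Field F] [Fintype F] {n : ℕ}

theorem mem_NotJ_of' {G : Type*} [Group G] {cs : CoxeterSystem (M n) G} {x : Fin (n + 2) → ℤ}
    (hx : IsRoot cs (isCartan n) x) {a b : Fin (n + 2) × Bool} (e : ee x = wt a + wt b) {i : Fin (n + 2)}
    (h : 0 < wD i a + wD i b) : x ∈ NotJ cs (isCartan n) {i}ᶜ :=
  ⟨hx, nonneg_of_pos_apply hx (coeffD_pos e h), i, by simp, coeffD_pos e h⟩

/-- `n + 2` positive roots involving the node `i` -/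
theorem exists_roots (hn : 2 ≤ n) {G : Type*} [Group G] (cs : CoxeterSystem (M n) G) (i : Fin (n + 2)) :
    ∃ r : Fin (n + 2) → Fin (n + 2) → ℤ, Function.Injective r ∧ ∀ k, r k ∈ NotJ cs (isCartan n) {i}ᶜ := by
  have h0 : 0 < n + 2 := by omega
  have h1 : 1 < n + 2 := by omega
  have h2 : 2 < n + 2 := by omega
  -- the pairs
  let s : Fin (n + 2) → Bool := fun k => !(decide ((i : ℕ) = n ∧ (k : ℕ) = n + 1))
  let A : Fin (n + 2) → Fin (n + 2) × Bool := fun k =>
    if (k : ℕ) = 0 then (if (i : ℕ) = 0 then (⟨0, h0⟩, true) else (⟨1, h1⟩, true)) else (⟨0, h0⟩, true)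
  let B : Fin (n + 2) → Fin (n + 2) × Bool := fun k =>
    if (k : ℕ) = 0 then (if (i : ℕ) = 0 then (⟨1, h1⟩, false) else (⟨2, h2⟩, true)) else (k, s k)
  have hok : ∀ k, Ok (A k) (B k) := by
    intro k
    change (A k).1 ≠ (B k).1
    simp only [A, B]
    split_ifs with h3 h4
    · simp [Fin.ext_iff]
    · simp [Fin.ext_iff]
    · intro e
      exact h3 (congrArg Fin.val e).symm
  choose r hr1 hr2 using fun k => rt_of_ok (cs := cs) (hok k)
  have hw0 : wD i ((⟨0, h0⟩ : Fin (n + 2)), true) = 1 := by
    unfold wD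
    split_ifs with h3 h4
    · rfl
    · exact absurd ⟨fun _ => rfl, fun _ => Nat.zero_le _⟩ h4
    · unfold sgn
      rw [if_pos (show (⟨0, h0⟩ : Fin (n + 2)) ≤ i from Nat.zero_le _), if_pos rfl]
  have hwk : ∀ k : Fin (n + 2), 0 ≤ wD i (k, s k) := by
    intro k
    have hk := k.2
    unfold wD
    split_ifs with h3 h4
    · norm_num
    · exfalso
      apply h4
      simp only [s, h3, true_and]
      constructor
      · intro h5
        have : ¬ (k : ℕ) = n + 1 := by omega
        simp [this]
      · intro h5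
        have : ¬ (k : ℕ) = n + 1 := by simpa using h5
        omega
    · have : s k = true := by simp [s, h3]
      rw [this]
      unfold sgn
      split_ifs with h5 h6
      · norm_num
      · exact absurd rfl h6
      · exact le_rfl
  refine ⟨r, ?_, fun k => mem_NotJ_of' (hr1 k) (hr2 k) ?_⟩
  · intro k k' e
    have h3 := (hr2 k).symm.trans ((congrArg ee e).trans (hr2 k'))
    have h4 := wt_add_eq (hok k) (hok k') h3
    simp only [A, B] at h4
    apply Fin.ext
    by_cases hk : (k : ℕ) = 0
    · by_cases hk' : (k' : ℕ) = 0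
      · omega
      · exfalso
        simp only [hk, hk', if_true, if_false] at h4
        split_ifs at h4 with h5
        · rcases h4 with ⟨-, h6⟩ | ⟨h6, -⟩
          · have h7 : s k' = false := (congrArg Prod.snd h6).symm
            have h8 := congrArg (fun a : Fin (n + 2) × Bool => (a.1 : ℕ)) h6
            simp only at h8
            simp [s] at h7
            omega
          · have h8 := congrArg (fun a : Fin (n + 2) × Bool => (a.1 : ℕ)) h6
            simp only at h8
            omega
        · rcases h4 with ⟨h6, -⟩ | ⟨-, h6⟩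
          · have h8 := congrArg (fun a : Fin (n + 2) × Bool => (a.1 : ℕ)) h6
            simp at h8
          · have h8 := congrArg (fun a : Fin (n + 2) × Bool => (a.1 : ℕ)) h6
            simp at h8
    · by_cases hk' : (k' : ℕ) = 0
      · exfalso
        simp only [hk, hk', if_true, if_false] at h4
        split_ifs at h4 with h5
        · rcases h4 with ⟨-, h6⟩ | ⟨-, h6⟩
          · have h7 : s k = false := (congrArg Prod.snd h6)
            have h8 := congrArg (fun a : Fin (n + 2) × Bool => (a.1 : ℕ)) h6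
            simp only at h8
            simp [s] at h7
            omega
          · have h8 := congrArg (fun a : Fin (n + 2) × Bool => (a.1 : ℕ)) h6
            simp only at h8
            omega
        · rcases h4 with ⟨h6, -⟩ | ⟨h6, -⟩
          · have h8 := congrArg (fun a : Fin (n + 2) × Bool => (a.1 : ℕ)) h6
            simp at h8
          · have h8 := congrArg (fun a : Fin (n + 2) × Bool => (a.1 : ℕ)) h6
            simp at h8
      · simp only [hk, hk', if_false] at h4
        rcases h4 with ⟨-, h6⟩ | ⟨-, h6⟩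
        · exact congrArg (fun a : Fin (n + 2) × Bool => (a.1 : ℕ)) h6
        · have h8 := congrArg (fun a : Fin (n + 2) × Bool => (a.1 : ℕ)) h6
          simp only at h8
          omega
  · simp only [A, B]
    by_cases hk : (k : ℕ) = 0
    · simp only [hk, if_true]
      by_cases hi : (i : ℕ) = 0
      · simp only [hi, if_true]
        rw [hw0]
        have : wD i ((⟨1, h1⟩ : Fin (n + 2)), false) = 0 := by
          unfold wD
          rw [if_neg (by omega)]
          unfold sgn
          rw [if_neg]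
          intro h3
          have : (1 : ℕ) ≤ i := h3
          omega
        rw [this]
        norm_num
      · simp only [hi, if_false]
        unfold wD
        by_cases hin : (i : ℕ) = n
        · simp only [hin, if_true]
          rw [if_pos (by simp only [iff_true]; omega), if_pos (by simp only [iff_true]; omega)]
          norm_num
        · simp only [hin, if_false]
          have h3 : sgn i ((⟨1, h1⟩ : Fin (n + 2)), true) = 1 := by
            unfold sgn
            rw [if_pos, if_pos rfl]
            change (1 : ℕ) ≤ i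
            omega
          have h4 : 0 ≤ sgn i ((⟨2, h2⟩ : Fin (n + 2)), true) := by
            unfold sgn
            split_ifs with h5 h6
            · norm_num
            · exact absurd rfl h6
            · exact le_rfl
          omega
    · simp only [hk, if_false]
      rw [hw0]
      have := hwk k
      omega

theorem po_plus {m : ℕ} (hm : 4 ≤ m) (h6 : ¬ (Fintype.card F = 2 ∧ m = 4)) {p : ℕ} [CharP F p]
    {L : Subgroup (Cfsg.POmega F (Cfsg.quadFormPlus m F))}
    {r k : ℕ} (hr : r.Prime) (hrp : r ≠ p) (hk : 1 ≤ k) (hidx : L.index = r ^ k) : False := by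
  have : Fact p.Prime := ⟨CharP.char_is_prime F p⟩
  have hcard := S0293.result (F := F) rfl m hm
  have hsing := S0289.result (F := F) rfl m (by omega)
  obtain ⟨n, rfl⟩ : ∃ n, m = n + 2 := ⟨m - 2, by omega⟩
  revert L
  rw [← coe_plusForm] at hcard hsing ⊢
  intro L hidx
  have hG := good_plus (n + 2) F (by omega)
  let cs := (M n).toCoxeterSystem
  have : Finite (M n).Group := finite_W cs
  have R := rgdD_model (wplus (n + 2) F) hG (amb_plus _) (adm_plus _) (p := p) cs
  have hG1 := G1D_eq_top (wplus (n + 2) F) (toPOmega hG) (toPOmega_surjective hG) (adm_plus _) cs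
  have hfin : Finite (POmega F ⇑(plusForm (n + 2) F)) := inferInstance
  have hq : 1 < Fintype.card F := Fintype.one_lt_card
  have hnt := ne_top_of hr hk hidx
  have hnd := not_dvd_of (p := p) hr hrp hidx
  obtain ⟨kk, i, hi, hV⟩ := exists_conj_PJ R hG1 hnt hnd
  obtain ⟨l, hl⟩ := exists_ppd (q := Fintype.card F) (k := 2 * (n + 2 - 1)) hq (by omega)
    (fun h => h6 ⟨h.1, by omega⟩)
  have hprod : Fintype.card F ^ (2 * (n + 2 - 1)) - 1 ∣
      ∏ i ∈ Finset.range (n + 2 - 1), (Fintype.card F ^ (2 * (i + 1)) - 1) := by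
    have h1 := Finset.dvd_prod_of_mem (fun i => Fintype.card F ^ (2 * (i + 1)) - 1)
      (Finset.mem_range.2 (show n + 2 - 1 - 1 < n + 2 - 1 by omega))
    have h2 : n + 2 - 1 - 1 + 1 = n + 2 - 1 := by omega
    rwa [h2] at h1
  have hlK : l ∣ Nat.card (Cfsg.POmega F (⇑(plusForm (n + 2) F))) :=
    dvd_of_denom hl.prime (hl.two_lt (by omega)) (Nat.gcd_dvd_left _ _) hcard
      ((((hl.iff _).2 dvd_rfl).trans hprod).mul_left _)
  have hfr : finrank F (Fin (n + 2) ⊕ Fin (n + 2) → F) = 2 * (n + 2) := by
    rw [Module.finrank_fintype_fun_eq_card, Fintype.card_sum, Fintype.card_fin]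
    omega
  have hlr : l = r := by
    by_contra hne
    have h1 := dvd_card_of hr hidx hl.prime hlK hne
    obtain ⟨g, hg, hg1, hgl, hst⟩ := PCFrame.exists_elt (toPOmega hG) (hi.trans (PJ_le _ _ cs i)) hl.prime h1
    have hI := iso_RS (isoS_SD i) (SD_nonempty i) hst
    have hiso := (amb_plus (F := F) (n + 2)).iso g hg
    have hl' : Ppd (Nat.card F) (finrank F (Fin (n + 2) ⊕ Fin (n + 2) → F) - 2) l := by
      rw [hfr, Nat.card_eq_fintype_card]
      have e : 2 * (n + 2) - 2 = 2 * (n + 2 - 1) := by omega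
      rw [e]
      exact hl
    obtain ⟨h2, h3, h4⟩ := plus_one (by rw [hfr]; omega) hl' hgl hg1 hiso hI
    rw [finrank_RS] at h3
    have h5 := eq_zero_of_ncard (by omega) h3
    have hmem : ((⟨0, by omega⟩ : Fin (n + 2)), true) ∈ SD i := by
      unfold SD
      rw [if_neg (by omega)]
      exact ⟨Nat.zero_le _, rfl⟩
    have hv : (toFrame (wplus (n + 2) F)).b ((⟨0, by omega⟩ : Fin (n + 2)), true) ∈ Fx g := h4 (b_mem hmem)
    have hs : plusForm (n + 2) F ((toFrame (wplus (n + 2) F)).b ((⟨0, by omega⟩ : Fin (n + 2)), true)) = 0 :=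
      (sing_iff (plusForm (n + 2) F)).1 ((wplus (n + 2) F).e_sing _)
    have hb0 : (toFrame (wplus (n + 2) F)).b ((⟨0, by omega⟩ : Fin (n + 2)), true) ≠ 0 := by
      intro h0
      have := (toFrame (wplus (n + 2) F)).hb_self_neg ((⟨0, by omega⟩ : Fin (n + 2)), true)
      rw [h0, (HO _).zero_left] at this
      exact (toFrame (wplus (n + 2) F)).η_ne _ this.symm
    obtain ⟨u, hu⟩ := hI.nondeg _ (b_mem hmem) hb0
    obtain ⟨u', hu1, hu2⟩ := exists_fix (cast_ne hl') hgl hiso (mem_Fx.1 hv) hu
    refine plus_false (m := n + 2) (by omega) (plusForm (n + 2) F) (by rw [Nat.card_eq_fintype_card]; exact hl) hgl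
      (fun v => mem_O.1 (E_le_O hg) v) ?_ h2 hv hs (mem_Fx.2 hu1) hu2
    rw [hsing, Nat.card_eq_fintype_card]
  subst hlr
  have h1 : l ^ k ∣ Fintype.card F ^ (n + 2 - 1) + 1 := by
    refine pow_dvd_plus (N := (n + 2) * (n + 2 - 1)) (by omega) hl ?_
    rw [← hcard, ← hidx]
    exact (Subgroup.index_dvd_card L).mul_left _
  have h2' := Nat.le_of_dvd (by positivity) h1
  obtain ⟨ro, hro, hro'⟩ := exists_roots (by omega) cs i
  have h3 := prod_le_card_VJ R ro hro hro'
  have h4 : ∏ j, Nat.card (XD (wplus (n + 2) F) (toPOmega hG) (ro j)) = Fintype.card F ^ (n + 2) := by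
    rw [Finset.prod_congr rfl (g := fun _ => Fintype.card F) fun j _ => ?_, Finset.prod_const, Finset.card_univ,
      Fintype.card_fin]
    rw [card_XD (wplus (n + 2) F) hG cs (hro' j).1, Nat.card_eq_fintype_card]
  rw [h4] at h3
  have h5 := h3.trans hV
  rw [hidx] at h5
  have h7 : Fintype.card F ^ (n + 2) = Fintype.card F ^ (n + 2 - 1) * Fintype.card F := by
    rw [← pow_succ]
    rfl
  have h8 : 2 ≤ Fintype.card F ^ (n + 2 - 1) := le_trans hq (Nat.le_self_pow (by omega) _)
  rw [h7] at h5
  nlinarith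

end Cfsg.Agent.H62.PCPlus
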