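import Cfsg.Agent.H62.OrthModel
import Cfsg.Agent.H286.RowOf
import Cfsg.Agent.H286.TypeII
import Cfsg.Agent.H286.PB3

/-!
# The odd row lemma for `Ω_{2m+1}(q)` and `PΩ⁻_{2m+2}(q)` (S3107, S3160, S3097)

* `row_odd` : `POmega F (quadFormOdd m F)`, `m ≥ 3`;
* `row_minus` : `POmega F (quadFormMinus m F a b)`, `m ≥ 3`;
* `row_isPOmegaOddChar`, `row_isPOmegaMinusChar` : for the predicates of the Prelude.
-/

set_option autoImplicit false
set_option linter.unusedSectionVars false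

namespace Cfsg.Agent.H62.OrthRows

open CoxeterSystem Cfsg.Agent.ChevalleyStructure.CoxeterGeom Cfsg.Agent.Tits.Roots Cfsg.Agent.Tits.Core
  Cfsg.Agent.Tits.RootComb Cfsg.Agent.Nodes.Comb Cfsg.Agent.Nodes.Reps Cfsg.Agent.Nodes.BNOf
  Cfsg.Agent.Nodes.RGDLib Cfsg.Agent.Nodes.Chart
open QuadraticMap
open Cfsg.Agent.LieClassical Cfsg.Agent.LieClassical.OrthCore Cfsg.Agent.LieClassical.OrthTrans
open Cfsg.Agent.LieClassical.OrthSimple Cfsg.Agent.LieClassical.OrthFinite Cfsg.Agent.LieClassical.OrthForms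
open Cfsg.Agent.TitsThree Cfsg.Agent.TitsThree.Siegel Cfsg.Agent.TitsThree.SiegelGen
  Cfsg.Agent.TitsThree.WittFrame Cfsg.Agent.TitsThree.WittWeyl Cfsg.Agent.TitsThree.WBridge
  Cfsg.Agent.TitsThree.KSideO
open Cfsg.Agent.Nodes
open Cfsg.Agent.Nodes.WittRoot (Amb XG ZG PG PG_ne PG_self Mono XG_swap rg rg_eq)
open Cfsg.Agent.Nodes.TypeC Cfsg.Agent.Nodes.TypeCForm Cfsg.Agent.Nodes.KindBC
open Cfsg.Agent.Nodes.RGDOrth
open Cfsg.Agent.H62.OrthModel Cfsg.Agent.H286.Row Cfsg.Agent.H286.RowOf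

theorem two_ne {F : Type*} [Field F] {p : ℕ} [Fact p.Prime] [CharP F p] (hp2 : p ≠ 2) : (2 : F) ≠ 0 := by
  intro h0
  have h1 : (p : ℕ) ∣ 2 := (CharP.cast_eq_zero_iff F p 2).1 (by exact_mod_cast h0)
  exact hp2 ((Nat.prime_dvd_prime_iff_eq Fact.out Nat.prime_two).1 h1)

theorem odd_of {F : Type*} [Field F] [Fintype F] (p : ℕ) [Fact p.Prime] [CharP F p]
    (ho : Odd (Fintype.card F)) : Odd p := by
  obtain ⟨n, -, hn⟩ := FiniteField.card F p
  rw [hn] at ho
  exact Nat.Odd.of_mul_left (n := p ^ ((n : ℕ) - 1)) (by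
    rw [← pow_succ', Nat.sub_add_cancel n.pos]; exact ho)

section Matrix

variable {ι : Type} [Fintype ι] [DecidableEq ι] {F : Type*} [Field F] [Fintype F] {Q : QuadraticForm F (ι → F)}
  (hG : Good Q) {m : ℕ} {W : WFrame (PO Q) m}

include hG in
/-- Witt index at least four, not the plus type. -/
theorem row_four (hA : Amb (toFrame W) (E Q)) {p : ℕ} [Fact p.Prime] [CharP F p] (hp2 : p ≠ 2)
    {p0 : (toFrame W).Adm} (hp0 : p0.c ≠ 0) (hm : 4 ≤ m) [IsSimpleGroup (Cfsg.POmega F ⇑Q)] :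
    Row p (Cfsg.POmega F ⇑Q) := by
  have hodd : Odd p := (Fact.out : p.Prime).odd_of_ne_two hp2
  have : Finite (CoxeterMatrix.B m).Group := finite_W (CoxeterMatrix.B m).toCoxeterSystem
  have := Fintype.ofFinite (CoxeterMatrix.B m).Group
  have : Finite (Cfsg.POmega F ⇑Q) := Quotient.finite _
  have C := clsP hG hA hodd hp0 (CoxeterMatrix.B m).toCoxeterSystem
  refine row_of_obs hp2 C.rgd (genP hG hA hp0 (by omega) _) fun x φ σ J g N => ?_
  exact Cfsg.Agent.H286.TypeII.typeII N C hodd hm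

include hG in
/-- Witt index three, dimension seven. -/
theorem row_three (hA : Amb (toFrame W) (E Q)) {p : ℕ} [Fact p.Prime] [CharP F p] (hp2 : p ≠ 2)
    {p0 : (toFrame W).Adm} (hp0 : p0.c ≠ 0) (hm : m = 3) (hV : Nat.card W.V0 = Nat.card F)
    [IsSimpleGroup (Cfsg.POmega F ⇑Q)] : Row p (Cfsg.POmega F ⇑Q) := by
  have hodd : Odd p := (Fact.out : p.Prime).odd_of_ne_two hp2
  subst hm
  have : Finite (CoxeterMatrix.B 3).Group := finite_W (CoxeterMatrix.B 3).toCoxeterSystem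
  have := Fintype.ofFinite (CoxeterMatrix.B 3).Group
  have : Finite (Cfsg.POmega F ⇑Q) := Quotient.finite _
  have C := clsP hG hA hodd hp0 (CoxeterMatrix.B 3).toCoxeterSystem
  refine row_of_obs hp2 C.rgd (genP hG hA hp0 (by omega) _) fun x φ σ J g N => ?_
  refine Cfsg.Agent.H286.TypeII.seven N C hodd ?_
  have h1 := card_short hG hA hodd hp0 (x := sr 0) (a := ((0 : Fin 3), true)) (b := nx 0) (by decide) (ee_sr 0)
  have h2 := card_long hG hA hodd hp0 (x := rt ((1 : Fin 3), true) (1, true)) (a := ((1 : Fin 3), true)) (ee_rt _ _)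
  rw [h1, h2, hV]

include hG in
/-- Witt index three, dimension eight. -/
theorem row_eight (hA : Amb (toFrame W) (E Q)) {p : ℕ} [Fact p.Prime] [CharP F p] (hp2 : p ≠ 2)
    {p0 : (toFrame W).Adm} (hp0 : p0.c ≠ 0) (hm : m = 3) (hV : Nat.card W.V0 = Nat.card F ^ 2)
    (ho : Odd (Nat.card F)) [IsSimpleGroup (Cfsg.POmega F ⇑Q)] : Row p (Cfsg.POmega F ⇑Q) := by
  have hodd : Odd p := (Fact.out : p.Prime).odd_of_ne_two hp2
  subst hm
  have : Finite (CoxeterMatrix.B 3).Group := finite_W (CoxeterMatrix.B 3).toCoxeterSystem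
  have := Fintype.ofFinite (CoxeterMatrix.B 3).Group
  have : Finite (Cfsg.POmega F ⇑Q) := Quotient.finite _
  have C := clsP hG hA hodd hp0 (CoxeterMatrix.B 3).toCoxeterSystem
  refine row_of_nf hp2 C.rgd (genP hG hA hp0 (by omega) _) fun x φ σ J g N hS hN => ?_
  have h0 : ee (sr 0) = wt ((0 : Fin 3), true) + wt (nx 0) := ee_sr 0
  have h1 : ee (sr 1) = wt ((1 : Fin 3), true) + wt (nx 1) := ee_sr 1
  have h2 : ee (sr 2) = wt ((2 : Fin 3), true) + wt ((2 : Fin 3), true) := ee_sr 2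
  rcases Cfsg.Agent.H286.PB3.p_B3 N C hodd (q := Nat.card F)
    (card_short hG hA hodd hp0 (by decide) h0) (card_short hG hA hodd hp0 (by decide) h1)
    ((card_long hG hA hodd hp0 h2).trans hV)
    (fun i u hu => pow_XP hG (ok_nx i) (ee_sr i) hu) ho Finite.one_lt_card hS hN with h3 | h3
  · exact Or.inl h3
  · exact Or.inr (Or.inr h3)

end Matrix

section Rows

/-- **`Ω_{2m+1}(q)`, `m ≥ 3`.** -/
theorem row_odd (F : Type*) [Field F] [Fintype F] (p : ℕ) [Fact p.Prime] [CharP F p] (ho : Odd (Fintype.card F))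
    {m : ℕ} (hm : 3 ≤ m) [hs : IsSimpleGroup (Cfsg.POmega F (Cfsg.quadFormOdd m F))] :
    Row p (Cfsg.POmega F (Cfsg.quadFormOdd m F)) := by
  have hp2 : p ≠ 2 := by rintro rfl; exact absurd (odd_of 2 ho) (by decide)
  have h2 : (2 : F) ≠ 0 := two_ne hp2
  revert hs
  rw [← coe_oddForm]
  intro hs
  have hG : Good (oddForm m F) := by
    apply good_of_finite (nondeg_oddForm m F h2)
    rw [Module.finrank_fintype_fun_eq_card, Fintype.card_sum, Fintype.card_sum, Fintype.card_fin,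
      Fintype.card_unit]
    omega
  have hp0 : ((embOdd m F).ngt ⟨1, -1 ^ 2, rfl⟩).c ≠ 0 := by
    change (1 : F)⁻¹ * (-1 ^ 2) ≠ 0
    simp
  rcases hm.eq_or_lt with h3 | h4
  · exact row_three hG (W := wodd m F) (amb _ h2) hp2 hp0 h3.symm (card_V0_odd F m)
  · exact row_four hG (W := wodd m F) (amb _ h2) hp2 hp0 h4

/-- **`PΩ⁻_{2m+2}(q)`, `m ≥ 3`.** -/
theorem row_minus (F : Type*) [Field F] [Fintype F] (p : ℕ) [Fact p.Prime] [CharP F p] (ho : Odd (Fintype.card F))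
    {m : ℕ} (hm : 3 ≤ m) (a b : F) (hab : ∀ z₁ z₂ : F, z₁ ^ 2 + a * z₁ * z₂ + b * z₂ ^ 2 = 0 → z₁ = 0 ∧ z₂ = 0)
    [hs : IsSimpleGroup (Cfsg.POmega F (Cfsg.quadFormMinus m F a b))] :
    Row p (Cfsg.POmega F (Cfsg.quadFormMinus m F a b)) := by
  have hp2 : p ≠ 2 := by rintro rfl; exact absurd (odd_of 2 ho) (by decide)
  have h2 : (2 : F) ≠ 0 := two_ne hp2
  revert hs
  rw [← coe_minusForm]
  intro hs
  have hG : Good (minusForm m F a b) := by
    apply good_of_finite (nondeg_minusForm m F a b hab)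
    rw [Module.finrank_fintype_fun_eq_card, Fintype.card_sum, Fintype.card_sum, Fintype.card_fin,
      Fintype.card_fin]
    omega
  have hp0 : ((embMinus m F a b hab).ngt ⟨(1, 0), -StdData.nf a b (1, 0), rfl⟩).c ≠ 0 := by
    change (1 : F)⁻¹ * (-StdData.nf a b (1, 0)) ≠ 0
    simp [StdData.nf]
  rcases hm.eq_or_lt with h3 | h4
  · exact row_eight hG (W := wminus m F a b hab) (amb _ h2) hp2 hp0 h3.symm (card_V0_minus F m a b hab)
      (by rwa [Nat.card_eq_fintype_card])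
  · exact row_four hG (W := wminus m F a b hab) (amb _ h2) hp2 hp0 h4

variable {X : Type*} [Group X] [Finite X] [IsSimpleGroup X] {p : ℕ} [Fact p.Prime]

theorem odd_card {F : Type*} [Field F] [Fintype F] [CharP F p] (hp2 : p ≠ 2) : Odd (Fintype.card F) := by
  obtain ⟨n, -, hn⟩ := FiniteField.card F p
  rw [hn]
  exact ((Fact.out : p.Prime).odd_of_ne_two hp2).pow

theorem row_isPOmegaOddChar (hp2 : p ≠ 2) (h : Cfsg.IsPOmegaOddChar p X) : Row p X := by
  obtain ⟨F, _, _, _, m, hm, -, ⟨e⟩⟩ := h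
  have : IsSimpleGroup (Cfsg.POmega F (Cfsg.quadFormOdd m F)) := e.symm.isSimpleGroup
  have : Finite (Cfsg.POmega F (Cfsg.quadFormOdd m F)) := Finite.of_equiv X e.toEquiv
  exact Row.of_equiv e.symm (row_odd F p (odd_card hp2) hm)

theorem row_isPOmegaMinusChar (hp2 : p ≠ 2) (h : Cfsg.IsPOmegaMinusChar p X) : Row p X := by
  obtain ⟨F, _, _, _, m, a, b, hm, hab, ⟨e⟩⟩ := h
  have : IsSimpleGroup (Cfsg.POmega F (Cfsg.quadFormMinus (m - 1) F a b)) := e.symm.isSimpleGroup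
  have : Finite (Cfsg.POmega F (Cfsg.quadFormMinus (m - 1) F a b)) := Finite.of_equiv X e.toEquiv
  exact Row.of_equiv e.symm (row_minus F p (odd_card hp2) (by omega) a b hab)

end Rows

end Cfsg.Agent.H62.OrthRows
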