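import Cfsg.Agent.H952.RcRows
import Cfsg.Agent.H301.SY.Base
import Cfsg.Agent.S0292
import Cfsg.Agent.S0293

/-!
# S3846: the rows `Ω_{2m+1}(q)`, `PΩ⁺_{2m}(q)` (and the irreducible case for `PΩ⁻_{2m}(q)`) (helper62)

* `fixR_or_irr` : a radical inner automorphism of order `p ≥ 5` of `PΩ(V)` normalises an `r`-subgroup or is induced by
  an irreducible isometry;
* `le_finrank` : `dim V ≤ i` if `p ∣ q ^ i - 1` and an element of order `p` acts irreducibly;
* `crow_of_card` : the row, if no `q ^ i - 1`, ... ;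
* `crow_omega_odd`, `crow_omega_plus`.
-/

set_option autoImplicit false
set_option linter.unusedSectionVars false

namespace Cfsg.Agent.H62.SYOrth

open Subgroup Cfsg Cfsg.Agent.H459.Rad Cfsg.Agent.H459.Iface QuadraticMap Cfsg.Agent.H952.Rc Cfsg.Agent.H301.SY
open Cfsg.Agent.BpCl (Semi SemiIso)
open Cfsg.Agent.LieClassical.OrthCore Cfsg.Agent.LieClassical.OrthTrans Cfsg.Agent.LieClassical.OrthSimple

universe u v

section Main

variable {F : Type u} {V : Type v} [Field F] [AddCommGroup V] [Module F V] {Q : QuadraticForm F V}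
  {Γ : Subgroup (V ≃ₗ[F] V)}

/-- **Linear isometries** : the irreducible case is left. -/
theorem fixR_or_irr [Finite F] [FiniteDimensional F V] {r p : ℕ} [hr : Fact r.Prime] [hp : Fact p.Prime]
    [CharP F r] (h5 : 5 ≤ p) (hpF : (p : F) ≠ 0) (hQ : Nondeg Q) (hd : 7 ≤ Module.finrank F V) (hΓ : Γ = E Q)
    {x : MulAut (↥Γ ⧸ center ↥Γ)} {g : V ≃ₗ[F] V} (hgO : g ∈ O Q) (hgp : g ^ p = 1) (hg1 : g ≠ 1)
    (hx : Comp x g.toEquiv) (hRC : RC x) :
    FixR r x ∨ ∀ U : Submodule F V, (∀ v ∈ U, g v ∈ U) → U = ⊥ ∨ U = ⊤ := by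
  have hG : Good Q := Cfsg.Agent.LieClassical.OrthFinite.good_of_finite hQ (by omega)
  have hVf : Finite V := Module.finite_of_finite F
  have hf0 : Finite (V ≃ₗ[F] V) := Finite.of_injective (fun h : V ≃ₗ[F] V => (h : V → V)) DFunLike.coe_injective
  have hVn : Nontrivial V := Module.nontrivial_of_finrank_pos (R := F) (by omega)
  have hodd : Odd p := hp.out.odd_of_ne_two (by omega)
  have hrefl := polarBilin_refl Q
  have hform' : ∀ u v, polarBilin Q (g u) (g v) = polarBilin Q u v := fun u v => polar_map hgO u v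
  have hform : ∀ u v, polarBilin Q (g.toEquiv u) (g.toEquiv v) = (RingEquiv.refl F) (polarBilin Q u v) :=
    fun u v => polar_map hgO u v
  -- a totally singular invariant subspace
  have hts : ∀ U : Submodule F V, U ≠ ⊥ → (∀ u ∈ U, g u ∈ U) → (∀ u ∈ U, Q u = 0) → FixR r x := by
    intro U hU0 hU hUQ
    obtain ⟨u, hu, hu0⟩ := Submodule.exists_mem_ne_zero_of_ne_bot hU0
    have hU' : ∀ v, g v ∈ U ↔ v ∈ U := inv_iff (g := g.toEquiv) hU
    have hUU : ∀ u ∈ U, ∀ v ∈ U, polar Q u v = 0 := by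
      intro u hu v hv
      unfold polar
      rw [hUQ _ (U.add_mem hu hv), hUQ u hu, hUQ v hv, sub_zero, sub_zero]
    have hUP : U ≤ LinearMap.BilinForm.orthogonal (polarBilin Q) U := fun v hv w hw => hUU w hw v hv
    obtain ⟨w, hw, hwu⟩ : ∃ w ∈ LinearMap.BilinForm.orthogonal (polarBilin Q) U, w ∉ Submodule.span F {u} := by
      by_contra hcon
      push Not at hcon
      have h1 : LinearMap.BilinForm.orthogonal (polarBilin Q) U ≤ Submodule.span F {u} := hcon
      have h2 := Submodule.finrank_mono h1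
      have h3 := Submodule.finrank_mono hUP
      have h4 := finrank_span_singleton (K := F) hu0
      have h6 := LinearMap.BilinForm.finrank_add_finrank_orthogonal hrefl U
      omega
    have hu' : Q u = 0 := hUQ u hu
    have hw' : polar Q u w = 0 := hw u hu
    have hmem : siegel Q u w hu' hw' ∈ Γ := by rw [hΓ]; exact siegel_mem_E hu' hw'
    refine hx.fixR_unip (fun u v => map_add g u v) (U := U) (P := LinearMap.BilinForm.orthogonal (polarBilin Q) U) hUP
      hU' (orth_iff hform hU') ⟨_, hmem⟩ ?_ ?_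
    · refine ⟨fun v hv => ?_, fun v hv => ?_, fun v => ?_⟩
      · change siegel Q u w hu' hw' v = v
        have h1 : polar Q w v = 0 := by rw [polar_comm]; exact hw v hv
        rw [siegel_apply, hUU u hu v hv, h1, zero_smul, zero_smul, mul_zero, zero_smul, add_zero, sub_zero, sub_zero]
      · change siegel Q u w hu' hw' v - v ∈ U
        have h1 : polar Q u v = 0 := hv u hu
        rw [siegel_apply, h1, zero_smul, mul_zero, zero_smul, add_zero, sub_zero, sub_sub_cancel_left]
        exact U.neg_mem (U.smul_mem _ hu)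
      · change siegel Q u w hu' hw' v - v ∈ LinearMap.BilinForm.orthogonal (polarBilin Q) U
        have e : siegel Q u w hu' hw' v - v = polar Q u v • w - polar Q w v • u - (Q w * polar Q u v) • u := by
          rw [siegel_apply]; abel
        rw [e]
        exact Submodule.sub_mem _ (Submodule.sub_mem _ (Submodule.smul_mem _ _ hw)
          (Submodule.smul_mem _ _ (hUP hu))) (Submodule.smul_mem _ _ (hUP hu))
    · intro hz
      obtain ⟨c, hc⟩ := center_scalar_orth hG hΓ hz
      have hc' : ∀ v, siegel Q u w hu' hw' v = c • v := hc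
      have h1 := hc' u
      have h2 : polar Q u u = 0 := polar_self_of_sing hu'
      have h3 : polar Q w u = 0 := by rw [polar_comm]; exact hw'
      rw [siegel_apply, h2, h3, zero_smul, zero_smul, mul_zero, zero_smul, add_zero, sub_zero, sub_zero] at h1
      have hc1 : c = 1 := by
        have h4 : (c - 1) • u = 0 := by rw [sub_smul, one_smul, ← h1, sub_self]
        rcases smul_eq_zero.1 h4 with h5 | h5
        · exact sub_eq_zero.1 h5
        · exact absurd h5 hu0
      obtain ⟨u', huu'⟩ := exists_hyp hG.nondeg hu' hu0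
      have h4 := hc' u'
      rw [siegel_apply, huu'.pair, hc1, one_smul, one_smul, mul_one] at h4
      apply hwu
      rw [Submodule.mem_span_singleton]
      refine ⟨polar Q w u' + Q w, ?_⟩
      have h6 : u' + w - polar Q w u' • u - Q w • u - u' = 0 := by rw [h4, sub_self]
      rw [add_smul]
      have h7 : w - (polar Q w u' • u + Q w • u) = 0 := by rw [← h6]; abel
      exact (sub_eq_zero.1 h7).symm
  have hsing : ∀ u : V, u ≠ 0 → g u = u → Q u = 0 → FixR r x := by
    intro u hu0 hu hQu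
    refine hts (Submodule.span F {u}) ?_ (fun v hv => ?_) ?_
    · rw [Ne, Submodule.span_singleton_eq_bot]
      exact hu0
    · obtain ⟨a, rfl⟩ := Submodule.mem_span_singleton.1 hv
      rw [map_smul, hu]
      exact hv
    · intro v hv
      obtain ⟨a, rfl⟩ := Submodule.mem_span_singleton.1 hv
      rw [QuadraticMap.map_smul, hQu, smul_zero]
  by_cases hnoF : FixR r x
  · exact Or.inl hnoF
  right
  -- the fixed space
  have hW0 : Module.finrank F (BpCl.W0 g) ≤ 2 := by
    by_contra hcon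
    obtain ⟨w, hw, hw0, hQw⟩ := Cfsg.Agent.LieClassical.OrthFinite.exists_sing_mem (Q := Q) (BpCl.W0 g) (by omega)
    exact hnoF (hsing w hw0 (BpCl.mem_W0.1 hw) hQw)
  have hcW := BpCl.isCompl_W hgp hpF
  by_cases hfix : BpCl.W0 g = ⊥
  · -- no fixed vectors
    have hno0 : ∀ v, g v = v → v = 0 := by
      intro v hv
      have : v ∈ BpCl.W0 g := BpCl.mem_W0.2 hv
      rwa [hfix, Submodule.mem_bot] at this
    intro A hgA
    by_contra hcon
    push Not at hcon
    obtain ⟨hAb, hAt⟩ := hcon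
    have hA' : ∀ v, g v ∈ A ↔ v ∈ A := inv_iff (g := g.toEquiv) hgA
    have hW' : ∀ v, g v ∈ LinearMap.BilinForm.orthogonal (polarBilin Q) A ↔ v ∈ LinearMap.BilinForm.orthogonal (polarBilin Q) A :=
      orth_iff (g := g.toEquiv) (φ := RingEquiv.refl F) hform' hA'
    have hdisj : Disjoint A (LinearMap.BilinForm.orthogonal (polarBilin Q) A) := by
      rw [Submodule.disjoint_def]
      intro v hvA hvW
      let D : Submodule F V :=
        { carrier := {v | (v ∈ A ∧ v ∈ LinearMap.BilinForm.orthogonal (polarBilin Q) A) ∧ Q v = 0}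
          add_mem' := by
            rintro a b ⟨⟨ha1, ha2⟩, ha3⟩ ⟨⟨hb1, hb2⟩, hb3⟩
            refine ⟨⟨A.add_mem ha1 hb1, Submodule.add_mem _ ha2 hb2⟩, ?_⟩
            have h1 : polar Q a b = 0 := hb2 a ha1
            rw [Q_add, ha3, hb3, h1, add_zero, add_zero]
          zero_mem' := ⟨⟨A.zero_mem, Submodule.zero_mem _⟩, QuadraticMap.map_zero Q⟩
          smul_mem' := by
            rintro c a ⟨⟨ha1, ha2⟩, ha3⟩
            refine ⟨⟨A.smul_mem c ha1, Submodule.smul_mem _ c ha2⟩, ?_⟩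
            rw [QuadraticMap.map_smul, ha3, smul_zero] }
      have hD : D = ⊥ := by
        by_contra hD
        apply hnoF
        refine hts D hD ?_ (fun u hu => hu.2)
        rintro u ⟨⟨h1, h2⟩, h3⟩
        exact ⟨⟨(hA' u).2 h1, (hW' u).2 h2⟩, by rw [hgO u, h3]⟩
      have h1 : g v - v ∈ D := by
        refine ⟨⟨A.sub_mem ((hA' v).2 hvA) hvA, Submodule.sub_mem _ ((hW' v).2 hvW) hvW⟩, ?_⟩
        have h2 : polar Q (g v) v = 0 := hvW _ ((hA' v).2 hvA)
        have h3 : polar Q v v = 0 := hvW v hvA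
        rw [polar_self'] at h3
        rw [sub_eq_add_neg, Q_add, polar_neg_right, h2, QuadraticMap.map_neg, hgO v, neg_zero, add_zero, ← two_mul]
        exact h3
      rw [hD, Submodule.mem_bot, sub_eq_zero] at h1
      exact hno0 v h1
    have hc : IsCompl A (LinearMap.BilinForm.orthogonal (polarBilin Q) A) :=
      (LinearMap.BilinForm.isCompl_orthogonal_iff_disjoint hrefl).2 hdisj
    have hAW : ∀ a ∈ A, ∀ w ∈ LinearMap.BilinForm.orthogonal (polarBilin Q) A, polar Q a w = 0 := fun a ha w hw => hw a ha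
    have hW0' : LinearMap.BilinForm.orthogonal (polarBilin Q) A ≠ ⊥ := by
      intro h
      apply hAt
      have := hc.sup_eq_top
      rwa [h, sup_bot_eq] at this
    have hsum := Submodule.finrank_add_eq_of_isCompl hc
    rcases Nat.lt_or_ge (Module.finrank F (LinearMap.BilinForm.orthogonal (polarBilin Q) A)) 4 with h4 | h4
    · have key := orth_split hp.out h5 hG hΓ hx hRC hgO hgp hc.symm
        (fun a ha w hw => by rw [polar_comm]; exact hAW w hw a ha) hW' hA' hW0' (by omega)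
      obtain ⟨w, hw, hw0⟩ := Submodule.exists_mem_ne_zero_of_ne_bot hAb
      exact hw0 (hno0 w (key w hw))
    · have key := orth_split hp.out h5 hG hΓ hx hRC hgO hgp hc hAW hA' hW' hAb h4
      obtain ⟨w, hw, hw0⟩ := Submodule.exists_mem_ne_zero_of_ne_bot hW0'
      exact hw0 (hno0 w (key w hw))
  · -- fixed vectors
    exfalso
    have hsum := Submodule.finrank_add_eq_of_isCompl hcW
    have hAW : ∀ a ∈ BpCl.W0 g, ∀ w ∈ BpCl.W1 p g, polar Q a w = 0 := fun a ha w hw =>
      (BpCl.bilin_cross (B := polarBilin Q) hform' hpF ha hw).1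
    have hA' : ∀ v, g v ∈ BpCl.W0 g ↔ v ∈ BpCl.W0 g :=
      inv_iff (g := g.toEquiv) fun v hv => BpCl.W0_map (fun _ => rfl) hv
    have hW' : ∀ v, g v ∈ BpCl.W1 p g ↔ v ∈ BpCl.W1 p g :=
      inv_iff (g := g.toEquiv) fun v hv => BpCl.W1_map (fun _ => rfl) hv
    have key := orth_split hp.out h5 hG hΓ hx hRC hgO hgp hcW hAW hA' hW' hfix (by omega)
    apply hg1
    apply LinearEquiv.ext
    intro v
    exact ext_of_isCompl hcW (a := g.toLinearMap) (b := LinearMap.id) (fun w hw => BpCl.mem_W0.1 hw)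
      (fun w hw => key w hw) v

end Main

/-! ### the order of `q` modulo `p` -/

section Ord

variable {F : Type u} [Field F] [Fintype F] {V : Type v} [AddCommGroup V] [Module F V] [FiniteDimensional F V]
  {p : ℕ} [hp : Fact p.Prime]

theorem le_finrank [Nontrivial V] (hpF : (p : F) ≠ 0) {g : V ≃ₗ[F] V} (hgp : g ^ p = 1) (hg1 : g ≠ 1)
    (hs : ∀ W : Submodule F V, (∀ w ∈ W, g w ∈ W) → W = ⊥ ∨ W = ⊤) {i : ℕ} (hi : 0 < i)
    (hdvd : p ∣ Fintype.card F ^ i - 1) : Module.finrank F V ≤ i := by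
  classical
  have hpow : ∀ (n : ℕ) (v : V), (g.toLinearMap ^ n) v = (g ^ n) v := by
    intro n v
    induction n with
    | zero => rfl
    | succ n ih => rw [pow_succ', pow_succ', Module.End.mul_apply, ih]; rfl
  have h1 : g.toLinearMap ^ p = 1 := by
    ext v
    rw [hpow, hgp]
    rfl
  have h2 : g.toLinearMap ≠ 1 := by
    intro h
    apply hg1
    apply LinearEquiv.ext
    intro v
    exact LinearMap.congr_fun h v
  -- an element of order `p` of `GL_i`
  have hcard : p ∣ Nat.card (GL (Fin i) F) := by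
    rw [Matrix.card_GL_field]
    refine hdvd.trans ?_
    have h3 := Finset.dvd_prod_of_mem (fun j : Fin i => Fintype.card F ^ i - Fintype.card F ^ (j : ℕ))
      (Finset.mem_univ (⟨0, hi⟩ : Fin i))
    simpa using h3
  obtain ⟨z, hz⟩ := exists_prime_orderOf_dvd_card' p hcard
  obtain ⟨T, hT⟩ : ∃ T : (Fin i → F) →ₗ[F] (Fin i → F), T = Matrix.toLin' (z : Matrix (Fin i) (Fin i) F) := ⟨_, rfl⟩
  have hTp : T ^ p = 1 := by
    rw [hT, ← Matrix.toLin'_pow, ← Units.val_pow_eq_pow_val, ← hz, pow_orderOf_eq_one, Units.val_one, Matrix.toLin'_one]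
    rfl
  have hT1 : T ≠ 1 := by
    intro h
    have h3 : (z : Matrix (Fin i) (Fin i) F) = 1 := by
      apply Matrix.toLin'.injective
      rw [← hT, h, Matrix.toLin'_one]
      rfl
    have h4 : z = 1 := Units.ext h3
    rw [h4, orderOf_one] at hz
    exact hp.out.one_lt.ne hz
  have h3 := finrank_le hpF h1 h2 hs hTp hT1
  rwa [Module.finrank_fintype_fun_eq_card, Fintype.card_fin] at h3

end Ord

/-! ### the row -/

section Row

variable {F : Type u} {V : Type v} [Field F] [AddCommGroup V] [Module F V] {Q : QuadraticForm F V}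

/-- a lift of odd order -/
theorem exists_lift (hG : Good Q) {p : ℕ} (hodd : Odd p) {x : ↥(E Q) ⧸ center ↥(E Q)} (hx : x ^ p = 1) :
    ∃ k : ↥(E Q), QuotientGroup.mk' (center ↥(E Q)) k = x ∧ k ^ p = 1 := by
  obtain ⟨k, rfl⟩ := QuotientGroup.mk'_surjective (center ↥(E Q)) x
  rw [← map_pow] at hx
  have hz : k ^ p ∈ center ↥(E Q) := (QuotientGroup.eq_one_iff _).1 hx
  have hz2 : (k ^ p) ^ 2 = 1 := by
    obtain ⟨c, hc⟩ := center_scalar_orth hG rfl hz
    exact Subtype.ext (sq_eq_one_of_scalar hG (E_le_O (k ^ p).2) hc)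
  obtain ⟨z, hzz⟩ : ∃ z, z = k ^ p := ⟨_, rfl⟩
  rw [← hzz] at hz hz2
  refine ⟨k * z, ?_, ?_⟩
  · rw [map_mul]
    have h1 : QuotientGroup.mk' (center ↥(E Q)) z = 1 := (QuotientGroup.eq_one_iff _).2 hz
    rw [h1, mul_one]
  · have hc : Commute k z := Subgroup.mem_center_iff.1 hz k
    rw [hc.mul_pow, ← hzz]
    obtain ⟨j, rfl⟩ := hodd
    rw [pow_succ, pow_mul, hz2, one_pow, one_mul, ← pow_two, hz2]

theorem row_E [Fintype F] [FiniteDimensional F V] {r p : ℕ} [hr : Fact r.Prime] [hp : Fact p.Prime]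
    [CharP F r] (h5 : 5 ≤ p) (hpF : (p : F) ≠ 0) (hQ : Nondeg Q) (hd : 7 ≤ Module.finrank F V)
    {x : ↥(E Q) ⧸ center ↥(E Q)} (hx : orderOf x = p) (hRC : RC (MulAut.conj x)) :
    FixR r (MulAut.conj x) ∨ ∃ g ∈ E Q, g ^ p = 1 ∧ g ≠ 1 ∧
      ∀ W : Submodule F V, (∀ w ∈ W, g w ∈ W) → W = ⊥ ∨ W = ⊤ := by
  have hG : Good Q := Cfsg.Agent.LieClassical.OrthFinite.good_of_finite hQ (by omega)
  have hodd : Odd p := hp.out.odd_of_ne_two (by omega)
  obtain ⟨k, hk, hkp⟩ := exists_lift hG hodd (x := x) (by rw [← hx, pow_orderOf_eq_one])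
  have hkp' : k.1 ^ p = 1 := congrArg Subtype.val hkp
  have hk1 : k.1 ≠ 1 := by
    intro h
    have h1 : k = 1 := Subtype.ext h
    rw [h1, map_one] at hk
    rw [← hk, orderOf_one] at hx
    exact hp.out.one_lt.ne hx
  have hcomp : Comp (MulAut.conj x) k.1.toEquiv := by
    intro h
    refine ⟨k * h * k⁻¹, fun v => ?_, ?_⟩
    · change k.1 (h.1 (k.1.symm (k.1 v))) = k.1 (h.1 v)
      rw [k.1.symm_apply_apply]
    · rw [MulAut.conj_apply, ← hk, ← map_mul, ← map_inv, ← map_mul]
  rcases fixR_or_irr (r := r) h5 hpF hQ hd rfl (E_le_O k.2) hkp' hk1 hcomp hRC with h | h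
  · exact Or.inl h
  · exact Or.inr ⟨k.1, k.2, hkp', hk1, h⟩

/-- **the row, if `p` divides no `q ^ i - 1` with `i ≥ dim V`** -/
theorem crow_E [Fintype F] [FiniteDimensional F V] {r p : ℕ} [hr : Fact r.Prime] [hp : Fact p.Prime]
    [CharP F r] (h5 : 5 ≤ p) (hpF : (p : F) ≠ 0) (hQ : Nondeg Q) (hd : 7 ≤ Module.finrank F V)
    (hc : p ∣ Nat.card (↥(E Q) ⧸ center ↥(E Q)) → ∃ i, 0 < i ∧ i < Module.finrank F V ∧ p ∣ Fintype.card F ^ i - 1) :
    CRow r p (↥(E Q) ⧸ center ↥(E Q)) := by
  intro x hx hRC _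
  left
  rcases row_E (r := r) h5 hpF hQ hd hx hRC with h | ⟨g, -, hgp, hg1, hs⟩
  · exact h
  · exfalso
    obtain ⟨i, hi, hlt, hdvd⟩ := hc (by rw [← hx]; exact orderOf_dvd_natCard x)
    have hVn : Nontrivial V := Module.nontrivial_of_finrank_pos (R := F) (by omega)
    have := le_finrank hpF hgp hg1 hs hi hdvd
    omega

end Row

section Rows

open Cfsg.Agent.LieClassical.OrthForms Cfsg.Agent.ClassicalGeometry.OrthSemi
  Cfsg.Agent.ClassicalGeometry.OrthSemiForms

theorem not_dvd_card {F : Type} [Field F] [Fintype F] {p n : ℕ} [hp : Fact p.Prime] (hpF : (p : F) ≠ 0)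
    (h : p ∣ Fintype.card F ^ n) : False := by
  have h1 := hp.out.dvd_of_dvd_pow h
  apply hpF
  have h2 : (Fintype.card F : F) = 0 := FiniteField.cast_card_eq_zero F
  obtain ⟨r, hcr⟩ := CharP.exists F
  have hr : r.Prime := CharP.char_is_prime F r
  obtain ⟨n, -, hn⟩ := FiniteField.card F r
  rw [hn] at h1
  have h3 := (Nat.prime_dvd_prime_iff_eq hp.out hr).1 (hp.out.dvd_of_dvd_pow h1)
  rw [h3]
  exact CharP.cast_eq_zero F r

theorem exists_of_dvd_prod {p q k : ℕ} [hp : Fact p.Prime] (h : p ∣ ∏ i ∈ Finset.range k, (q ^ (2 * (i + 1)) - 1)) :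
    ∃ i, 0 < i ∧ i ≤ 2 * k ∧ p ∣ q ^ i - 1 := by
  obtain ⟨i, hi, h1⟩ := (hp.out.prime.dvd_finsetProd_iff _).1 h
  have h2 := Finset.mem_range.1 hi
  exact ⟨2 * (i + 1), by omega, by omega, h1⟩

theorem crow_omega_odd {K : Type*} [Group K] [Finite K] [IsSimpleGroup K] {r p : ℕ} [Fact r.Prime] [Fact p.Prime]
    (h : Cfsg.IsPOmegaOddChar r K) (hp : 5 ≤ p) (hpr : p ≠ r) : CRow r p K := by
  obtain ⟨F, _, _, _, m, hm, hodd, ⟨e⟩⟩ := h
  have h2 := two_ne_zero_of_odd_card hodd
  have hfin : Finite (POmega F (quadFormOdd m F)) := Finite.of_equiv _ e.toEquiv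
  have hpF := Cfsg.Agent.BpCl.cast_ne_zero_of_char (F := F) (Fact.out : p.Prime) hpr.symm
  have hcard := S0292.result (F := F) rfl hodd m hm
  have key : CRow r p (POmega F (quadFormOdd m F)) := by
    rw [← coe_oddForm] at hfin hcard ⊢
    have hd : Module.finrank F (Unit ⊕ (Fin m ⊕ Fin m) → F) = 2 * m + 1 := by
      rw [Module.finrank_fintype_fun_eq_card, Fintype.card_sum, Fintype.card_sum, Fintype.card_fin, Fintype.card_unit]
      omega
    have hQ := nondeg_oddForm m F h2
    have hG := Cfsg.Agent.LieClassical.OrthFinite.good_of_finite hQ (by omega)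
    have hfin' : Finite ↥(E (oddForm m F)) := Cfsg.Agent.BpCl.finite_subgroup _
    refine (crow_E hp hpF hQ (by omega) ?_).congr (pomegaEquiv hG)
    intro hpc
    rw [← Nat.card_congr (pomegaEquiv hG).toEquiv] at hpc
    have h3 : p ∣ Fintype.card F ^ m ^ 2 * ∏ i ∈ Finset.range m, (Fintype.card F ^ (2 * (i + 1)) - 1) := by
      rw [← hcard]
      exact hpc.mul_left 2
    rcases (Fact.out : p.Prime).dvd_mul.1 h3 with h4 | h4
    · exact (not_dvd_card hpF h4).elim
    · obtain ⟨i, h5, h6, h7⟩ := exists_of_dvd_prod h4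
      exact ⟨i, h5, by omega, h7⟩
  exact key.congr e

theorem crow_omega_plus {K : Type*} [Group K] [Finite K] [IsSimpleGroup K] {r p : ℕ} [Fact r.Prime] [Fact p.Prime]
    (h : Cfsg.IsPOmegaPlusChar r K) (hp : 5 ≤ p) (hpr : p ≠ r) : CRow r p K := by
  obtain ⟨F, _, _, _, m, hm, ⟨e⟩⟩ := h
  have hfin : Finite (POmega F (quadFormPlus m F)) := Finite.of_equiv _ e.toEquiv
  have hpF := Cfsg.Agent.BpCl.cast_ne_zero_of_char (F := F) (Fact.out : p.Prime) hpr.symm
  have hcard := S0293.result (F := F) rfl m hm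
  have key : CRow r p (POmega F (quadFormPlus m F)) := by
    rw [← coe_plusForm] at hfin hcard ⊢
    have hd : Module.finrank F (Fin m ⊕ Fin m → F) = 2 * m := by
      rw [Module.finrank_fintype_fun_eq_card, Fintype.card_sum, Fintype.card_fin]
      omega
    have hQ := nondeg_plusForm m F
    have hG := Cfsg.Agent.LieClassical.OrthFinite.good_of_finite hQ (by omega)
    have hfin' : Finite ↥(E (plusForm m F)) := Cfsg.Agent.BpCl.finite_subgroup _
    refine (crow_E hp hpF hQ (by omega) ?_).congr (pomegaEquiv hG)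
    intro hpc
    rw [← Nat.card_congr (pomegaEquiv hG).toEquiv] at hpc
    have h3 : p ∣ Fintype.card F ^ (m * (m - 1)) * (Fintype.card F ^ m - 1) *
        ∏ i ∈ Finset.range (m - 1), (Fintype.card F ^ (2 * (i + 1)) - 1) := by
      rw [← hcard]
      exact hpc.mul_left _
    rcases (Fact.out : p.Prime).dvd_mul.1 h3 with h4 | h4
    · rcases (Fact.out : p.Prime).dvd_mul.1 h4 with h4 | h4
      · exact (not_dvd_card hpF h4).elim
      · exact ⟨m, by omega, by omega, h4⟩
    · obtain ⟨i, h5, h6, h7⟩ := exists_of_dvd_prod h4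
      exact ⟨i, h5, by omega, h7⟩
  exact key.congr e

end Rows

end Cfsg.Agent.H62.SYOrth
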