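import Mathlib
import Cfsg.Agent.H62.PCGeo
import Cfsg.Agent.H62.PCNum
import Cfsg.Agent.H554.SLSub
import Cfsg.Agent.H408.Out

/-!
# Subgroups of prime power index prime to the characteristic: `PSL_d(q)`, `d ≥ 3` (helper62)

`main` : the index is `(q ^ d - 1) / (q - 1)`.
-/

set_option autoImplicit false
set_option linter.unusedSectionVars false

namespace Cfsg.Agent.H62.PCSL

open Module Matrix Cfsg.Agent.H689 Cfsg.Agent.H62.PCGeo Cfsg.Agent.H62.PCNum
open CoxeterSystem Cfsg.Agent.ChevalleyStructure.CoxeterGeom Cfsg.Agent.Tits.Roots Cfsg.Agent.Tits.Core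
  Cfsg.Agent.Nodes.Reps Cfsg.Agent.Nodes.BNOf
  Cfsg.Agent.Nodes.Bruhat Cfsg.Agent.Nodes.LeviDec Cfsg.Agent.H554.RG Cfsg.Agent.H554.SLSub
  Cfsg.Agent.Nodes.RGDLib
open Cfsg.Agent.LieRecognition.BNCox (cA cA_apply)
open Cfsg.Agent.Nodes.RootsA Cfsg.Agent.Nodes.RGDTypeA

variable {F : Type*} [Field F] [Fintype F] {n : ℕ}

/-- the Gaussian binomial coefficients are large -/
theorem binom_ge {q n i N : ℕ} (hq : 2 ≤ q) (hi : i < n)
    (h : N * ∏ j : Fin (i + 1), (q ^ (i + 1) - q ^ (j : ℕ)) = ∏ j : Fin (i + 1), (q ^ (n + 1) - q ^ (j : ℕ))) :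
    q ^ n ≤ N := by
  have hpos : 0 < ∏ j : Fin (i + 1), (q ^ (i + 1) - q ^ (j : ℕ)) := by
    refine Finset.prod_pos fun j _ => ?_
    have := Nat.pow_lt_pow_right (show 1 < q by omega) j.2
    omega
  refine Nat.le_of_mul_le_mul_right (?_ : q ^ n * ∏ j : Fin (i + 1), (q ^ (i + 1) - q ^ (j : ℕ)) ≤ N * _) hpos
  rw [h]
  have h1 : q ^ n ≤ ∏ j : Fin (i + 1), q ^ (n - i) := by
    rw [Finset.prod_const, Finset.card_univ, Fintype.card_fin, ← pow_mul]
    refine Nat.pow_le_pow_right (by omega) ?_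
    obtain ⟨c, rfl⟩ : ∃ c, n = i + 1 + c := ⟨n - (i + 1), by omega⟩
    have e : i + 1 + c - i = c + 1 := by omega
    rw [e]
    nlinarith [Nat.zero_le (i * c)]
  refine (Nat.mul_le_mul_right _ h1).trans ?_
  rw [← Finset.prod_mul_distrib]
  refine Finset.prod_le_prod' fun j _ => ?_
  rw [Nat.mul_sub, ← pow_add, ← pow_add]
  have e : n - i + (i + 1) = n + 1 := by omega
  rw [e]
  exact Nat.sub_le_sub_left (Nat.pow_le_pow_right (by omega) (by omega)) _

section

variable {p : ℕ} [CharP F p] {L : Subgroup (ProjectiveSpecialLinearGroup (Fin (n + 1)) F)}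
    {r k : ℕ} (hr : r.Prime) (hrp : r ≠ p) (hk : 1 ≤ k) (hidx : L.index = r ^ k)

include hr hrp hk hidx

/-- the parabolic subgroup -/
theorem exists_par : ∃ i : Fin n, (∃ N : ℕ, N ∣ r ^ k ∧ N * ∏ j : Fin (i.val + 1), (Fintype.card F ^ (i.val + 1) -
    Fintype.card F ^ (j : ℕ)) = ∏ j : Fin (i.val + 1), (Fintype.card F ^ (n + 1) - Fintype.card F ^ (j : ℕ))) ∧
    ∃ Y : Submodule F (Fin (n + 1) → F), Y ≠ ⊥ ∧ Y ≠ ⊤ ∧
      ∀ x : SpecialLinearGroup (Fin (n + 1)) F, pr n F x ∈ L → ∀ v ∈ Y, x • v ∈ Y := by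
  have hp : Fact p.Prime := ⟨CharP.char_is_prime F p⟩
  let cs := (cA n).toCoxeterSystem
  have : Finite (cA n).Group := Cfsg.Agent.Nodes.RootsA.finite_W cs (isCartan n)
  have R := Cfsg.Agent.Nodes.RGDTypeA.rgd_psl (F := F) (p := p) cs (isCartan n)
  have hnt : L ≠ ⊤ := by
    rintro rfl
    rw [Subgroup.index_top] at hidx
    have := Nat.one_lt_pow (n := k) (by omega) hr.one_lt
    omega
  have hnd : ¬ p ∣ L.index := by
    rw [hidx]
    intro h1
    exact hrp ((Nat.prime_dvd_prime_iff_eq hp.out hr).1 (hp.out.dvd_of_dvd_pow h1)).symm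
  obtain ⟨g, i, hg⟩ := H554.RG.exists_conj_le R (GG_psl cs) (G1_psl_eq_top cs (isCartan n)) hnd hnt
  refine ⟨i, ⟨_, ?_, index_PJ_compl cs (p := p) i⟩, exists_submodule cs (p := p) hg⟩
  rw [← hidx]
  have h1 : (L.map (MulAut.conj g).toMonoidHom).index = L.index := Subgroup.index_map_equiv L (MulAut.conj g)
  rw [← h1]
  exact Subgroup.index_dvd_of_le hg

theorem index_ge : Fintype.card F ^ n ≤ r ^ k := by
  obtain ⟨i, ⟨N, hN, h1⟩, -⟩ := exists_par hr hrp hk hidx
  exact (binom_ge Fintype.one_lt_card i.2 h1).trans (Nat.le_of_dvd (pow_pos hr.pos _) hN)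

/-- the primitive prime divisors -/
theorem eq_of_ppd {l : ℕ} (h : Ppd (Fintype.card F) (n + 1) l)
    (hlK : l ∣ Nat.card (ProjectiveSpecialLinearGroup (Fin (n + 1)) F)) : l = r := by
  by_contra hne
  obtain ⟨i, -, Y, hY1, hY2, hY⟩ := exists_par hr hrp hk hidx
  have h1 : l ∣ Nat.card L := by
    rw [← L.card_mul_index, hidx, h.prime.dvd_mul] at hlK
    refine hlK.resolve_right fun h1 => hne ?_
    exact (Nat.prime_dvd_prime_iff_eq h.prime hr).1 (h.prime.dvd_of_dvd_pow h1)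
  have h2 : l ∣ Nat.card (L.comap (pr n F)) := by
    refine h1.trans ?_
    have h3 := Subgroup.card_map_dvd (H := L.comap (pr n F)) (pr n F)
    rwa [Subgroup.map_comap_eq_self_of_surjective pr_surjective] at h3
  have : Fact l.Prime := ⟨h.prime⟩
  obtain ⟨x, hx⟩ := exists_prime_orderOf_dvd_card' l h2
  have hx1 : (x : SpecialLinearGroup (Fin (n + 1)) F) ≠ 1 := by
    intro h4
    have h5 : x = 1 := Subtype.ext h4
    rw [h5, orderOf_one] at hx
    exact h.prime.one_lt.ne hx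
  have hxl : (x : SpecialLinearGroup (Fin (n + 1)) F) ^ l = 1 := by
    have := pow_orderOf_eq_one x
    rw [hx] at this
    exact congrArg Subtype.val this
  set g : (Fin (n + 1) → F) ≃ₗ[F] (Fin (n + 1) → F) := SpecialLinearGroup.toLin' (x : SpecialLinearGroup (Fin (n + 1)) F)
    with hg
  have hg1 : g ≠ 1 := by
    intro h4
    exact hx1 (SpecialLinearGroup.toLin'_injective (h4.trans (map_one _).symm))
  have hgl : g ^ l = 1 := by
    rw [hg, ← map_pow, hxl, map_one]
  have h6 := irr (F := F) (V := Fin (n + 1) → F) (by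
    rw [Module.finrank_fintype_fun_eq_card, Fintype.card_fin, Nat.card_eq_fintype_card]; exact h) hgl hg1 (W := Y)
    (fun v hv => hY x x.2 v hv)
  exact h6.elim hY1 hY2

end

theorem dvd_prod {q r k : ℕ} (h : Ppd q (n + 1) r) (hd : r ^ k ∣ ∏ i : Fin (n + 1), (q ^ (n + 1) - q ^ (i : ℕ))) :
    r ^ k ∣ q ^ (n + 1) - 1 := by
  rw [Fin.prod_univ_succ] at hd
  have h1 : Nat.Coprime (r ^ k) (∏ i : Fin n, (q ^ (n + 1) - q ^ ((i.succ : Fin (n + 1)) : ℕ))) := by
    refine Nat.Coprime.prod_right fun i _ => ?_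
    have e : q ^ (n + 1) - q ^ ((i.succ : Fin (n + 1)) : ℕ) =
        q ^ ((i : ℕ) + 1) * (q ^ (n - i) - 1) := by
      rw [Nat.mul_sub, ← pow_add, mul_one, Fin.val_succ]
      congr 2
      have := i.2
      omega
    rw [e]
    have := i.2
    exact Nat.Coprime.mul_right (cop_pow h _) (cop_sub h (by omega) (by omega))
  have h2 := h1.dvd_of_dvd_mul_right hd
  rwa [Fin.val_zero, pow_zero] at h2

/-- **`PSL_d(q)`, `d ≥ 3`, cross characteristic** -/
theorem main {d : ℕ} (hd : 3 ≤ d) {p : ℕ} [CharP F p] {L : Subgroup (ProjectiveSpecialLinearGroup (Fin d) F)}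
    {r k : ℕ} (hr : r.Prime) (hrp : r ≠ p) (hk : 1 ≤ k) (hidx : L.index = r ^ k) :
    Fintype.card F ^ d - 1 = r ^ k * (Fintype.card F - 1) := by
  obtain ⟨n, rfl⟩ : ∃ n, d = n + 1 := ⟨d - 1, by omega⟩
  have hq : 1 < Fintype.card F := Fintype.one_lt_card
  by_cases h6 : Fintype.card F = 2 ∧ n + 1 = 6
  · -- the exception
    exfalso
    obtain ⟨h2, h6⟩ := h6
    obtain ⟨i, ⟨N, hN, h1⟩, -⟩ := exists_par hr hrp hk hidx
    have hn : n = 5 := by omega
    subst hn
    rw [h2] at h1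
    have key : ∀ s t : ℕ, s.Prime → t.Prime → s ≠ t → s ∣ N → t ∣ N → False := by
      intro s t hs ht hst h3 h4
      have h5 := (Nat.prime_dvd_prime_iff_eq hs hr).1 (hs.dvd_of_dvd_pow (h3.trans hN))
      have h7 := (Nat.prime_dvd_prime_iff_eq ht hr).1 (ht.dvd_of_dvd_pow (h4.trans hN))
      exact hst (h5.trans h7.symm)
    have hi := i.2
    obtain ⟨i, hi'⟩ := i
    interval_cases i
    · simp [Fin.prod_univ_succ] at h1
      exact key 3 7 (by norm_num) (by norm_num) (by norm_num) (by omega) (by omega)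
    · simp [Fin.prod_univ_succ] at h1
      exact key 3 7 (by norm_num) (by norm_num) (by norm_num) (by omega) (by omega)
    · simp [Fin.prod_univ_succ] at h1
      exact key 3 5 (by norm_num) (by norm_num) (by norm_num) (by omega) (by omega)
    · simp [Fin.prod_univ_succ] at h1
      exact key 3 7 (by norm_num) (by norm_num) (by norm_num) (by omega) (by omega)
    · simp [Fin.prod_univ_succ] at h1
      exact key 3 7 (by norm_num) (by norm_num) (by norm_num) (by omega) (by omega)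
  obtain ⟨l, hl⟩ := exists_ppd (q := Fintype.card F) (k := n + 1) hq hd h6
  have hcard := S0243.result (F := F) rfl (n + 1) (by omega)
  have hlK : l ∣ Nat.card (ProjectiveSpecialLinearGroup (Fin (n + 1)) F) := by
    have h1 : ¬ l ∣ Fintype.card F - 1 := hl.not_dvd_sub_one (by omega)
    have h2 : l ∣ Nat.gcd (n + 1) (Fintype.card F - 1) *
        ((Fintype.card F - 1) * Nat.card (ProjectiveSpecialLinearGroup (Fin (n + 1)) F)) := by
      rw [hcard]
      have h3 := Finset.dvd_prod_of_mem (fun i : Fin (n + 1) => Fintype.card F ^ (n + 1) - Fintype.card F ^ (i : ℕ))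
        (Finset.mem_univ (0 : Fin (n + 1)))
      refine Dvd.dvd.trans ?_ h3
      simp only [Fin.val_zero, pow_zero]
      exact (hl.iff _).2 dvd_rfl
    rcases hl.prime.dvd_mul.1 h2 with h5 | h5
    · exact absurd (h5.trans (Nat.gcd_dvd_right _ _)) h1
    · exact (hl.prime.dvd_mul.1 h5).resolve_left h1
  have e := eq_of_ppd hr hrp hk hidx hl hlK
  subst e
  have h1 : l ^ k ∣ Fintype.card F ^ (n + 1) - 1 := by
    refine dvd_prod hl ?_
    rw [← hcard, ← hidx]
    exact ((Subgroup.index_dvd_card L).mul_left _).mul_left _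
  have h2 : Nat.Coprime (l ^ k) (Fintype.card F - 1) := by
    have := cop_sub hl (k := k) (j := 1) (by norm_num) (by omega)
    rwa [pow_one] at this
  have h3 : Fintype.card F - 1 ∣ Fintype.card F ^ (n + 1) - 1 := by
    have := Nat.sub_dvd_pow_sub_pow (Fintype.card F) 1 (n + 1)
    rwa [one_pow] at this
  obtain ⟨c, hc⟩ := h2.mul_dvd_of_dvd_of_dvd h1 h3
  have h4 := index_ge hr hrp hk hidx
  have hc1 : c = 1 := by
    set q := Fintype.card F with hqd
    have h5 : 2 ≤ q ^ n := le_trans hq (Nat.le_self_pow (by omega) _)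
    have h6 : q ^ (n + 1) = q ^ n * q := pow_succ _ _
    obtain ⟨t, ht⟩ : ∃ t, q = t + 1 := ⟨q - 1, by omega⟩
    have ht1 : 1 ≤ t := by omega
    have h7 : q ^ n * q - 1 = l ^ k * t * c := by rw [← h6, hc, ht]; rfl
    by_contra hne
    rcases Nat.lt_or_ge c 2 with h8 | h8
    · have : c = 0 := by omega
      subst this
      rw [mul_zero] at h7
      have : 2 * 2 ≤ q ^ n * q := Nat.mul_le_mul h5 hq
      omega
    · have h9 : q ^ n * t * 2 ≤ l ^ k * t * c := Nat.mul_le_mul (Nat.mul_le_mul_right _ h4) h8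
      rw [← h7] at h9
      have h10 : q ^ n * q = q ^ n * t + q ^ n :=
        (congrArg (fun x => q ^ n * x) ht).trans (Nat.mul_succ _ _)
      have h11 : q ^ n * 1 ≤ q ^ n * t := Nat.mul_le_mul_left _ ht1
      omega
  rw [hc, hc1, mul_one]

end Cfsg.Agent.H62.PCSL
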