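import Mathlib
import Cfsg.Agent.H62.PCPlusEnd
import Cfsg.Agent.H408.SylCong
import Cfsg.Agent.H361.SelfCent
import Cfsg.Agent.H732.SelfCent
import Cfsg.Agent.H732.SelfCentO

/-!
# Subgroups of prime power index prime to the characteristic: `Sp_6(2)`, `Ω⁺_8(2)` (helper62)
-/

set_option autoImplicit false
set_option linter.unusedSectionVars false

namespace Cfsg.Agent.H62.PCSmall

open Subgroup Cfsg.Agent.H361.SelfCent

/-- the congruence modulo the order of a self-centralising subgroup of prime order -/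
theorem exists_dvd_sub_one {G : Type*} [Group G] [Finite G] {p k r : ℕ} (hp : p.Prime) (hr : r.Prime) (hrp : r ≠ p)
    (hr2 : ¬ r ^ 2 ∣ Nat.card G) {R : Subgroup G} (hR : Nat.card R = r) (hC : centralizer (R : Set G) = R)
    (hG : Nat.card G ≠ r) {H : Subgroup G} (hH : H.index = p ^ k) : ∃ d, d ∣ r - 1 ∧ d ≡ p ^ k [MOD r] := by
  have hrf : Fact r.Prime := ⟨hr⟩
  obtain ⟨m, hm⟩ : r ∣ Nat.card G := by
    rw [← hR]
    exact Subgroup.card_subgroup_dvd_card R
  have hrm : ¬ r ∣ m := by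
    rintro ⟨c, hc⟩
    apply hr2
    exact ⟨c, by rw [hm, hc]; ring⟩
  have hcyc : IsCyclic R := isCyclic_of_prime_card (p := r) hR
  obtain ⟨⟨x, hxR⟩, hx⟩ := hcyc.exists_generator
  have hRx : R = zpowers x := by
    apply le_antisymm
    · intro y hy
      obtain ⟨j, hj⟩ := mem_zpowers_iff.1 (hx ⟨y, hy⟩)
      exact mem_zpowers_iff.2 ⟨j, congrArg Subtype.val hj⟩
    · rw [zpowers_le]; exact hxR
  have hCx : centralizer ({x} : Set G) = R := by
    rw [← hC, hRx, zpowers_eq_closure, centralizer_closure]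
  have hSit : Sit G r m x := ⟨hr, hm, hrm, by rw [hCx, hR]⟩
  have hm1 : m ≠ 1 := by
    rintro rfl
    exact hG (by rw [hm, mul_one])
  obtain ⟨e, he1, he2⟩ := hSit.card_norm hm1
  obtain ⟨H', hH'i, -, hRH', hmod, hdvd⟩ := Cfsg.Agent.H408.SylCong.exists_dvd hp hr hrp hr2 hH hR
  rw [← hRx] at he2
  rw [he2] at hdvd
  exact ⟨_, (Nat.dvd_of_mul_dvd_mul_left hr.pos hdvd).trans he1, hmod⟩

theorem not_seven {G : Type*} [Group G] [Finite G] {p k : ℕ} (hp : p.Prime) (hrp : 7 ≠ p)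
    (hr2 : ¬ 7 ^ 2 ∣ Nat.card G) {R : Subgroup G} (hR : Nat.card R = 7) (hC : centralizer (R : Set G) = R)
    (hG : Nat.card G ≠ 7) {H : Subgroup G} (hH : H.index = p ^ k) : p ^ k % 7 ∈ [1, 2, 3, 6] := by
  obtain ⟨d, hd, hd'⟩ := exists_dvd_sub_one hp (by norm_num) hrp hr2 hR hC hG hH
  have h1 : d ∣ 6 := hd
  have h2 : d ≤ 6 := Nat.le_of_dvd (by norm_num) h1
  have h3 : p ^ k % 7 = d % 7 := hd'.symm
  rw [h3]
  interval_cases d
  · exact absurd h1 (by norm_num)
  all_goals first | decide | exact absurd h1 (by norm_num)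

end Cfsg.Agent.H62.PCSmall

namespace Cfsg.Agent.H62.PCWitt

open CoxeterSystem Cfsg.Agent.ChevalleyStructure.CoxeterGeom Cfsg.Agent.Tits.Roots Cfsg.Agent.Nodes.TypeC
open Cfsg.Agent.Nodes Cfsg.Agent.Nodes.Comb Cfsg.Agent.Nodes.Reps Cfsg.Agent.Nodes.WittRoot Cfsg.Agent.Nodes.BNOf
open Cfsg.Agent.Nodes.WittRGD Cfsg.Agent.Nodes.RGDLib Cfsg.Agent.Nodes.WittAll
open Cfsg.Agent.TitsThree Cfsg.Agent.TitsThree.Siegel Cfsg.Agent.TitsThree.WittFrame
  Cfsg.Agent.TitsThree.WittWeyl Cfsg.Agent.TitsThree.FrameCN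
open Cfsg.Agent.Nodes.StabComb Cfsg.Agent.Nodes.Bruhat Cfsg.Agent.Nodes.LeviDec Cfsg.Agent.Nodes.CardSup
open Cfsg.Agent.H554.SizeC Cfsg.Agent.H62.PCFrame Cfsg.Agent.H62.PPIdx

variable {F : Type*} [Field F] {V : Type*} [AddCommGroup V] [Module F V] {H : HForm F V} {n : ℕ}
  {Fr : Frame H (Fin n)} {K : Type*} [Group K] (M : Model Fr K) [Finite K] {p : ℕ} (hA : AmbT Fr p M.I)

include hA in
/-- **lower bound for the index by a list of roots** -/
theorem pow_le_index [Finite V] [Fact p.Prime] [CharP F p] {p0 : Fr.Adm} (hp0 : p0.c ≠ 0) (hn : 0 < n)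
    {L : Subgroup K} (hL : L ≠ ⊤) (hidx : ¬ p ∣ L.index) {c : ℕ} (hc1 : c ≤ Nat.card F) (hc2 : c ≤ Nat.card Fr.Adm)
    {m : ℕ} (P : Fin n → Fin m → (Fin n × Bool) × (Fin n × Bool)) (h1 : ∀ i j, Ok (P i j).1 (P i j).2)
    (h2 : ∀ i j j', wt (P i j).1 + wt (P i j).2 = wt (P i j').1 + wt (P i j').2 → j = j')
    (h3 : ∀ i j, 0 < sgn i (P i j).1 + sgn i (P i j).2) : c ^ m ≤ L.index := by
  classical
  let cs := (CoxeterMatrix.B n).toCoxeterSystem
  have : Finite (CoxeterMatrix.B n).Group := finite_W cs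
  have R := rgdC_model M hA hp0 cs
  have hG1 := WittModel.G1_eq_top M hn cs
  obtain ⟨k, i, -, hi⟩ := exists_conj_PJ R hG1 hL hidx
  refine le_trans ?_ hi
  choose r hr1 hr2 using fun j => rt_of_ok (cs := cs) (h1 i j)
  have hinj : Function.Injective r := by
    intro j j' e
    exact h2 i j j' ((hr2 j).symm.trans ((congrArg ee e).trans (hr2 j')))
  refine le_trans ?_ (prod_le_card_VJ R (J := {i}ᶜ) r hinj fun j => mem_NotJ_of (hr1 j) (hr2 j) (h3 i j))
  calc c ^ m = ∏ _j : Fin m, c := by rw [Finset.prod_const, Finset.card_univ, Fintype.card_fin]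
    _ ≤ ∏ j, Nat.card (WittModel.X M (r j)) :=
        Finset.prod_le_prod' fun j _ => card_le_X M hA hp0 (h1 i j) (hr2 j) hc1 hc2

end Cfsg.Agent.H62.PCWitt

namespace Cfsg.Agent.H62.PCSmall

open CoxeterSystem Cfsg.Agent.ChevalleyStructure.CoxeterGeom Cfsg.Agent.Tits.Roots Cfsg.Agent.Nodes.TypeC
open Cfsg.Agent.Nodes Cfsg.Agent.Nodes.Comb Cfsg.Agent.Nodes.Reps Cfsg.Agent.Nodes.WittRoot Cfsg.Agent.Nodes.BNOf
open Cfsg.Agent.Nodes.WittRGD Cfsg.Agent.Nodes.RGDLib Cfsg.Agent.Nodes.WittAll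
open Cfsg.Agent.TitsThree Cfsg.Agent.TitsThree.Siegel Cfsg.Agent.TitsThree.WittFrame
  Cfsg.Agent.TitsThree.WittWeyl Cfsg.Agent.TitsThree.FrameCN
open Cfsg.Agent.H554.SizeC Cfsg.Agent.H62.PCFrame Cfsg.Agent.H62.PCWitt Cfsg.Agent.H62.PCNum Cfsg.Agent.H62.PCFam
open Cfsg

/-- the roots of `C_3` -/
def PC : Fin 3 → Fin 5 → (Fin 3 × Bool) × (Fin 3 × Bool)
  | 0 => ![((0, true), (0, true)), ((0, true), (1, true)), ((0, true), (1, false)), ((0, true), (2, true)),
      ((0, true), (2, false))]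
  | _ => ![((0, true), (0, true)), ((0, true), (1, true)), ((1, true), (1, true)), ((0, true), (2, true)),
      ((1, true), (2, true))]

theorem le_of_pow_dvd {r k n v : ℕ} (hd : r ^ k ∣ n) (hv : ¬ r ^ (v + 1) ∣ n) : k ≤ v := by
  by_contra h
  exact hv ((pow_dvd_pow r (by omega)).trans hd)

theorem prime_cases {r a b c d : ℕ} (hr : r.Prime) (h : r ∣ 2 ^ a * 3 ^ b * 5 ^ c * 7 ^ d) :
    r = 2 ∨ r = 3 ∨ r = 5 ∨ r = 7 := by
  rcases hr.dvd_mul.1 h with h | h
  · rcases hr.dvd_mul.1 h with h | h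
    · rcases hr.dvd_mul.1 h with h | h
      · exact Or.inl ((Nat.prime_dvd_prime_iff_eq hr (by norm_num)).1 (hr.dvd_of_dvd_pow h))
      · exact Or.inr (Or.inl ((Nat.prime_dvd_prime_iff_eq hr (by norm_num)).1 (hr.dvd_of_dvd_pow h)))
    · exact Or.inr (Or.inr (Or.inl ((Nat.prime_dvd_prime_iff_eq hr (by norm_num)).1 (hr.dvd_of_dvd_pow h))))
  · exact Or.inr (Or.inr (Or.inr ((Nat.prime_dvd_prime_iff_eq hr (by norm_num)).1 (hr.dvd_of_dvd_pow h))))

/-- **`Sp_6(2)`** -/
theorem sp_six_two {F : Type} [Field F] [Fintype F] (hF : Fintype.card F = 2) {p : ℕ} [CharP F p]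
    {L : Subgroup (PSp 3 F)} {r k : ℕ} (hr : r.Prime) (hrp : r ≠ p) (hk : 1 ≤ k) (hidx : L.index = r ^ k) :
    False := by
  have : Fact p.Prime := ⟨CharP.char_is_prime F p⟩
  have hA := AmbT.of_amb (WittU.amb_Sp (m := 3) (F := F)) p
  have hp0 : (SpIdent.adm (1 : F) : (SpIdent.frame 3 F).Adm).c ≠ 0 := one_ne_zero
  have h3 := pow_le_index (KInstSp.model 3 F) hA hp0 (by omega) (ne_top_of hr hk hidx) (not_dvd_of hr hrp hidx)
    (c := 2) (by rw [Nat.card_eq_fintype_card, hF]) (by rw [card_adm_Sp, Nat.card_eq_fintype_card, hF]) PC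
    (by unfold Ok; decide) (by decide) (by decide)
  have hcard : Nat.card (PSp 3 F) = 1451520 := by
    have h1 := card_psp hF (m := 3) (by norm_num)
    norm_num [Finset.prod_range_succ] at h1
    exact h1
  have hp2 : p = 2 := by
    have h1 : p ∣ Fintype.card F := by
      rw [← CharP.cast_eq_zero_iff F p]
      exact FiniteField.cast_card_eq_zero F
    rw [hF] at h1
    exact (Nat.prime_dvd_prime_iff_eq Fact.out Nat.prime_two).1 h1
  subst hp2
  have hd : r ^ k ∣ 1451520 := by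
    rw [← hcard, ← hidx]
    exact Subgroup.index_dvd_card L
  rw [hidx] at h3
  obtain ⟨R, hR, hC⟩ := Cfsg.Agent.H732.SelfCent.psp_selfcent 3 2 7 (by decide) F hF
  have h7 : 7 ≠ r → r ^ k % 7 ∈ [1, 2, 3, 6] := fun h => not_seven hr h (by rw [hcard]; norm_num) hR hC
    (by rw [hcard]; norm_num) hidx
  rcases prime_cases (a := 9) (b := 4) (c := 1) (d := 1) hr
    ((dvd_pow_self r (by omega)).trans (hd.trans (by norm_num))) with rfl | rfl | rfl | rfl
  · exact hrp rfl
  · have hk4 := le_of_pow_dvd (v := 4) hd (by norm_num)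
    have h8 := h7 (by norm_num)
    interval_cases k
    · norm_num at h3
    · norm_num at h3
    · norm_num at h3
    · exact absurd h8 (by decide)
  · have hk4 := le_of_pow_dvd (v := 1) hd (by norm_num)
    interval_cases k
    norm_num at h3
  · have hk4 := le_of_pow_dvd (v := 1) hd (by norm_num)
    interval_cases k
    norm_num at h3

end Cfsg.Agent.H62.PCSmall

namespace Cfsg.Agent.H62.PCPlus

open Module Cfsg.Agent.H689 Cfsg.Agent.H62.PCGeo QuadraticMap
open CoxeterSystem Cfsg.Agent.ChevalleyStructure.CoxeterGeom Cfsg.Agent.Tits.Roots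
open Cfsg.Agent.Nodes.TypeC (wt ng ng_ng ng_fst wt_ng wt_apply wt_injective)
open Cfsg.Agent.Nodes.TypeD
open Cfsg.Agent.Nodes Cfsg.Agent.Nodes.Comb Cfsg.Agent.Nodes.Reps Cfsg.Agent.Nodes.BNOf
open Cfsg.Agent.Nodes.RGDLib Cfsg.Agent.Nodes.WittInst Cfsg.Agent.Nodes.WittRGD Cfsg.Agent.Nodes.WittRoot
open Cfsg.Agent.Nodes.StabComb Cfsg.Agent.Nodes.Bruhat Cfsg.Agent.Nodes.LeviDec
open Cfsg.Agent.KFacts.SLRow.OmegaPlus Cfsg.Agent.LieClassical.OrthForms Cfsg.Agent.LieClassical.OrthCore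
open Cfsg.Agent.TitsThree.KSideO Cfsg.Agent.TitsThree.StdData Cfsg.Agent.LieClassical.OrthSimple
  Cfsg.Agent.LieClassical.OrthFinite Cfsg.Agent.TitsThree.WBridge Cfsg.Agent.TitsThree.WittFrame
  Cfsg.Agent.TitsThree.SiegelGen
open Cfsg.Agent.H62.PCFrame Cfsg.Agent.H62.PCWitt Cfsg.Agent.H62.PCNum Cfsg.Agent.H62.PCFam
open Cfsg

variable {F : Type*} [Field F] [Fintype F] {n : ℕ}

/-- **lower bound for the index by a list of roots**, type `D` -/
theorem pow_le_index {p : ℕ} [CharP F p]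
    {L : Subgroup (Cfsg.POmega F (Cfsg.quadFormPlus (n + 2) F))} (hn : 1 ≤ n) (hL : L ≠ ⊤) (hnd : ¬ p ∣ L.index)
    {m : ℕ} (P : Fin (n + 2) → Fin m → (Fin (n + 2) × Bool) × (Fin (n + 2) × Bool))
    (h1 : ∀ i j, (P i j).1.1 ≠ (P i j).2.1)
    (h2 : ∀ i j j', wt (P i j).1 + wt (P i j).2 = wt (P i j').1 + wt (P i j').2 → j = j')
    (h3 : ∀ i j, 0 < wD i (P i j).1 + wD i (P i j).2) : Fintype.card F ^ m ≤ L.index := by
  have : Fact p.Prime := ⟨CharP.char_is_prime F p⟩
  revert L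
  rw [← coe_plusForm]
  intro L hL hnd
  have hG := good_plus (n + 2) F (by omega)
  let cs := (M n).toCoxeterSystem
  have : Finite (M n).Group := finite_W cs
  have R := rgdD_model (wplus (n + 2) F) hG (amb_plus _) (adm_plus _) (p := p) cs
  have hG1 := G1D_eq_top (wplus (n + 2) F) (toPOmega hG) (toPOmega_surjective hG) (adm_plus _) cs
  have hfin : Finite (POmega F ⇑(plusForm (n + 2) F)) := inferInstance
  obtain ⟨kk, i, hi, hV⟩ := exists_conj_PJ R hG1 hL hnd
  choose r hr1 hr2 using fun j => rt_of_ok (cs := cs) (h1 i j)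
  have hinj : Function.Injective r := by
    intro j j' e
    exact h2 i j j' ((hr2 j).symm.trans ((congrArg ee e).trans (hr2 j')))
  have h4 := prod_le_card_VJ R (J := {i}ᶜ) r hinj fun j => mem_NotJ_of' (hr1 j) (hr2 j) (h3 i j)
  have h5 : ∏ j, Nat.card (XD (wplus (n + 2) F) (toPOmega hG) (r j)) = Fintype.card F ^ m := by
    rw [Finset.prod_congr rfl (g := fun _ => Fintype.card F) fun j _ => ?_, Finset.prod_const, Finset.card_univ,
      Fintype.card_fin]
    rw [card_XD (wplus (n + 2) F) hG cs (hr1 j), Nat.card_eq_fintype_card]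
  rw [h5] at h4
  exact h4.trans hV

/-- the roots of `D_4` -/
def PD : Fin 4 → Fin 6 → (Fin 4 × Bool) × (Fin 4 × Bool)
  | 0 => ![((0, true), (1, true)), ((0, true), (1, false)), ((0, true), (2, true)), ((0, true), (2, false)),
      ((0, true), (3, true)), ((0, true), (3, false))]
  | 1 => ![((0, true), (1, true)), ((0, true), (2, true)), ((0, true), (2, false)), ((0, true), (3, true)),
      ((0, true), (3, false)), ((1, true), (2, true))]
  | 2 => ![((0, true), (1, true)), ((0, true), (2, true)), ((1, true), (2, true)), ((0, true), (3, false)),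
      ((1, true), (3, false)), ((2, true), (3, false))]
  | _ => ![((0, true), (1, true)), ((0, true), (2, true)), ((1, true), (2, true)), ((0, true), (3, true)),
      ((1, true), (3, true)), ((2, true), (3, true))]

/-- **`Ω⁺_8(2)`** -/
theorem omega_eight_two {F : Type} [Field F] [Fintype F] (hF : Fintype.card F = 2) {p : ℕ} [CharP F p]
    {L : Subgroup (Cfsg.POmega F (Cfsg.quadFormPlus 4 F))} {r k : ℕ} (hr : r.Prime) (hrp : r ≠ p) (hk : 1 ≤ k)
    (hidx : L.index = r ^ k) : False := by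
  have : Fact p.Prime := ⟨CharP.char_is_prime F p⟩
  have h3 := pow_le_index (n := 2) (by norm_num) (ne_top_of hr hk hidx) (not_dvd_of hr hrp hidx) PD
    (by decide) (by decide) (by unfold wD sgn; decide)
  have hcard : Nat.card (Cfsg.POmega F (Cfsg.quadFormPlus 4 F)) = 174182400 := by
    have h1 := S0293.result hF 4 (by norm_num)
    norm_num [Finset.prod_range_succ] at h1
    exact h1
  have hp2 : p = 2 := by
    have h1 : p ∣ Fintype.card F := by
      rw [← CharP.cast_eq_zero_iff F p]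
      exact FiniteField.cast_card_eq_zero F
    rw [hF] at h1
    exact (Nat.prime_dvd_prime_iff_eq Fact.out Nat.prime_two).1 h1
  subst hp2
  have hfin : Finite (Cfsg.POmega F (Cfsg.quadFormPlus 4 F)) := Nat.finite_of_card_ne_zero (by rw [hcard]; norm_num)
  have hd : r ^ k ∣ 174182400 := by
    rw [← hcard, ← hidx]
    exact Subgroup.index_dvd_card L
  rw [hidx, hF] at h3
  obtain ⟨R, hR, hC⟩ := Cfsg.Agent.H732.SelfCent.omega8plus_selfcent hF
  have h7 : 7 ≠ r → r ^ k % 7 ∈ [1, 2, 3, 6] := fun h => PCSmall.not_seven hr h (by rw [hcard]; norm_num) hR hC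
    (by rw [hcard]; norm_num) hidx
  rcases PCSmall.prime_cases (a := 12) (b := 5) (c := 2) (d := 1) hr
    ((dvd_pow_self r (by omega)).trans (hd.trans (by norm_num))) with rfl | rfl | rfl | rfl
  · exact hrp rfl
  · have hk4 := PCSmall.le_of_pow_dvd (v := 5) hd (by norm_num)
    have h8 := h7 (by norm_num)
    interval_cases k
    · norm_num at h3
    · norm_num at h3
    · norm_num at h3
    · exact absurd h8 (by decide)
    · exact absurd h8 (by decide)
  · have hk4 := PCSmall.le_of_pow_dvd (v := 2) hd (by norm_num)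
    interval_cases k
    · norm_num at h3
    · norm_num at h3
  · have hk4 := PCSmall.le_of_pow_dvd (v := 1) hd (by norm_num)
    interval_cases k
    norm_num at h3

end Cfsg.Agent.H62.PCPlus
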