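import Mathlib
import Cfsg.Agent.H62.PCSmall
import Cfsg.Agent.H62.PCSL
import Cfsg.Agent.H408.PPMain
import Cfsg.Agent.H408.Engine
import Cfsg.Agent.H605.PSLTwoIndex
import Cfsg.Agent.S0283
import Cfsg.Agent.S0822

/-!
# Subgroups of prime power index, classical groups, other characteristics: the rows of S3608 (helper62)

`psl`, `psp`, `psu`, `pOmegaOdd`, `pOmegaPlus`, `pOmegaMinus` : the rows `Cross` of `Cfsg.Agent.H408.PPMain.CrossRows`;
the row `psu` needs the row of `PSp_4(3)` in its own characteristic (because of `PSU_4(2) ≅ PSp_4(3)`).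
-/

set_option autoImplicit false

namespace Cfsg.Agent.H62.PCCross

open Cfsg Cfsg.Agent.H408.Idx8 Cfsg.Agent.H408.PPMain

universe u

/-- linear groups -/
theorem psl : Cross.{u} fun p G _ => IsPSLChar p G := by
  rintro p r hp hpr G _ _ hs ⟨F, _, _, _, n, hn, h4, ⟨e⟩⟩
  by_cases h2 : n = 2
  · subst h2
    intro H k hk hH
    exact Cfsg.Agent.H605.PSLTwoIndex.out (h4 rfl) e H p k hp hk hH
  · refine Idx.congr e.symm ?_
    intro H k hk hH
    exact Or.inr (Or.inl ⟨n, F, _, _, hn, PCSL.main (by omega) hp hpr hk hH, ⟨MulEquiv.refl _⟩⟩)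

/-- symplectic groups -/
theorem psp : Cross.{u} fun p G _ => IsPSpChar p G := by
  rintro p r hp hpr G _ _ hs ⟨F, _, _, _, n, hn, h4, ⟨e⟩⟩
  refine Idx.congr e.symm ?_
  intro H k hk hH
  exfalso
  by_cases h6 : Fintype.card F = 2 ∧ n = 3
  · obtain ⟨h1, rfl⟩ := h6
    exact PCSmall.sp_six_two h1 hp hpr hk hH
  · exact PCFam.psp hn h6 hp hpr hk hH

/-- odd-dimensional orthogonal groups -/
theorem pOmegaOdd : Cross.{u} fun p G _ => IsPOmegaOddChar p G := by
  rintro p r hp hpr G _ _ hs ⟨F, _, _, _, n, hn, h4, ⟨e⟩⟩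
  refine Idx.congr e.symm ?_
  intro H k hk hH
  exact (PCFam.po_odd h4 hn hp hpr hk hH).elim

/-- orthogonal groups of plus type -/
theorem pOmegaPlus : Cross.{u} fun p G _ => IsPOmegaPlusChar p G := by
  rintro p r hp hpr G _ _ hs ⟨F, _, _, _, n, hn, ⟨e⟩⟩
  refine Idx.congr e.symm ?_
  intro H k hk hH
  exfalso
  by_cases h6 : Fintype.card F = 2 ∧ n = 4
  · obtain ⟨h1, rfl⟩ := h6
    exact PCPlus.omega_eight_two h1 hp hpr hk hH
  · exact PCPlus.po_plus hn h6 hp hpr hk hH

/-- orthogonal groups of minus type -/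
theorem pOmegaMinus : Cross.{u} fun p G _ => IsPOmegaMinusChar p G := by
  rintro p r hp hpr G _ _ hs ⟨F, _, _, _, n, a, b, hn, hab, ⟨e⟩⟩
  refine Idx.congr e.symm ?_
  intro H k hk hH
  exact (PCFam.po_minus a b hab hn hp hpr hk hH).elim

/-- `PSU_4(2)` -/
theorem psu_four_two (h27 : Idx (PSp 2 (ZMod 3)) 3) {F : Type} [Field F] [Fintype F] {r : ℕ} [CharP F r]
    (hF : Fintype.card F = 2 ^ 2) {p : ℕ} (hp : p.Prime) (hpr : p ≠ r) : Idx (PSU 4 F 2) p := by
  have hr : Fact r.Prime := ⟨CharP.char_is_prime F r⟩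
  have hr2 : r = 2 := by
    have h1 : r ∣ Fintype.card F := by
      rw [← CharP.cast_eq_zero_iff F r]
      exact FiniteField.cast_card_eq_zero F
    rw [hF] at h1
    exact (Nat.prime_dvd_prime_iff_eq hr.out Nat.prime_two).1 (hr.out.dvd_of_dvd_pow h1)
  subst hr2
  by_cases hp3 : p = 3
  · subst hp3
    obtain ⟨e⟩ := Cfsg.Agent.S0822.result (F := F) (K := ZMod 3) (by rw [hF]; norm_num) (by simp)
    exact h27.congr e.symm
  · intro H k hk hH
    exfalso
    have hs : IsSimpleGroup (PSU 4 F 2) := Cfsg.Agent.S0283.result hF 4 (by norm_num) (by norm_num)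
    have hcard : Nat.card (PSU 4 F 2) = 25920 := by
      have h1 := Cfsg.Agent.S0280.result hF 4 (by norm_num)
      norm_num [Finset.prod_range_succ, Nat.even_iff] at h1
      omega
    have hfin : Finite (PSU 4 F 2) := Nat.finite_of_card_ne_zero (by rw [hcard]; norm_num)
    have hd : p ^ k ∣ 25920 := by
      rw [← hcard, ← hH]
      exact Subgroup.index_dvd_card H
    rcases PCSmall.prime_cases (a := 6) (b := 4) (c := 1) (d := 0) hp
      ((dvd_pow_self p (by omega)).trans (hd.trans (by norm_num))) with rfl | rfl | rfl | rfl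
    · exact hpr rfl
    · exact hp3 rfl
    · have hk4 := PCSmall.le_of_pow_dvd (v := 1) hd (by norm_num)
      interval_cases k
      have h1 := Cfsg.Agent.H408.Engine.card_dvd_factorial (H := H) (by
        rintro rfl
        rw [Subgroup.index_top] at hH
        norm_num at hH)
      rw [hcard, hH] at h1
      have := Nat.le_of_dvd (Nat.factorial_pos _) h1
      norm_num [Nat.factorial] at this
    · have hk4 := PCSmall.le_of_pow_dvd (v := 0) hd (by norm_num)
      omega

/-- unitary groups -/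
theorem psu (h27 : Idx (PSp 2 (ZMod 3)) 3) : Cross.{u} fun p G _ => IsPSUChar p G := by
  rintro p r hp hpr G _ _ hs ⟨F, _, _, _, n, q, hF, hn, h32, ⟨e⟩⟩
  refine Idx.congr e.symm ?_
  by_cases h6 : n = 4 ∧ q = 2
  · obtain ⟨rfl, rfl⟩ := h6
    exact psu_four_two h27 hF hp hpr
  · intro H k hk hH
    exact (PCFam.psu hF hn h6 h32 hp hpr hk hH).elim

end Cfsg.Agent.H62.PCCross
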