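import Mathlib
import Cfsg.Agent.H248.RankOneFam
import Cfsg.Agent.S1068
import Cfsg.Agent.S1069
import Cfsg.Agent.S1163

/-!
# No subgroups of prime power index prime to the characteristic: `Sz(q)`, `²G₂(q)` (helper62)
-/

set_option autoImplicit false

namespace Cfsg.Agent.H62.PPRank1

open Subgroup Cfsg Cfsg.Agent.H248.Ovg

/-- proper overgroups of `U` in a group of rank one have index at least `|U|` -/
theorem card_le_index {G : Type*} [Group G] [Finite G] [IsSimpleGroup G]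
    {U B : Subgroup G} {n : G} (hU1 : U ≠ ⊥) (hBU : B ≤ normalizer (U : Set G))
    (hTI : ∀ u ∈ U, n⁻¹ * u * n ∈ B → u = 1)
    (hbr : ∀ g, g ∈ B ∨ ∃ u ∈ U, ∃ b ∈ B, g = u * n * b) {M : Subgroup G} (hM : U ≤ M) (hMt : M ≠ ⊤) :
    Nat.card U ≤ M.index := by
  have hMB : M ≤ B := by
    intro m hm
    by_contra hmB
    obtain h1 | ⟨u, hu, b, hb, rfl⟩ := hbr m
    · exact absurd h1 hmB
    have hnU : ∀ x ∈ U, n * x * n⁻¹ ∈ M := by
      intro x hx
      have h2 : b⁻¹ * x * b ∈ U := by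
        have := (mem_normalizer_iff.1 (hBU (inv_mem hb)) x).1 hx
        rwa [inv_inv] at this
      have h3 := mul_mem (mul_mem hm (hM h2)) (inv_mem hm)
      have h4 := mul_mem (mul_mem (inv_mem (hM hu)) h3) (hM hu)
      have e : u⁻¹ * (u * n * b * (b⁻¹ * x * b) * (u * n * b)⁻¹) * u = n * x * n⁻¹ := by group
      rwa [e] at h4
    have hall : ∀ g : G, ∀ x ∈ U, g * x * g⁻¹ ∈ M := by
      intro g x hx
      obtain h1 | ⟨v, hv, c, hc, rfl⟩ := hbr g
      · exact hM ((mem_normalizer_iff.1 (hBU h1) x).1 hx)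
      · have h2 := hnU _ ((mem_normalizer_iff.1 (hBU hc) x).1 hx)
        have h3 := mul_mem (mul_mem (hM hv) h2) (inv_mem (hM hv))
        have e : v * (n * (c * x * c⁻¹) * n⁻¹) * v⁻¹ = v * n * c * x * (v * n * c)⁻¹ := by group
        rwa [e] at h3
    have h5 : normalClosure (U : Set G) ≤ M := by
      rw [normalClosure, closure_le]
      rintro y hy
      rw [Group.mem_conjugatesOfSet_iff] at hy
      obtain ⟨x, hx, hxy⟩ := hy
      obtain ⟨g, rfl⟩ := isConj_iff.1 hxy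
      exact hall g x hx
    have h6 : normalClosure (U : Set G) = ⊤ := by
      rcases IsSimpleGroup.eq_bot_or_eq_top_of_normal (normalClosure (U : Set G)) normalClosure_normal with h7 | h7
      · exfalso
        apply hU1
        rw [eq_bot_iff, ← h7]
        exact subset_normalClosure
      · exact h7
    rw [h6] at h5
    exact hMt (top_le_iff.1 h5)
  have h1 : Nat.card U ≤ B.index := by
    refine Nat.card_le_card_of_injective (fun u : U => (QuotientGroup.mk ((u : G) * n) : G ⧸ B)) ?_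
    intro u v e
    have e1 : ((u : G) * n)⁻¹ * ((v : G) * n) ∈ B := QuotientGroup.eq.1 e
    have e2 : n⁻¹ * ((u : G)⁻¹ * v) * n ∈ B := by
      have e3 : ((u : G) * n)⁻¹ * ((v : G) * n) = n⁻¹ * ((u : G)⁻¹ * v) * n := by group
      rwa [e3] at e1
    have e4 := hTI _ (mul_mem (inv_mem u.2) v.2) e2
    exact Subtype.ext (inv_mul_eq_one.1 e4)
  refine h1.trans (Nat.le_of_dvd ?_ (Subgroup.index_dvd_of_le hMB))
  exact Nat.pos_of_ne_zero Subgroup.index_ne_zero_of_finite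

/-- the same for subgroups of index prime to `r` -/
theorem card_le_index' {G : Type*} [Group G] [Finite G] [IsSimpleGroup G] {r : ℕ} [Fact r.Prime]
    {U B : Subgroup G} {n : G} (hU : IsPGroup r U) (hU1 : U ≠ ⊥) (hBU : B ≤ normalizer (U : Set G))
    (hTI : ∀ u ∈ U, n⁻¹ * u * n ∈ B → u = 1)
    (hbr : ∀ g, g ∈ B ∨ ∃ u ∈ U, ∃ b ∈ B, g = u * n * b) {H : Subgroup G} (hidx : ¬ r ∣ H.index) (hH : H ≠ ⊤) :
    Nat.card U ≤ H.index := by
  obtain ⟨g, hg⟩ := exists_conj_le (p := r) hU hidx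
  set M : Subgroup G := H.map (MulAut.conj g⁻¹).toMonoidHom with hMdef
  have hMi : M.index = H.index := Subgroup.index_map_equiv H (MulAut.conj g⁻¹)
  have hUM : U ≤ M := by
    intro u hu
    refine ⟨g * u * g⁻¹, hg ⟨u, hu, rfl⟩, ?_⟩
    change g⁻¹ * (g * u * g⁻¹) * g⁻¹⁻¹ = u
    group
  have hMt : M ≠ ⊤ := by
    intro h1
    rw [← Subgroup.index_eq_one, hMi, Subgroup.index_eq_one] at h1
    exact hH h1
  rw [← hMi]
  exact card_le_index hU1 hBU hTI hbr hUM hMt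

/-- the common reduction -/
theorem prep {G Y : Type*} [Group G] [Finite G] [Group Y] (e : G ≃* Y) {H : Subgroup G} {p r k : ℕ}
    (hpp : p.Prime) (hr : r.Prime) (hpr : p ≠ r) (hk : 1 ≤ k) (hH : H.index = p ^ k) :
    ∃ H' : Subgroup Y, H'.index = p ^ k ∧ H' ≠ ⊤ ∧ ¬ r ∣ H'.index := by
  refine ⟨H.map e.toMonoidHom, ?_, ?_, ?_⟩
  · rw [← hH]; exact Subgroup.index_map_equiv H e
  · intro h1
    have hi : (H.map e.toMonoidHom).index = p ^ k := by rw [← hH]; exact Subgroup.index_map_equiv H e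
    rw [h1, Subgroup.index_top] at hi
    have := Nat.one_lt_pow (n := k) (by omega) hpp.one_lt
    omega
  · have hi : (H.map e.toMonoidHom).index = p ^ k := by rw [← hH]; exact Subgroup.index_map_equiv H e
    rw [hi]
    intro h1
    exact hpr ((Nat.prime_dvd_prime_iff_eq hr hpp).1 (hr.dvd_of_dvd_pow h1)).symm

/-! ### `Sz(q)` -/

theorem setup_index {G Ω : Type*} [Group G] [Finite G] [IsSimpleGroup G] [MulAction G Ω] {a : Ω} {t : G}
    {Q : Subgroup G} (hS : IsRankOneSetup G Ω a t Q) (hQ : IsPGroup 2 Q) {H : Subgroup G} (hidx : ¬ 2 ∣ H.index)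
    (hH : H ≠ ⊤) : Nat.card Q ≤ H.index := by
  have : Fact (Nat.Prime 2) := ⟨Nat.prime_two⟩
  have hQ1 : Q ≠ ⊥ := by
    rintro rfl
    have := hS.even_card
    rw [Subgroup.card_bot] at this
    exact absurd this (by decide)
  refine card_le_index' (r := 2) (U := Q) (B := MulAction.stabilizer G a) (n := t) hQ hQ1
    (LieRecognition.RankOneBasic.stabilizer_le_normalizer hS) ?_ ?_ hidx hH
  · intro x hx h
    refine LieRecognition.RankOneBasic.eq_one_of_smul_t_smul hS hx ?_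
    rw [MulAction.mem_stabilizer_iff, mul_smul, mul_smul, inv_smul_eq_iff] at h
    exact h
  · intro g
    by_cases hg : g ∈ MulAction.stabilizer G a
    · exact Or.inl hg
    right
    obtain ⟨u, hu, he⟩ := LieRecognition.RankOneBasic.exists_smul_t_smul hS
      (c := g • a) (fun h => hg (MulAction.mem_stabilizer_iff.2 h))
    refine ⟨u, hu, (u * t)⁻¹ * g, ?_, by group⟩
    rw [MulAction.mem_stabilizer_iff, mul_smul, ← he, ← mul_smul u t a, inv_smul_smul]

theorem sz_num {q s m p k : ℕ} (hss : s * s = 2 * q) (hs : s = 2 ^ (m + 1)) (hs4 : 4 ≤ s) (hq : ∃ j, q ^ 2 = 2 ^ j)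
    (hpp : p.Prime) (hp2 : p ≠ 2) (h2 : q ^ 2 ≤ p ^ k) (h3 : p ^ k ∣ q ^ 2 * (q - 1) * (q ^ 2 + 1)) : False := by
  have hpq : ∀ j : ℕ, Nat.Coprime (p ^ k) (2 ^ j) := fun j =>
    Nat.Coprime.pow _ _ ((Nat.coprime_primes hpp Nat.prime_two).2 hp2)
  have h4 : p ^ k ∣ (q - 1) * (q ^ 2 + 1) := by
    rw [mul_assoc] at h3
    refine Nat.Coprime.dvd_of_dvd_mul_left ?_ h3
    obtain ⟨j, hj⟩ := hq
    rw [hj]; exact hpq _
  have hq1 : 8 ≤ q := by nlinarith
  have hqq : q * 8 ≤ q ^ 2 := by nlinarith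
  -- `q² + 1 = (q + s + 1) (q + 1 - s)`
  have hsq : s ≤ q := by nlinarith
  obtain ⟨d, hd⟩ := Nat.exists_eq_add_of_le hsq
  have h5 : q ^ 2 + 1 = (q + s + 1) * (d + 1) := by
    rw [hd] at hss ⊢
    nlinarith
  have hodd : ∀ x, p ∣ x → ∀ y, p ∣ y → ∀ z w : ℕ, x * z + 2 * w = y → p ∣ w := by
    intro x hx y hy z w h6
    have h7 : p ∣ 2 * w := (Nat.dvd_add_right (hx.mul_right z)).1 (h6 ▸ hy)
    rcases (hpp.dvd_mul).1 h7 with h8 | h8
    · exact absurd ((Nat.prime_dvd_prime_iff_eq hpp Nat.prime_two).1 h8) hp2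
    · exact h8
  by_cases hp1 : p ∣ q - 1
  · -- `p ∤ q² + 1`
    have h6 : ¬ p ∣ q ^ 2 + 1 := by
      intro h7
      have h8 := hodd (q - 1) hp1 (q ^ 2 + 1) h7 (q + 1) 1 (by
        obtain ⟨a, ha⟩ : ∃ a, q = a + 1 := ⟨q - 1, by omega⟩
        rw [ha, Nat.add_sub_cancel]; ring)
      exact hpp.one_lt.ne' (Nat.dvd_one.1 h8)
    have h7 : p ^ k ∣ q - 1 :=
      Nat.Coprime.dvd_of_dvd_mul_right (Nat.Coprime.pow_left _ ((Nat.Prime.coprime_iff_not_dvd hpp).2 h6)) h4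
    have h8 := Nat.le_of_dvd (by omega) h7
    omega
  · have h6 : p ^ k ∣ (q + s + 1) * (d + 1) := by
      rw [← h5]
      exact Nat.Coprime.dvd_of_dvd_mul_left (Nat.Coprime.pow_left _ ((Nat.Prime.coprime_iff_not_dvd hpp).2 hp1)) h4
    by_cases hp3 : p ∣ d + 1
    · have h7 : ¬ p ∣ q + s + 1 := by
        intro h8
        have h9 := hodd (d + 1) hp3 (q + s + 1) h8 1 s (by omega)
        rw [hs] at h9
        have h11 := hpp.dvd_of_dvd_pow h9
        exact hp2 ((Nat.prime_dvd_prime_iff_eq hpp Nat.prime_two).1 h11)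
      have h8 : p ^ k ∣ d + 1 :=
        Nat.Coprime.dvd_of_dvd_mul_left (Nat.Coprime.pow_left _ ((Nat.Prime.coprime_iff_not_dvd hpp).2 h7)) h6
      have h9 := Nat.le_of_dvd (by omega) h8
      omega
    · have h8 : p ^ k ∣ q + s + 1 :=
        Nat.Coprime.dvd_of_dvd_mul_right (Nat.Coprime.pow_left _ ((Nat.Prime.coprime_iff_not_dvd hpp).2 hp3)) h6
      have h9 := Nat.le_of_dvd (by omega) h8
      omega

theorem sz {G : Type*} [Group G] [Finite G] (h : Lie.IsoSuzuki G) {H : Subgroup G} {p k : ℕ} (hpp : p.Prime)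
    (hp2 : p ≠ 2) (hk : 1 ≤ k) (hH : H.index = p ^ k) : False := by
  obtain ⟨F, iF, iFin, m, hm, hF, ⟨e⟩⟩ := h
  have : Fact (Nat.Prime 2) := ⟨Nat.prime_two⟩
  have hfin : Finite ↥(Lie.Sz F (2 ^ (m + 1))) := Finite.of_equiv _ e.toEquiv
  have hs : IsSimpleGroup ↥(Cfsg.Lie.Sz F (2 ^ (m + 1))) := Cfsg.Agent.S1162.result hm hF
  have K := Cfsg.Agent.LieRecognition.SzMatrix.good hF
  have hcU : Nat.card K.unip = 2 ^ ((2 * m + 1) * 2) := by
    rw [K.card_unip, Nat.card_eq_fintype_card, hF, ← pow_mul]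
  have hU2 : IsPGroup 2 K.unip := IsPGroup.of_card hcU
  obtain ⟨H', hi, hne, hidx⟩ := prep e hpp Nat.prime_two hp2 hk hH
  have h1 := setup_index (Cfsg.Agent.SuzukiRankOne.SzModel.setup K) hU2 hidx hne
  have hcard := (Cfsg.Agent.S1163.result hm hF).1
  have h3 := Subgroup.index_dvd_card H'
  rw [hcard, hi] at h3
  rw [hcU, pow_mul, hi] at h1
  refine sz_num (q := 2 ^ (2 * m + 1)) (s := 2 ^ (m + 1)) (m := m) ?_ rfl ?_ ⟨(2 * m + 1) * 2, by rw [← pow_mul]⟩ hpp hp2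
    h1 h3
  · rw [← pow_add, ← pow_succ']; congr 1; omega
  · calc 4 = 2 ^ 2 := rfl
      _ ≤ _ := Nat.pow_le_pow_right (by norm_num) (by omega)

/-! ### `²G₂(q)` -/

open Cfsg.Agent.LieRecognition Cfsg.Agent.LieRecognition.ReeAbs Cfsg.Agent.LieRecognition.ReeSylowThree
  Cfsg.Agent.LieRecognition.ReeSplit in
theorem ree_idx {K G : Type*} [Field K] [Fintype K] [Group G] [Finite G] [IsSimpleGroup G] {m : ℕ}
    {U : K → K → K → G} {h : Kˣ → G} {n : G} (D : Data m U h n) (hK : Fintype.card K = 3 ^ (2 * m + 1))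
    {H : Subgroup G} (hidx : ¬ 3 ∣ H.index) (hH : H ≠ ⊤) : Fintype.card K ^ 3 ≤ H.index := by
  have : Fact (Nat.Prime 3) := ⟨Nat.prime_three⟩
  have hcardU : Nat.card (uSub D) = 3 ^ ((2 * m + 1) * 3) := by
    rw [card_uSub, hK, ← pow_mul]
  have hU : IsPGroup 3 (uSub D) := IsPGroup.of_card hcardU
  rw [← card_uSub D]
  refine card_le_index' (r := 3) (U := uSub D) (B := bSub D) (n := n) hU ?_ ?_ ?_ ?_ hidx hH
  · intro h1
    rw [h1, Subgroup.card_bot] at hcardU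
    have : 1 < 3 ^ ((2 * m + 1) * 3) := Nat.one_lt_pow (by omega) (by norm_num)
    omega
  · intro g hg
    rw [mem_normalizer_iff]
    intro x
    refine ⟨fun hx => conj_mem_uSub D hg hx, fun hx => ?_⟩
    have h1 := inv_conj_mem_uSub D hg hx
    have e : g⁻¹ * (g * x * g⁻¹) * g = x := by group
    rwa [e] at h1
  · rintro _ ⟨t0, u0, v0, rfl⟩ ⟨t, u, v, a, he⟩
    have h1 : U t0 u0 v0 * h 1 * n * U 0 0 0 = n * (U t u v * h a) := by
      rw [D.h_one, mul_one, D.U_zero, mul_one, ← he]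
      group
    have h2 : n * (U t u v * h a) = U 0 0 0 * h 1 * n * (U t u v * h a) := by
      rw [D.h_one, D.U_zero, mul_one, one_mul]
    rw [h2] at h1
    have h3 : U t u v * h a = h a * (h a⁻¹ * U t u v * h a) := by
      rw [← mul_assoc, ← mul_assoc, ← D.h_mul, mul_inv_cancel, D.h_one, one_mul]
    obtain ⟨t', u', v', h4⟩ : ∃ t' u' v', h a⁻¹ * U t u v * h a = U t' u' v' := by
      have := h_conj_mem D a⁻¹ (x := U t u v) ⟨t, u, v, rfl⟩
      rw [D.h_inv, inv_inv] at this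
      rw [D.h_inv]
      exact this
    rw [h3, h4, ← mul_assoc, mul_assoc (U 0 0 0 * h 1) n (h a), D.n_h, ← mul_assoc, mul_assoc (U 0 0 0) (h 1) _,
      ← D.h_mul] at h1
    have h5 := D.inj₂ _ _ _ _ _ _ _ _ _ _ _ _ _ _ h1
    rw [h5.1, h5.2.1, h5.2.2.1]
    exact D.U_zero
  · intro g
    rcases D.bruhat g with hb | ⟨t, u, v, a, t', u', v', rfl⟩
    · exact Or.inl hb
    right
    refine ⟨U t u v, ⟨t, u, v, rfl⟩, h a⁻¹ * U t' u' v', mul_mem (h_mem_bSub D _) (uSub_le_bSub D ⟨_, _, _, rfl⟩), ?_⟩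
    rw [← mul_assoc, mul_assoc (U t u v) n, D.n_h, inv_inv, ← mul_assoc]

theorem ree {G : Type*} [Group G] [Finite G] (h : Lie.IsoRee G) {H : Subgroup G} {p k : ℕ} (hpp : p.Prime)
    (hp3 : p ≠ 3) (hk : 1 ≤ k) (hH : H.index = p ^ k) : False := by
  obtain ⟨K, iK, iFin, m, hm, hK, ⟨e⟩⟩ := h
  have : Fact (Nat.Prime 3) := ⟨Nat.prime_three⟩
  have hfin : Finite ↥(Lie.twistedG2 K (3 ^ m)) := Finite.of_equiv _ e.toEquiv
  have hs : IsSimpleGroup ↥(Lie.twistedG2 K (3 ^ m)) := (Cfsg.Agent.S1073.result hm hK).1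
  obtain ⟨U, h, n, D⟩ := ChevalleyStructure.Ree.Data.exists_data (K := K) hK
  obtain ⟨H', hi, hne, hidx⟩ := prep e hpp Nat.prime_three hp3 hk hH
  have h1 := ree_idx D hK hidx hne
  have hcard := Cfsg.Agent.S1069.result (K := K) hK
  rw [hK, hi] at h1
  set q := 3 ^ (2 * m + 1) with hq
  have hq3 : 27 ≤ q := by
    rw [hq]
    calc 27 = 3 ^ 3 := rfl
      _ ≤ _ := Nat.pow_le_pow_right (by norm_num) (by omega)
  have h3 : p ^ k ∣ q ^ 3 * (q - 1) * (q ^ 3 + 1) := by rw [← hcard, ← hi]; exact Subgroup.index_dvd_card H'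
  have h4 : p ^ k ∣ (q - 1) * (q ^ 3 + 1) := by
    rw [mul_assoc] at h3
    refine Nat.Coprime.dvd_of_dvd_mul_left ?_ h3
    rw [hq]
    exact Nat.Coprime.pow _ _ (Nat.Coprime.pow_right _ ((Nat.coprime_primes hpp Nat.prime_three).2 hp3))
  obtain ⟨a, ha⟩ : ∃ a, q = a + 1 := ⟨q - 1, by omega⟩
  -- `q³ + 1 = (q + 1) (q² - q + 1)`
  have e3 : q ^ 3 + 1 = (q + 1) * (q * a + 1) := by rw [ha]; ring
  have e4 : (q - 1) * (q ^ 3 + 1) = (a * (q + 1)) * (q * a + 1) := by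
    rw [e3, ha, Nat.add_sub_cancel]; ring
  rw [e4] at h4
  by_cases h5 : p ∣ q * a + 1
  · -- then `p ∤ a (q + 1)`
    have h6 : ¬ p ∣ a * (q + 1) := by
      intro h7
      rcases (hpp.dvd_mul).1 h7 with h8 | h8
      · have h9 : p ∣ 1 := (Nat.dvd_add_right (h8.mul_left q)).1 h5
        exact hpp.one_lt.ne' (Nat.dvd_one.1 h9)
      · -- `q a + 1 = (q + 1) (q - 2) + 3`
        obtain ⟨b, hb⟩ : ∃ b, a = b + 1 := ⟨a - 1, by omega⟩
        have h9 : q * a + 1 = (q + 1) * b + 3 := by rw [ha, hb]; ring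
        rw [h9] at h5
        have h10 : p ∣ 3 := (Nat.dvd_add_right (h8.mul_right b)).1 h5
        exact hp3 ((Nat.prime_dvd_prime_iff_eq hpp Nat.prime_three).1 h10)
    have h7 : p ^ k ∣ q * a + 1 :=
      Nat.Coprime.dvd_of_dvd_mul_left (Nat.Coprime.pow_left _ ((Nat.Prime.coprime_iff_not_dvd hpp).2 h6)) h4
    have h8 := Nat.le_of_dvd (by omega) h7
    have h9 : q * a + 1 < q ^ 3 := by
      have : a < q := by omega
      nlinarith
    omega
  · have h7 : p ^ k ∣ a * (q + 1) :=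
      Nat.Coprime.dvd_of_dvd_mul_right (Nat.Coprime.pow_left _ ((Nat.Prime.coprime_iff_not_dvd hpp).2 h5)) h4
    have h8 := Nat.le_of_dvd (Nat.mul_pos (by omega) (by omega)) h7
    have h9 : a * (q + 1) < q ^ 3 := by
      have : a < q := by omega
      nlinarith
    omega

end Cfsg.Agent.H62.PPRank1
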