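import Mathlib
import Cfsg.Prelude.Def_LieTypeChar
import Cfsg.Agent.H62.PPChev
import Cfsg.Agent.H62.PPTwist
import Cfsg.Agent.H62.PPTwF4
import Cfsg.Agent.H62.PPRank1

/-!
# Exceptional groups of Lie type: no proper subgroups of prime power index prime to the characteristic (helper62)

`cross` : `G` exceptional of Lie type of characteristic `r`, `|G : H| = p ^ k`, `k ≥ 1`, `p` prime: `p = r`.
-/

set_option autoImplicit false

namespace Cfsg.Agent.H62.PPCross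

open Cfsg

variable {G : Type*} [Group G] [Finite G]

theorem exceptional {r : ℕ} (h : IsExceptionalChevChar r G) {H : Subgroup G} {p k : ℕ} (hp : p.Prime)
    (hk : 1 ≤ k) (hH : H.index = p ^ k) : p = r := by
  by_contra hpr
  obtain ⟨F, iF, iFin, iC, h⟩ := h
  rcases h with ⟨-, ⟨e⟩⟩ | ⟨⟨e⟩⟩ | ⟨⟨e⟩⟩ | ⟨⟨e⟩⟩ | ⟨⟨e⟩⟩
  · exact PPChev.g2 e hp hpr hk hH
  · exact PPChev.f4 e hp hpr hk hH
  · exact PPChev.e6 e hp hpr hk hH
  · exact PPChev.e7 e hp hpr hk hH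
  · exact PPChev.e8 e hp hpr hk hH

theorem twisted {r : ℕ} (h : IsTwistedE6D4Char r G) {H : Subgroup G} {p k : ℕ} (hp : p.Prime)
    (hk : 1 ≤ k) (hH : H.index = p ^ k) : p = r := by
  by_contra hpr
  obtain ⟨K, iF, iFin, iC, q, hq, ⟨hK, ⟨e⟩⟩ | ⟨hK, ⟨e⟩⟩⟩ := h
  · exact PPTwist.E6.result hq hK e hp hpr hk hH
  · exact PPTwist.D4.result hq hK e hp hpr hk hH

theorem suzuki (h : Lie.IsoSuzuki G) {H : Subgroup G} {p k : ℕ} (hp : p.Prime) (hk : 1 ≤ k)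
    (hH : H.index = p ^ k) : p = 2 := by
  by_contra hpr
  exact PPRank1.sz h hp hpr hk hH

theorem ree (h : Lie.IsoRee G) {H : Subgroup G} {p k : ℕ} (hp : p.Prime) (hk : 1 ≤ k)
    (hH : H.index = p ^ k) : p = 3 := by
  by_contra hpr
  exact PPRank1.ree h hp hpr hk hH

theorem twF4 (h : Lie.Iso2F4 G) {H : Subgroup G} {p k : ℕ} (hp : p.Prime) (hk : 1 ≤ k)
    (hH : H.index = p ^ k) : p = 2 := by
  by_contra hpr
  exact PPTwF4.result h hp hpr hk hH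

/-- **all exceptional families** -/
theorem cross {r : ℕ} (h : IsExceptionalChevChar r G ∨ IsTwistedE6D4Char r G ∨ (r = 2 ∧ Lie.IsoSuzuki G) ∨
    (r = 2 ∧ Lie.Iso2F4 G) ∨ (r = 3 ∧ Lie.IsoRee G)) {H : Subgroup G} {p k : ℕ} (hp : p.Prime) (hpr : p ≠ r)
    (hk : 1 ≤ k) (hH : H.index = p ^ k) : False := by
  rcases h with h | h | ⟨rfl, h⟩ | ⟨rfl, h⟩ | ⟨rfl, h⟩
  · exact hpr (exceptional h hp hk hH)
  · exact hpr (twisted h hp hk hH)
  · exact hpr (suzuki h hp hk hH)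
  · exact hpr (twF4 h hp hk hH)
  · exact hpr (ree h hp hk hH)

end Cfsg.Agent.H62.PPCross
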