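import Mathlib
import Cfsg.Agent.H62.PCCross
import Cfsg.Agent.H62.PPCross
import Cfsg.Agent.H969.SpIdx

/-!
# S3608: the rows for the other characteristics (helper62)
-/

set_option autoImplicit false

namespace Cfsg.Agent.H62.PCRows

open Cfsg Cfsg.Agent.H408.Idx8 Cfsg.Agent.H408.PPMain

universe u

/-- **All groups of Lie type, other characteristics.** -/
theorem crossRows : CrossRows.{u} where
  psl := PCCross.psl
  psp := PCCross.psp
  psu := PCCross.psu (Cfsg.Agent.H969.SpIdx.idx_four_three (F := ZMod 3) (by simp))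
  pOmegaOdd := PCCross.pOmegaOdd
  pOmegaPlus := PCCross.pOmegaPlus
  pOmegaMinus := PCCross.pOmegaMinus
  exceptional := by
    intro p r hp hpr G _ _ hs h H k hk hH
    exact (Cfsg.Agent.H62.PPCross.cross h hp hpr hk hH).elim

end Cfsg.Agent.H62.PCRows
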