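import Mathlib
import Cfsg.Agent.H161.G2Emb

/-!
# The octonions over a quadratic algebra and the action of `SU₃` (helper62, task 2449 for S5770)

The construction of `Cfsg.Agent.H181.OctHerm` for the algebra `F[t]`, `t² = t - n`, in characteristic two (no root of
unity of order three is used): `AutO F` contains the special unitary group of degree three over `F[t]`.
-/

set_option autoImplicit false

namespace Cfsg.Agent.H62.GTwoSU

open Cfsg.Lie QuadraticAlgebra
open Cfsg.Agent.H161.Oct (V AutO mul0 mul1 mul2 mul3 mul4 mul5 mul6 mul7 ext8 mem_AutO)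

/-- the algebra `F[t]`, `t² = - n + t` -/
abbrev LL (F : Type*) [Field F] (n : F) : Type _ := QuadraticAlgebra F (-n) 1

/-- the underlying space of the octonions -/
abbrev AA (F : Type*) [Field F] (n : F) : Type _ := LL F n × LL F n × LL F n × LL F n

variable {F : Type*} [Field F] {n : F}

/-- the product for the hermitian form `diag (-1, -1, 1)` -/
def hm0 (x y : AA F n) : AA F n :=
  (x.1 * y.1 + x.2.1 * star y.2.1 + x.2.2.1 * star y.2.2.1 - x.2.2.2 * star y.2.2.2,
   x.1 * y.2.1 + star y.1 * x.2.1 - star (x.2.2.1 * y.2.2.2 - x.2.2.2 * y.2.2.1),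
   x.1 * y.2.2.1 + star y.1 * x.2.2.1 - star (x.2.2.2 * y.2.1 - x.2.1 * y.2.2.2),
   x.1 * y.2.2.2 + star y.1 * x.2.2.2 + star (x.2.1 * y.2.2.1 - x.2.2.1 * y.2.1))

/-- the map to Zorn's algebra -/
def ps (x : AA F n) : V F :=
  ![x.1.re + x.1.im + x.2.1.re, x.1.im - x.2.1.im, x.2.2.1.re + x.2.2.1.im + x.2.2.2.re + x.2.2.2.im,
    n * x.2.2.1.im + x.2.2.2.re + (1 - n) * x.2.2.2.im, -n * x.1.im - x.2.1.re - n * x.2.1.im,
    x.2.2.1.re - x.2.2.2.re - x.2.2.2.im, x.2.2.1.im + x.2.2.2.im, x.1.re - x.2.1.re]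

theorem ps_mul (x y : AA F n) : ps (hm0 x y) = zornMul (ps x) (ps y) := by
  obtain ⟨⟨a0, a1⟩, ⟨p1, q1⟩, ⟨p2, q2⟩, ⟨p3, q3⟩⟩ := x
  obtain ⟨⟨b0, b1⟩, ⟨r1, s1⟩, ⟨r2, s2⟩, ⟨r3, s3⟩⟩ := y
  apply ext8
  · rw [mul0]; simp [ps, hm0]; ring
  · rw [mul1]; simp [ps, hm0]; ring
  · rw [mul2]; simp [ps, hm0]; ring
  · rw [mul3]; simp [ps, hm0]; ring
  · rw [mul4]; simp [ps, hm0]; ring
  · rw [mul5]; simp [ps, hm0]; ring
  · rw [mul6]; simp [ps, hm0]; ring
  · rw [mul7]; simp [ps, hm0]; ring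

/-- the inverse of `ps` in characteristic two -/
def psi (n : F) (x : V F) : AA F n :=
  let p1 := n * x 1 + x 4; let q3 := x 2 + x 5 + x 6; let p3 := x 3 + n * x 6 + q3; let a1 := x 0 + x 7
  (⟨x 7 + p1, a1⟩, ⟨p1, a1 + x 1⟩, ⟨x 5 + p3 + q3, x 6 + q3⟩, ⟨p3, q3⟩)

theorem psi_ps (h2 : (2 : F) = 0) (x : AA F n) : psi n (ps x) = x := by
  obtain ⟨⟨a0, a1⟩, ⟨p1, q1⟩, ⟨p2, q2⟩, ⟨p3, q3⟩⟩ := x
  simp only [psi, ps]
  simp only [Matrix.cons_val]
  refine Prod.ext ?_ (Prod.ext ?_ (Prod.ext ?_ ?_)) <;> simp only <;> ext <;> simp only <;> grind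

theorem ps_psi (h2 : (2 : F) = 0) (x : V F) : ps (psi n x) = x := by
  apply ext8 <;> simp only [psi, ps, Matrix.cons_val] <;> grind

/-- the isomorphism of the octonion algebras -/
def Psi (n : F) (h2 : (2 : F) = 0) : AA F n ≃ₗ[F] V F where
  toFun x := ps x
  invFun x := psi n x
  left_inv x := psi_ps h2 x
  right_inv x := ps_psi h2 x
  map_add' x y := by
    obtain ⟨⟨a0, a1⟩, ⟨p1, q1⟩, ⟨p2, q2⟩, ⟨p3, q3⟩⟩ := x
    obtain ⟨⟨b0, b1⟩, ⟨r1, s1⟩, ⟨r2, s2⟩, ⟨r3, s3⟩⟩ := y
    apply ext8 <;> simp [ps] <;> ring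
  map_smul' c x := by
    obtain ⟨⟨a0, a1⟩, ⟨p1, q1⟩, ⟨p2, q2⟩, ⟨p3, q3⟩⟩ := x
    apply ext8 <;> simp [ps] <;> ring

theorem Psi_mul (h2 : (2 : F) = 0) (x y : AA F n) :
    Psi n h2 (hm0 x y) = zornMul (Psi n h2 x) (Psi n h2 y) := ps_mul x y

/-- the automorphism group of the octonions -/
def GG (F : Type*) [Field F] (n : F) : Subgroup (AA F n ≃ₗ[F] AA F n) where
  carrier := {f | ∀ x y, f (hm0 x y) = hm0 (f x) (f y)}
  mul_mem' {f g} hf hg := by
    intro x y
    rw [LinearEquiv.mul_apply, LinearEquiv.mul_apply, LinearEquiv.mul_apply, hg, hf]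
  one_mem' := fun x y => rfl
  inv_mem' {f} hf := by
    intro x y
    apply f.injective
    have h1 : ∀ z, f (f⁻¹ z) = z := fun z => f.apply_symm_apply z
    rw [hf, h1, h1, h1]

theorem mem_GG {f : AA F n ≃ₗ[F] AA F n} : f ∈ GG F n ↔ ∀ x y, f (hm0 x y) = hm0 (f x) (f y) := Iff.rfl

/-- transport to `Cfsg.Lie.G2 F` -/
theorem exists_hom (h2 : (2 : F) = 0) : ∃ f : GG F n →* Cfsg.Lie.G2 F, Function.Injective f := by
  let f1 : GG F n →* AutO F :=
    { toFun := fun f => ⟨(Psi n h2).symm.trans ((f : AA F n ≃ₗ[F] AA F n).trans (Psi n h2)), by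
        rw [mem_AutO]
        intro x y
        obtain ⟨x, rfl⟩ := (Psi n h2).surjective x
        obtain ⟨y, rfl⟩ := (Psi n h2).surjective y
        rw [← Psi_mul]
        simp only [LinearEquiv.trans_apply, LinearEquiv.symm_apply_apply]
        rw [mem_GG.1 f.2, Psi_mul]⟩
      map_one' := by
        apply Subtype.ext
        ext1 x
        simp
      map_mul' := fun f g => by
        apply Subtype.ext
        ext1 x
        simp }
  have hf1 : Function.Injective f1 := by
    intro f g h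
    apply Subtype.ext
    ext1 x
    have h1 : (f1 f : V F ≃ₗ[F] V F) (Psi n h2 x) = (f1 g : V F ≃ₗ[F] V F) (Psi n h2 x) := by rw [h]
    have h3 : Psi n h2 ((f : AA F n ≃ₗ[F] AA F n) ((Psi n h2).symm (Psi n h2 x))) =
        Psi n h2 ((g : AA F n ≃ₗ[F] AA F n) ((Psi n h2).symm (Psi n h2 x))) := h1
    rw [LinearEquiv.symm_apply_apply] at h3
    exact (Psi n h2).injective h3
  have h : (Cfsg.Lie.G2 F).map (Cfsg.Agent.H161.Oct.toE F).toMonoidHom = AutO F := by
    ext f
    constructor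
    · rintro ⟨g, hg, rfl⟩
      exact Cfsg.Agent.H161.Oct.toE_mem.2 hg
    · intro hf
      exact ⟨(Cfsg.Agent.H161.Oct.toE F).symm f, Cfsg.Agent.H161.Oct.toE_mem.1 (by simpa using hf), by simp⟩
  let e : Cfsg.Lie.G2 F ≃* AutO F := ((Cfsg.Agent.H161.Oct.toE F).subgroupMap _).trans (MulEquiv.subgroupCongr h)
  exact ⟨e.symm.toMonoidHom.comp f1, e.symm.injective.comp hf1⟩

/-! ### The unitary group -/

/-- action of a matrix -/
def act (g : Matrix (Fin 3) (Fin 3) (LL F n)) (x : AA F n) : AA F n :=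
  (x.1, g 0 0 * x.2.1 + g 0 1 * x.2.2.1 + g 0 2 * x.2.2.2,
    g 1 0 * x.2.1 + g 1 1 * x.2.2.1 + g 1 2 * x.2.2.2,
    g 2 0 * x.2.1 + g 2 1 * x.2.2.1 + g 2 2 * x.2.2.2)

/-- the product in characteristic two -/
theorem hm0_eq (h2 : (2 : F) = 0) (x y : AA F n) : hm0 x y =
    (x.1 * y.1 + x.2.1 * star y.2.1 + x.2.2.1 * star y.2.2.1 + x.2.2.2 * star y.2.2.2,
     x.1 * y.2.1 + star y.1 * x.2.1 + star (x.2.2.1 * y.2.2.2 - x.2.2.2 * y.2.2.1),
     x.1 * y.2.2.1 + star y.1 * x.2.2.1 + star (x.2.2.2 * y.2.1 - x.2.1 * y.2.2.2),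
     x.1 * y.2.2.2 + star y.1 * x.2.2.2 + star (x.2.1 * y.2.2.1 - x.2.2.1 * y.2.1)) := by
  have h3 : (2 : LL F n) = 0 := by
    have h4 : (2 : LL F n) = algebraMap F (LL F n) 2 := (map_ofNat _ 2).symm
    rw [h4, h2, map_zero]
  have key : ∀ a b : LL F n, a - b = a + b := fun a b => by linear_combination (-b) * h3
  unfold hm0
  rw [key _ (x.2.2.2 * star y.2.2.2), key _ (star (x.2.2.1 * y.2.2.2 - x.2.2.2 * y.2.2.1)),
    key _ (star (x.2.2.2 * y.2.1 - x.2.1 * y.2.2.2))]

theorem act_hm (h2 : (2 : F) = 0) {g : Matrix (Fin 3) (Fin 3) (LL F n)} (hg : star g * g = 1) (hd : g.det = 1)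
    (x y : AA F n) : act g (hm0 x y) = hm0 (act g x) (act g y) := by
  have hadj : star g = g.adjugate := by
    have h1 : g * g.adjugate = 1 := by rw [Matrix.mul_adjugate, hd, one_smul]
    calc star g = star g * (g * g.adjugate) := by rw [h1, mul_one]
      _ = g.adjugate := by rw [← mul_assoc, hg, one_mul]
  have ha : ∀ i j, star (g j i) = g.adjugate i j := by
    intro i j
    rw [← hadj]
    rfl
  have hu : ∀ k j, star (g 0 k) * g 0 j + star (g 1 k) * g 1 j + star (g 2 k) * g 2 j =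
      if k = j then 1 else 0 := by
    intro k j
    have := congrFun (congrFun hg k) j
    rw [Matrix.mul_apply, Fin.sum_univ_three, Matrix.one_apply] at this
    exact this
  rw [Matrix.adjugate_fin_three] at ha
  have a00 := ha 0 0; have a01 := ha 0 1; have a02 := ha 0 2
  have a10 := ha 1 0; have a11 := ha 1 1; have a12 := ha 1 2
  have a20 := ha 2 0; have a21 := ha 2 1; have a22 := ha 2 2
  have u00 := hu 0 0; have u01 := hu 0 1; have u02 := hu 0 2
  have u10 := hu 1 0; have u11 := hu 1 1; have u12 := hu 1 2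
  have u20 := hu 2 0; have u21 := hu 2 1; have u22 := hu 2 2
  simp at a00 a01 a02 a10 a11 a12 a20 a21 a22
  simp at u00 u01 u02 u10 u11 u12 u20 u21 u22
  have b00 := congrArg star a00
  have b01 := congrArg star a10
  have b02 := congrArg star a20
  have b10 := congrArg star a01
  have b11 := congrArg star a11
  have b12 := congrArg star a21
  have b20 := congrArg star a02
  have b21 := congrArg star a12
  have b22 := congrArg star a22
  simp only [star_star, star_sub, star_add, star_neg, star_mul'] at b00 b01 b02 b10 b11 b12 b20 b21 b22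
  obtain ⟨a, v0, v1, v2⟩ := x
  obtain ⟨b, w0, w1, w2⟩ := y
  rw [hm0_eq h2, hm0_eq h2]
  simp only [act]
  refine Prod.ext ?_ (Prod.ext ?_ (Prod.ext ?_ ?_)) <;>
    simp only [star_add, star_sub, star_mul']
  · linear_combination -(v0 * star w0 * u00 + v0 * star w1 * u10 + v0 * star w2 * u20 + v1 * star w0 * u01 + v1 * star w1 * u11 + v1 * star w2 * u21 + v2 * star w0 * u02 + v2 * star w1 * u12 + v2 * star w2 * u22)
  · linear_combination (star v1 * star w2 - star v2 * star w1) * b00 + (star v2 * star w0 - star v0 * star w2) * b01 + (star v0 * star w1 - star v1 * star w0) * b02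
  · linear_combination (star v1 * star w2 - star v2 * star w1) * b10 + (star v2 * star w0 - star v0 * star w2) * b11 + (star v0 * star w1 - star v1 * star w0) * b12
  · linear_combination (star v1 * star w2 - star v2 * star w1) * b20 + (star v2 * star w0 - star v0 * star w2) * b21 + (star v0 * star w1 - star v1 * star w0) * b22

theorem act_mul (g h : Matrix (Fin 3) (Fin 3) (LL F n)) (x : AA F n) : act (g * h) x = act g (act h x) := by
  simp only [act, Matrix.mul_apply, Fin.sum_univ_three]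
  refine Prod.ext rfl (Prod.ext ?_ (Prod.ext ?_ ?_)) <;> simp only <;> ring

theorem act_one (x : AA F n) : act (1 : Matrix (Fin 3) (Fin 3) (LL F n)) x = x := by
  simp [act]

theorem act_add (g : Matrix (Fin 3) (Fin 3) (LL F n)) (x y : AA F n) : act g (x + y) = act g x + act g y := by
  simp only [act, Prod.fst_add, Prod.snd_add]
  refine Prod.ext rfl (Prod.ext ?_ (Prod.ext ?_ ?_)) <;> simp only [Prod.fst_add, Prod.snd_add] <;> ring

theorem act_smul (g : Matrix (Fin 3) (Fin 3) (LL F n)) (c : F) (x : AA F n) : act g (c • x) = c • act g x := by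
  simp only [act, Prod.smul_fst, Prod.smul_snd]
  refine Prod.ext rfl (Prod.ext ?_ (Prod.ext ?_ ?_)) <;>
    simp only [Prod.smul_fst, Prod.smul_snd, mul_smul_comm, smul_add]

/-- A group of matrices `g` with `star g * g = 1` and determinant one acts on the octonions. -/
theorem exists_act (h2 : (2 : F) = 0) {G : Type*} [Group G] (m : G →* Matrix (Fin 3) (Fin 3) (LL F n))
    (hm : Function.Injective m) (h1 : ∀ g, star (m g) * m g = 1) (hd : ∀ g, (m g).det = 1) :
    ∃ f : G →* Cfsg.Lie.G2 F, Function.Injective f := by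
  obtain ⟨f1, hf1⟩ := exists_hom (F := F) (n := n) h2
  let r : G →* GG F n :=
    { toFun := fun g => ⟨
        { toFun := act (m g)
          invFun := act (m g⁻¹)
          left_inv := fun x => by rw [← act_mul, ← map_mul, inv_mul_cancel, map_one, act_one]
          right_inv := fun x => by rw [← act_mul, ← map_mul, mul_inv_cancel, map_one, act_one]
          map_add' := act_add _
          map_smul' := act_smul _ }, fun x y => act_hm h2 (h1 g) (hd g) x y⟩
      map_one' := by
        apply Subtype.ext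
        ext1 x
        show act (m 1) x = x
        rw [map_one, act_one]
      map_mul' := fun g h => by
        apply Subtype.ext
        ext1 x
        show act (m (g * h)) x = act (m g) (act (m h) x)
        rw [map_mul, act_mul] }
  have hr : Function.Injective r := by
    intro g h hgh
    have h1 : ∀ x : AA F n, act (m g) x = act (m h) x := by
      intro x
      have h3 : (r g : AA F n ≃ₗ[F] AA F n) x = (r h : AA F n ≃ₗ[F] AA F n) x := by rw [hgh]
      exact h3
    apply hm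
    ext1 i j
    have e0 := h1 (0, 1, 0, 0)
    have e1 := h1 (0, 0, 1, 0)
    have e2 := h1 (0, 0, 0, 1)
    simp only [act, mul_one, mul_zero, add_zero, zero_add, Prod.mk.injEq, true_and] at e0 e1 e2
    obtain ⟨a0, a1, a2⟩ := e0
    obtain ⟨b0, b1, b2⟩ := e1
    obtain ⟨c0, c1, c2⟩ := e2
    fin_cases i <;> fin_cases j <;> assumption
  exact ⟨f1.comp r, hf1.comp hr⟩

end Cfsg.Agent.H62.GTwoSU
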