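import Mathlib
import Cfsg.Agent.H323.OI.Pieces
import Cfsg.Agent.H160.QDisc

/-!
# S3325: isomorphisms between orthogonal groups (piece Iso) (helper62, task 3233)
-/

set_option autoImplicit false
set_option linter.unusedSectionVars false
set_option linter.deprecated false

namespace Cfsg.Agent.H62.OIso

open Cfsg Subgroup Matrix QuadraticMap Module
open Cfsg.Agent.H323.OI Cfsg.Agent.LieClassical.OrthCore

/-! ### Transport along a semisimilarity -/

section transport

variable {F F' : Type} [Field F] [Field F'] {ι κ : Type} [Fintype ι] [DecidableEq ι] [Fintype κ] [DecidableEq κ]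
  {Q : (ι → F) → F} {Q' : (κ → F') → F'} {σ : F ≃+* F'} {μ : F'} {T : (ι → F) ≃+ (κ → F')}

/-- the inverse of a semisimilarity is semilinear -/
theorem symm_smul (h : IsSS Q Q' σ μ T) (a : F') (w : κ → F') : T.symm (a • w) = σ.symm a • T.symm w := by
  apply T.injective
  rw [h.2.1, AddEquiv.apply_symm_apply, AddEquiv.apply_symm_apply, RingEquiv.apply_symm_apply]

/-- `T A T⁻¹` as a linear map -/
noncomputable def tl (h : IsSS Q Q' σ μ T) (A : Matrix ι ι F) : (κ → F') →ₗ[F'] (κ → F') where
  toFun w := T (A *ᵥ T.symm w)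
  map_add' u w := by rw [map_add, Matrix.mulVec_add, map_add]
  map_smul' a w := by rw [symm_smul h, Matrix.mulVec_smul, h.2.1, RingEquiv.apply_symm_apply, RingHom.id_apply]

theorem tl_apply (h : IsSS Q Q' σ μ T) (A : Matrix ι ι F) (w : κ → F') : tl h A w = T (A *ᵥ T.symm w) := rfl

/-- the matrix of `T A T⁻¹` -/
noncomputable def tm (h : IsSS Q Q' σ μ T) (A : Matrix ι ι F) : Matrix κ κ F' := LinearMap.toMatrix' (tl h A)

theorem tm_mulVec (h : IsSS Q Q' σ μ T) (A : Matrix ι ι F) (w : κ → F') : tm h A *ᵥ w = T (A *ᵥ T.symm w) := by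
  rw [tm, LinearMap.toMatrix'_mulVec, tl_apply]

theorem ext_mulVec {A B : Matrix κ κ F'} (h : ∀ w, A *ᵥ w = B *ᵥ w) : A = B :=
  Matrix.mulVec_injective (funext h)

theorem tm_mul (h : IsSS Q Q' σ μ T) (A B : Matrix ι ι F) : tm h (A * B) = tm h A * tm h B := by
  apply ext_mulVec
  intro w
  rw [← Matrix.mulVec_mulVec, tm_mulVec, tm_mulVec, tm_mulVec, AddEquiv.symm_apply_apply, Matrix.mulVec_mulVec]

theorem tm_one (h : IsSS Q Q' σ μ T) : tm h 1 = 1 := by
  apply ext_mulVec
  intro w
  rw [tm_mulVec, Matrix.one_mulVec, Matrix.one_mulVec, AddEquiv.apply_symm_apply]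

/-- `g ↦ T g T⁻¹` -/
noncomputable def tg (h : IsSS Q Q' σ μ T) : ↥(isometryGroup F Q) →* ↥(isometryGroup F' Q') where
  toFun g := ⟨⟨tm h (mx g), tm h (mx g⁻¹), by
      rw [← tm_mul]
      have : mx g * mx g⁻¹ = 1 := by
        show ((g : GeneralLinearGroup ι F) : Matrix ι ι F) * ((g⁻¹ : ↥(isometryGroup F Q)) : GeneralLinearGroup ι F) = 1
        rw [← Units.val_mul, ← Subgroup.coe_mul, mul_inv_cancel]
        rfl
      rw [this, tm_one], by
      rw [← tm_mul]
      have : mx g⁻¹ * mx g = 1 := by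
        show (((g⁻¹ : ↥(isometryGroup F Q)) : GeneralLinearGroup ι F) : Matrix ι ι F) * (g : GeneralLinearGroup ι F) = 1
        rw [← Units.val_mul, ← Subgroup.coe_mul, inv_mul_cancel]
        rfl
      rw [this, tm_one]⟩, by
    refine LieClassical.OrthFinite.mem_isometryGroup_iff.2 fun w => ?_
    show Q' (tm h (mx g) *ᵥ w) = Q' w
    rw [tm_mulVec, h.2.2, LieClassical.OrthFinite.mem_isometryGroup_iff.1 g.2, ← h.2.2, AddEquiv.apply_symm_apply]⟩
  map_one' := by
    apply Subtype.ext
    apply Units.ext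
    exact tm_one h
  map_mul' g k := by
    apply Subtype.ext
    apply Units.ext
    exact tm_mul h _ _

theorem mx_tg (h : IsSS Q Q' σ μ T) (g : ↥(isometryGroup F Q)) : mx (tg h g) = tm h (mx g) := rfl

theorem rel_tg (h : IsSS Q Q' σ μ T) (g : ↥(isometryGroup F Q)) : Rel T g (tg h g) := by
  intro v
  rw [mx_tg, tm_mulVec, AddEquiv.symm_apply_apply]

theorem rel_inj {g k : ↥(isometryGroup F' Q')} {x : ↥(isometryGroup F Q)} (hg : Rel T x g) (hk : Rel T x k) :
    g = k := by
  apply Subtype.ext
  apply Units.ext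
  apply ext_mulVec
  intro w
  obtain ⟨v, rfl⟩ := T.surjective w
  have h1 := hg v
  have h2 := hk v
  rw [h1, h2]

/-- the inverse of a semisimilarity -/
theorem isSS_symm (h : IsSS Q Q' σ μ T) : IsSS Q' Q σ.symm (σ.symm μ)⁻¹ T.symm := by
  have h0 : σ.symm μ ≠ 0 := by
    rw [Ne, map_eq_zero_iff _ σ.symm.injective]
    exact h.1
  refine ⟨inv_ne_zero h0, symm_smul h, fun w => ?_⟩
  apply mul_left_cancel₀ h0
  rw [← mul_assoc, mul_inv_cancel₀ h0, one_mul]
  apply σ.injective
  rw [map_mul, RingEquiv.apply_symm_apply, RingEquiv.apply_symm_apply, ← h.2.2, AddEquiv.apply_symm_apply]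

/-- the isomorphism of the isometry groups -/
noncomputable def te (h : IsSS Q Q' σ μ T) : ↥(isometryGroup F Q) ≃* ↥(isometryGroup F' Q') where
  toFun := tg h
  invFun := tg (isSS_symm h)
  left_inv g := by
    apply Subtype.ext
    apply Units.ext
    apply ext_mulVec
    intro w
    show mx (tg (isSS_symm h) (tg h g)) *ᵥ w = mx g *ᵥ w
    rw [mx_tg, tm_mulVec, mx_tg, tm_mulVec, AddEquiv.symm_symm, AddEquiv.symm_apply_apply, AddEquiv.symm_apply_apply]
  right_inv g := by
    apply Subtype.ext
    apply Units.ext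
    apply ext_mulVec
    intro w
    show mx (tg h (tg (isSS_symm h) g)) *ᵥ w = mx g *ᵥ w
    rw [mx_tg, tm_mulVec, mx_tg, tm_mulVec, AddEquiv.symm_symm, AddEquiv.apply_symm_apply, AddEquiv.apply_symm_apply]
  map_mul' g k := map_mul (tg h) g k

theorem rel_te (h : IsSS Q Q' σ μ T) (g : ↥(isometryGroup F Q)) : Rel T g (te h g) := rel_tg h g

/-- the isomorphism of the commutator subgroups -/
noncomputable def commEquiv {A B : Type*} [Group A] [Group B] (f : A ≃* B) : ↥(commutator A) ≃* ↥(commutator B) :=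
  (f.subgroupMap (commutator A)).trans (MulEquiv.subgroupCongr (by
    show (commutator A).map f.toMonoidHom = commutator B
    rw [commutator_def, commutator_def, Subgroup.map_commutator, Subgroup.map_top_of_surjective _ f.surjective]))

theorem coe_commEquiv {A B : Type*} [Group A] [Group B] (f : A ≃* B) (x : ↥(commutator A)) :
    ((commEquiv f x : ↥(commutator B)) : B) = f x := rfl

/-- the isomorphism of the groups `Ω` -/
noncomputable def om (h : IsSS Q Q' σ μ T) : ↥(Omega F Q) ≃* ↥(Omega F' Q') := commEquiv (te h)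

theorem rel_om (h : IsSS Q Q' σ μ T) (g : ↥(Omega F Q)) : Rel T g.1 (om h g).1 := rel_te h g.1

end transport

section trans

variable {F F' F'' : Type} [Field F] [Field F'] [Field F''] {ι κ l : Type} [Fintype ι] [DecidableEq ι] [Fintype κ]
  [DecidableEq κ] [Fintype l] [DecidableEq l]
  {Q : (ι → F) → F} {Q' : (κ → F') → F'} {Q'' : (l → F'') → F''} {σ : F ≃+* F'} {σ' : F' ≃+* F''} {μ : F'} {μ' : F''}
  {T : (ι → F) ≃+ (κ → F')} {T' : (κ → F') ≃+ (l → F'')}

theorem isSS_trans (h : IsSS Q Q' σ μ T) (h' : IsSS Q' Q'' σ' μ' T') :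
    IsSS Q Q'' (σ.trans σ') (μ' * σ' μ) (T.trans T') := by
  refine ⟨mul_ne_zero h'.1 ?_, fun a v => ?_, fun v => ?_⟩
  · rw [Ne, map_eq_zero_iff _ σ'.injective]
    exact h.1
  · rw [AddEquiv.trans_apply, h.2.1, h'.2.1]
    rfl
  · rw [AddEquiv.trans_apply, h'.2.2, h.2.2, map_mul, mul_assoc]
    rfl

theorem rel_trans {g : ↥(isometryGroup F Q)} {g' : ↥(isometryGroup F' Q')} {g'' : ↥(isometryGroup F'' Q'')}
    (h : Rel T g g') (h' : Rel T' g' g'') : Rel (T.trans T') g g'' := by
  intro v
  rw [AddEquiv.trans_apply, AddEquiv.trans_apply, h', h]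

end trans

/-! ### Central quotients -/

/-- A surjection with central kernel of a group with simple central quotient. -/
theorem quot_iso {A B : Type*} [Group A] [Group B] (θ : A →* B) (hθ : Function.Surjective θ) (hk : θ.ker ≤ center A)
    (hs : IsSimpleGroup (A ⧸ center A)) : Nonempty (A ⧸ center A ≃* B ⧸ center B) := by
  let N : Subgroup A := (center B).comap θ
  have hZN : center A ≤ N := by
    intro z hz
    show θ z ∈ center B
    rw [mem_center_iff]
    intro b
    obtain ⟨a, rfl⟩ := hθ b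
    rw [← map_mul, mem_center_iff.1 hz a, map_mul]
  have hN : N = center A := by
    have h1 : (N.map (QuotientGroup.mk' (center A))).Normal :=
      Subgroup.Normal.map inferInstance _ (QuotientGroup.mk'_surjective _)
    rcases h1.eq_bot_or_eq_top with h2 | h2
    · refine le_antisymm ?_ hZN
      rwa [Subgroup.map_eq_bot_iff, QuotientGroup.ker_mk'] at h2
    · exfalso
      have h3 : ∀ a : A, θ a ∈ center B := by
        intro a
        have h4 : QuotientGroup.mk' (center A) a ∈ N.map (QuotientGroup.mk' (center A)) := by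
          rw [h2]; trivial
        obtain ⟨b, hb, hab⟩ := h4
        have h5 : b⁻¹ * a ∈ center A := QuotientGroup.eq.1 hab
        have h6 : a = b * (b⁻¹ * a) := by group
        rw [h6]
        exact N.mul_mem hb (hZN h5)
      have hcomm : ∀ x y : A ⧸ center A, x * y = y * x := by
        intro x y
        obtain ⟨a, rfl⟩ := QuotientGroup.mk_surjective x
        obtain ⟨b, rfl⟩ := QuotientGroup.mk_surjective y
        refine QuotientGroup.eq.2 (hk ?_)
        rw [MonoidHom.mem_ker, map_mul, map_inv, map_mul, map_mul, mem_center_iff.1 (h3 b) (θ a), inv_mul_cancel]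
      let _ : CommGroup (A ⧸ center A) := { (inferInstance : Group (A ⧸ center A)) with mul_comm := hcomm }
      have hcyc : IsCyclic (A ⧸ center A) := IsSimpleGroup.isCyclic
      have h4 := commutative_of_cyclic_center_quotient (QuotientGroup.mk' (center A)) (by
        rw [QuotientGroup.ker_mk'])
      obtain ⟨x, hx⟩ := exists_ne (1 : A ⧸ center A)
      obtain ⟨a, rfl⟩ := QuotientGroup.mk_surjective x
      exact hx ((QuotientGroup.eq_one_iff a).2 (mem_center_iff.2 fun b => h4 b a))
  let f : A →* B ⧸ center B := (QuotientGroup.mk' (center B)).comp θ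
  have hf : Function.Surjective f := (QuotientGroup.mk'_surjective _).comp hθ
  have hfk : f.ker = center A := by
    rw [← hN]
    ext a
    rw [MonoidHom.mem_ker]
    exact QuotientGroup.eq_one_iff (θ a)
  exact ⟨(QuotientGroup.quotientMulEquivOfEq hfk.symm).trans (QuotientGroup.quotientKerEquivOfSurjective f hf)⟩

end Cfsg.Agent.H62.OIso
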