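import Mathlib
import Cfsg.Agent.Blocks.PrincipalSection
import Cfsg.Agent.Blocks.Deflate
import Cfsg.Agent.H644.CentralQuot

/-!
# The kernel function of the principal block on a `p`-section and modulo a central `p`-subgroup

* `kernel`: `∑ ζ ∈ B₀(G), ζ(x h) conj ζ(x h') = ∑ ψ ∈ B₀(C(x)), ψ(h) conj ψ(h')` for a `p`-element
  `x` and `p`-regular elements `h`, `h'` of `C(x)`;
* `kernel_quot`: for a central `p`-subgroup `U` and `p`-regular `h`, `h'`,
  `∑ ψ ∈ B₀(G), ψ(h) conj ψ(h') = |U| ∑ θ ∈ B₀(G/U), θ(h) conj θ(h')`.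
-/

set_option autoImplicit false

namespace Cfsg.Agent.H62.SecKernel

open Cfsg
open Cfsg.Agent.H644.CentralQuot

universe u

variable {G : Type u} [Group G] [Finite G] {p : ℕ} [hp : Fact p.Prime] {M : Ideal AlgInt}

theorem kernel (hM : IsPModular p M) {x : G} (hx : ∃ k : ℕ, orderOf x = p ^ k)
    (h h' : Subgroup.centralizer ({x} : Set G)) (hh : ¬ p ∣ orderOf h) (hh' : ¬ p ∣ orderOf h') :
    ∑ᶠ ζ ∈ principalBlock M G, (ζ : G → ℂ) (x * h) * (starRingEnd ℂ) ((ζ : G → ℂ) (x * h')) =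
      ∑ᶠ ψ ∈ principalBlock M (Subgroup.centralizer ({x} : Set G)),
        (ψ : Subgroup.centralizer ({x} : Set G) → ℂ) h *
          (starRingEnd ℂ) ((ψ : Subgroup.centralizer ({x} : Set G) → ℂ) h') :=
  Blocks.PrincipalSection.sum_principalBlock_section hM x hx rfl h h' hh hh'

/-- The principal block of the quotient by a central `p`-subgroup. -/
theorem infl_mem_iff (hM : IsPModular p M) {U : Subgroup G} [U.Normal]
    (hU : U ≤ Subgroup.center G) (hUp : IsPGroup p U) (θ : IrrCharacter (G ⧸ U)) :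
    infl U θ ∈ principalBlock M G ↔ θ ∈ principalBlock M (G ⧸ U) := by
  have := Fintype.ofFinite G
  exact sameBlock_infl_iff hM hU hUp ⟨fun _ => 1, Blocks.Basic.isIrrCharacter_one⟩ θ

/-- The sum of an irreducible character over a coset of a central subgroup. -/
theorem sum_coset {U : Subgroup G} [U.Normal] [Fintype U] (hU : U ≤ Subgroup.center G)
    (χ : IrrCharacter G) (h : G) (hχ : ¬ ∃ θ : IrrCharacter (G ⧸ U), infl U θ = χ) :
    ∑ u : U, (χ : G → ℂ) (u * h) = 0 := by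
  have hz : ∑ u : U, (χ : G → ℂ) u = 0 := by
    by_contra hne
    obtain ⟨θ, hθ⟩ := Blocks.Deflate.exists_deflation U (χ : G → ℂ) χ.2 hne
    exact hχ ⟨θ, Subtype.ext hθ.symm⟩
  have hc : ∀ u : U, ∃ c : ℂ, ∀ g : G, (χ : G → ℂ) (u * g) = c * (χ : G → ℂ) g := fun u => by
    obtain ⟨c, -, hc⟩ := Blocks.CentralizerSum.exists_central_scalar χ.2 (hU u.2)
    exact ⟨c, hc⟩
  choose c hc using hc
  have h1 : (∑ u : U, c u) * (χ : G → ℂ) 1 = 0 := by
    rw [Finset.sum_mul, ← hz]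
    refine Finset.sum_congr rfl fun u _ => ?_
    rw [← hc, mul_one]
  have h2 : ∑ u : U, c u = 0 := by
    rcases mul_eq_zero.1 h1 with h | h
    · exact h
    · exact absurd h (Blocks.Basic.irr_one_ne_zero χ.2)
  rw [Finset.sum_congr rfl fun u _ => hc u h, ← Finset.sum_mul, h2, zero_mul]

theorem kernel_quot (hM : IsPModular p M) (U : Subgroup G) [U.Normal]
    (hU : U ≤ Subgroup.center G) (hUp : IsPGroup p U) (h h' : G) (hh : ¬ p ∣ orderOf h)
    (hh' : ¬ p ∣ orderOf h') :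
    ∑ᶠ ψ ∈ principalBlock M G, (ψ : G → ℂ) h * (starRingEnd ℂ) ((ψ : G → ℂ) h') =
      Nat.card U * ∑ᶠ θ ∈ principalBlock M (G ⧸ U),
        (θ : G ⧸ U → ℂ) (h : G ⧸ U) * (starRingEnd ℂ) ((θ : G ⧸ U → ℂ) (h' : G ⧸ U)) := by
  classical
  have := Fintype.ofFinite G
  have := Fintype.ofFinite U
  have : Finite (IrrCharacter G) := Characters.Core.finite_irr
  have : Finite (IrrCharacter (G ⧸ U)) := Characters.Core.finite_irr
  have := Fintype.ofFinite (IrrCharacter G)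
  have := Fintype.ofFinite (IrrCharacter (G ⧸ U))
  -- the terms with `u ≠ 1` vanish
  have h0 : ∀ u : U, (u : G) ≠ 1 →
      ∑ᶠ ψ ∈ principalBlock M G, (ψ : G → ℂ) (u * h) * (starRingEnd ℂ) ((ψ : G → ℂ) h') = 0 := by
    intro u hu
    have huc := hU u.2
    refine Blocks.Orthogonality.block_orthogonality hM _ ?_ (x := (u : G)) (y := 1) ?_
      (Blocks.Orthogonality.isPPart_one_of_not_dvd hh') ?_
    · exact fun g => Blocks.Osima.memLocalRing_blockCoeff hM
        Blocks.PrincipalSection.isPBlock_principalBlock g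
    · refine ⟨h, rfl, (Subgroup.mem_center_iff.1 huc h).symm, ?_, hh⟩
      obtain ⟨k, hk⟩ := IsPGroup.iff_orderOf.1 hUp u
      exact ⟨k, by rw [← hk, ← Subgroup.orderOf_coe]⟩
    · intro hc
      exact hu (isConj_one_left.1 hc)
  have h1 : ∑ᶠ ψ ∈ principalBlock M G, (ψ : G → ℂ) h * (starRingEnd ℂ) ((ψ : G → ℂ) h') =
      ∑ u : U, ∑ᶠ ψ ∈ principalBlock M G,
        (ψ : G → ℂ) (u * h) * (starRingEnd ℂ) ((ψ : G → ℂ) h') := by
    rw [Finset.sum_eq_single (1 : U)]
    · simp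
    · intro u _ hu
      exact h0 u (fun hu1 => hu (Subtype.ext hu1))
    · intro hn
      exact absurd (Finset.mem_univ _) hn
  rw [h1]
  simp only [Blocks.Orthogonality.finsum_mem_eq_sum_filter]
  rw [Finset.sum_comm]
  have h2 : ∀ ψ : IrrCharacter G, (∑ u : U, (ψ : G → ℂ) (u * h) *
      (starRingEnd ℂ) ((ψ : G → ℂ) h')) =
      if ∃ θ : IrrCharacter (G ⧸ U), infl U θ = ψ then
        (Nat.card U : ℂ) * ((ψ : G → ℂ) h * (starRingEnd ℂ) ((ψ : G → ℂ) h')) else 0 := by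
    intro ψ
    rw [← Finset.sum_mul]
    split_ifs with hψ
    · obtain ⟨θ, rfl⟩ := hψ
      have h3 : ∀ u : U, (infl U θ : G → ℂ) (u * h) = (infl U θ : G → ℂ) h := by
        intro u
        rw [infl_apply, infl_apply]
        rw [QuotientGroup.mk_mul, (QuotientGroup.eq_one_iff _).2 u.2, one_mul]
      rw [Finset.sum_congr rfl fun u _ => h3 u, Finset.sum_const, Finset.card_univ,
        ← Nat.card_eq_fintype_card, nsmul_eq_mul, mul_assoc]
    · rw [sum_coset hU ψ h hψ, zero_mul]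
  rw [Finset.sum_congr rfl fun ψ _ => h2 ψ, ← Finset.sum_filter, Finset.filter_filter,
    Finset.mul_sum]
  symm
  refine Finset.sum_bij (fun θ _ => infl U θ) ?_ ?_ ?_ ?_
  · intro θ hθ
    rw [Finset.mem_filter] at hθ ⊢
    exact ⟨Finset.mem_univ _, (infl_mem_iff hM hU hUp θ).2 hθ.2, θ, rfl⟩
  · intro θ _ θ' _ he
    exact infl_injective U he
  · intro ψ hψ
    rw [Finset.mem_filter] at hψ
    obtain ⟨-, hψ, θ, rfl⟩ := hψ
    exact ⟨θ, Finset.mem_filter.2 ⟨Finset.mem_univ _, (infl_mem_iff hM hU hUp θ).1 hψ⟩, rfl⟩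
  · intro θ _
    rfl

end Cfsg.Agent.H62.SecKernel
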